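import Cfsg.Agent.H97.J1Simple
import Cfsg.Agent.H97.J1InvSort

/-!
The 1463 involutions of J₁ and the centraliser of an involution.
-/

set_option maxRecDepth 100000

namespace H97

namespace J1

open Cfsg.Spor

/-- The table index of involution `i`. -/
def iv (i : ℕ) : ℕ := look 40 invTab i

/-- The `i`-th involution. -/
noncomputable def inv2 (i : ℕ) : J1 := el (iv i)

/-- The code of the `i`-th involution. -/
def vc (i : ℕ) : ℕ := ec (iv i)

theorem code_inv2 (i : ℕ) : code (inv2 i) = vc i := code_el _

def invOK (i : ℕ) : Bool :=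
  cm (vc i) (vc i) == cOne && !(vc i == cOne) && decide (iv i < 175560) &&
    decide (look 40 invXTab i < 1463) && cm (vc i) cX == cm cX (vc (look 40 invXTab i)) &&
    decide (look 40 invYTab i < 1463) && cm (vc i) cY == cm cY (vc (look 40 invYTab i))

theorem invOK_all : allB 1463 invOK = true := by decide +kernel

def invSortOK (k : ℕ) : Bool :=
  decide (look 40 invSortTab k < 1463) &&
    (k == 0 || decide (iv (look 40 invSortTab (k - 1)) < iv (look 40 invSortTab k)))

theorem invSortOK_all : allB 1463 invSortOK = true := by decide +kernel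

theorem el_inj {a b : ℕ} (ha : a < 175560) (hb : b < 175560) (h : el a = el b) : a = b := by
  have h' := elt_bijective.1 h
  simp only [Prod.mk.injEq, Fin.mk.injEq] at h'
  omega

theorem iv_lt {i : ℕ} (hi : i < 1463) : iv i < 175560 := by
  have h := allB_spec invOK_all i hi
  simp only [invOK, Bool.and_eq_true, decide_eq_true_eq] at h
  exact h.1.1.1.1.2

theorem orderOf_inv2 {i : ℕ} (hi : i < 1463) : orderOf (inv2 i) = 2 := by
  have h := allB_spec invOK_all i hi
  simp only [invOK, Bool.and_eq_true, beq_iff_eq, Bool.not_eq_true', beq_eq_false_iff_ne,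
    decide_eq_true_eq] at h
  refine orderOf_eq_prime (code_inj ?_) fun e => h.1.1.1.1.1.2 ?_
  · rw [pow_two, code_mul, code_inv2, code_one]
    exact h.1.1.1.1.1.1
  · rw [← code_inv2, e, code_one]

theorem inv2_inj {i j : ℕ} (hi : i < 1463) (hj : j < 1463) (h : inv2 i = inv2 j) : i = j := by
  let p : Fin 1463 → Fin 1463 := fun k => ⟨look 40 invSortTab k, by
    have := allB_spec invSortOK_all k k.isLt
    simp only [invSortOK, Bool.and_eq_true, decide_eq_true_eq] at this
    exact this.1⟩
  have hs : StrictMono fun k : Fin 1463 => iv (p k) := by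
    refine Fin.strictMono_iff_lt_succ.2 fun k => ?_
    have := allB_spec invSortOK_all (k + 1) (by omega)
    simp only [invSortOK, Bool.and_eq_true, Bool.or_eq_true, beq_iff_eq, decide_eq_true_eq,
      Nat.add_sub_cancel] at this
    rcases this.2 with h0 | h0
    · omega
    · exact h0
  have hp : Function.Bijective p :=
    Finite.injective_iff_bijective.1 fun a b e => hs.injective (by simp only [e])
  obtain ⟨a, ha⟩ := hp.2 ⟨i, hi⟩
  obtain ⟨b, hb⟩ := hp.2 ⟨j, hj⟩
  have e := el_inj (iv_lt hi) (iv_lt hj) h
  have hab : iv (p a) = iv (p b) := by rw [ha, hb]; exact e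
  have := hs.injective hab
  subst this
  exact Fin.mk.inj_iff.1 (ha.symm.trans hb)

/-- A set of a finite group closed under conjugation by generators is closed under conjugation. -/
theorem conjClosed_of_closure {G : Type*} [Group G] [Finite G] (T : Set G)
    (hT : Subgroup.closure T = ⊤) (S : Set G) (h : ∀ t ∈ T, ∀ s ∈ S, t⁻¹ * s * t ∈ S) (g : G) :
    ∀ s ∈ S, g⁻¹ * s * g ∈ S := by
  have key : ∀ g ∈ Subgroup.closure T, ∀ s ∈ S, g⁻¹ * s * g ∈ S := by
    intro g hg
    induction hg using Subgroup.closure_induction with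
    | mem x hx => exact h x hx
    | one => intro s hs; simpa using hs
    | mul x y _ _ hx hy =>
      intro s hs
      have := hy _ (hx s hs)
      simpa [mul_assoc] using this
    | inv x _ hx =>
      have hp : ∀ n : ℕ, ∀ s ∈ S, (x ^ n)⁻¹ * s * x ^ n ∈ S := by
        intro n
        induction n with
        | zero => intro s hs; simpa using hs
        | succ n ih =>
          intro s hs
          have := hx _ (ih s hs)
          simpa [pow_succ, mul_assoc] using this
      have e : x⁻¹ = x ^ (orderOf x - 1) := by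
        symm
        apply eq_inv_of_mul_eq_one_left
        rw [← pow_succ, Nat.sub_add_cancel (orderOf_pos x), pow_orderOf_eq_one]
      rw [e]
      exact hp _
  exact key g (hT ▸ Subgroup.mem_top g)

theorem inv2_conj (g : J1) {i : ℕ} (hi : i < 1463) : ∃ j < 1463, g⁻¹ * inv2 i * g = inv2 j := by
  have := conjClosed_of_closure ({genX, genY} : Set J1) closure_gen
    {z | ∃ j < 1463, z = inv2 j} ?_ g (inv2 i) ⟨i, hi, rfl⟩
  · exact this
  rintro t ht s ⟨j, hj, rfl⟩
  have h := allB_spec invOK_all j hj
  simp only [invOK, Bool.and_eq_true, beq_iff_eq, decide_eq_true_eq] at h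
  rcases ht with rfl | rfl
  · refine ⟨_, h.1.1.1.2, ?_⟩
    rw [mul_assoc, inv_mul_eq_iff_eq_mul]
    exact code_inj (by rw [code_mul, code_mul, code_inv2, code_inv2, code_genX]; exact h.1.1.2)
  · refine ⟨_, h.1.2, ?_⟩
    rw [mul_assoc, inv_mul_eq_iff_eq_mul]
    exact code_inj (by rw [code_mul, code_mul, code_inv2, code_inv2, code_genY]; exact h.2)

/-- The distinguished involution. -/
noncomputable def tInv : J1 := inv2 0

theorem orderOf_tInv : orderOf tInv = 2 := orderOf_inv2 (by norm_num)

/-- The 1463 table entries are all involutions of J₁. -/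
theorem exists_inv2 {g : J1} (hg : orderOf g = 2) : ∃ j < 1463, g = inv2 j := by
  obtain ⟨x, hx⟩ := isConj_iff.1 (isConj_of_orderOf_two orderOf_tInv hg)
  obtain ⟨j, hj, e⟩ := inv2_conj x⁻¹ (i := 0) (by norm_num)
  exact ⟨j, hj, by rw [← e, inv_inv, ← hx]; rfl⟩

/-- The centraliser of the distinguished involution. -/
abbrev CT : Subgroup J1 := Subgroup.centralizer ({tInv} : Set J1)

theorem card_CT : Nat.card CT = 120 := by
  have horb : MulAction.orbit (ConjAct J1) tInv = Set.range fun i : Fin 1463 => inv2 i := by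
    ext g
    rw [ConjAct.mem_orbit_conjAct]
    constructor
    · intro h
      obtain ⟨x, hx⟩ := isConj_iff.1 h
      have : orderOf g = 2 := by
        have e : g = x⁻¹ * tInv * x⁻¹⁻¹ := by rw [← hx]; group
        rw [e, orderOf_conj', orderOf_tInv]
      obtain ⟨j, hj, rfl⟩ := exists_inv2 this
      exact ⟨⟨j, hj⟩, rfl⟩
    · rintro ⟨i, rfl⟩
      exact isConj_of_orderOf_two (orderOf_inv2 i.isLt) orderOf_tInv
  have hc : Nat.card (MulAction.orbit (ConjAct J1) tInv) = 1463 := by
    rw [horb, Nat.card_range_of_injective, Nat.card_fin]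
    exact fun a b h => Fin.ext (inv2_inj a.isLt b.isLt h)
  have h := Nat.card_congr (MulAction.orbitProdStabilizerEquivGroup (ConjAct J1) tInv)
  rw [Nat.card_prod, hc] at h
  have hs : Nat.card (MulAction.stabilizer (ConjAct J1) tInv) = Nat.card CT := by
    rw [ConjAct.stabilizer_eq_centralizer]
    refine Nat.card_congr ((Equiv.subtypeEquiv ConjAct.ofConjAct.toEquiv fun g => ?_))
    simp only [Subgroup.mem_centralizer_iff, Set.mem_singleton_iff, forall_eq]
    rfl
  rw [hs] at h
  have : Nat.card (ConjAct J1) = 175560 := card_J1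
  omega

def ctv (j : ℕ) : ℕ := look 10 centTab j

/-- The `j`-th element centralising `tInv`. -/
noncomputable def cte (j : ℕ) : J1 := el (ctv j)

def genV (s : ℕ) : ℕ := if s = 0 then iv 0 else if s = 1 then centGenA else centGenB

def centOK (j : ℕ) : Bool :=
  decide (ctv j < 175560) && cm (vc 0) (ec (ctv j)) == cm (ec (ctv j)) (vc 0) &&
    (allB j fun k => !(ctv j == ctv k)) &&
    (allB 3 fun s => decide (look 30 centMulTab (3 * j + s) < 120) &&
      cm (ec (ctv j)) (ec (genV s)) == ec (ctv (look 30 centMulTab (3 * j + s)))) &&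
    (j == 0 || (decide (look 10 centParTab j / 3 < j) &&
      look 30 centMulTab (look 10 centParTab j) == j))

theorem centOK_all : allB 120 centOK = true := by decide +kernel

theorem ctv_zero : ec (ctv 0) = cOne := by decide +kernel

theorem cte_zero : cte 0 = 1 := code_inj (by rw [cte, code_el, ctv_zero, code_one])

theorem cte_mem {j : ℕ} (hj : j < 120) : cte j ∈ CT := by
  have h := allB_spec centOK_all j hj
  simp only [centOK, Bool.and_eq_true, beq_iff_eq] at h
  refine Subgroup.mem_centralizer_singleton_iff.2 (code_inj ?_)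
  rw [code_mul, code_mul, cte, code_el, tInv, code_inv2]
  first
    | exact h.1.1.1.2
    | exact h.1.1.1.2.symm

theorem cte_inj {i j : ℕ} (hi : i < 120) (hj : j < 120) (h : cte i = cte j) : i = j := by
  have key : ∀ a b, a < 120 → b < a → cte a ≠ cte b := by
    intro a b ha hb e
    have h := allB_spec centOK_all a ha
    simp only [centOK, Bool.and_eq_true, decide_eq_true_eq] at h
    have h' := allB_spec centOK_all b (by omega)
    simp only [centOK, Bool.and_eq_true, decide_eq_true_eq] at h'
    have := allB_spec h.1.1.2 b hb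
    simp only [Bool.not_eq_true', beq_eq_false_iff_ne] at this
    exact this (el_inj h.1.1.1.1 h'.1.1.1.1 e)
  rcases lt_trichotomy i j with hl | hl | hl
  · exact absurd h.symm (key j i hj hl)
  · exact hl
  · exact absurd h (key i j hi hl)

/-- Enumeration of the centraliser. -/
noncomputable def cteEquiv : Fin 120 ≃ CT :=
  Equiv.ofBijective (fun j => (⟨cte j, cte_mem j.isLt⟩ : CT)) (by
    refine (Nat.bijective_iff_injective_and_card _).2 ⟨?_, by rw [Nat.card_fin, card_CT]⟩
    intro a b h
    exact Fin.ext (cte_inj a.isLt b.isLt (Subtype.ext_iff.1 h)))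

/-- The target group. -/
abbrev Z2A5 : Type := Multiplicative (ZMod 2) × Equiv.Perm (Fin 5)

def genP (s : ℕ) : Z2A5 :=
  if s = 0 then (Multiplicative.ofAdd 1, 1)
  else if s = 1 then (1, Equiv.swap 1 2 * Equiv.swap 3 4)
  else (1, Equiv.swap 0 1 * Equiv.swap 1 3)

/-- The image of `cte j`, following the parent pointers. -/
def imgF : ℕ → ℕ → Z2A5
  | 0, _ => 1
  | n + 1, j => if j = 0 then 1 else imgF n (look 10 centParTab j / 3) *
      genP (look 10 centParTab j % 3)

def img (j : ℕ) : Z2A5 := imgF 24 j

def imgOK (j : ℕ) : Bool :=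
  (allB 3 fun s => decide (img (look 30 centMulTab (3 * j + s)) = img j * genP s)) &&
    decide (Equiv.Perm.sign (img j).2 = 1) && (j == 0 || !decide (img j = 1))

theorem imgOK_all : allB 120 imgOK = true := by decide +kernel

theorem img_mul (j : ℕ) (hj : j < 120) : ∀ m < 120, ∃ k < 120,
    cte m * cte j = cte k ∧ img k = img m * img j := by
  induction j using Nat.strong_induction_on with
  | _ j ih =>
  intro m hm
  rcases Nat.eq_zero_or_pos j with rfl | hpos
  · exact ⟨m, hm, by rw [cte_zero, mul_one], by rw [show img 0 = 1 from rfl, mul_one]⟩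
  have h := allB_spec centOK_all j hj
  simp only [centOK, Bool.and_eq_true, Bool.or_eq_true, beq_iff_eq, decide_eq_true_eq] at h
  obtain ⟨hp, hmul⟩ := h.2.resolve_left (by omega)
  set q := look 10 centParTab j
  have step : ∀ a < 120, ∀ s < 3, look 30 centMulTab (3 * a + s) < 120 ∧
      cte a * el (genV s) = cte (look 30 centMulTab (3 * a + s)) ∧
      img (look 30 centMulTab (3 * a + s)) = img a * genP s := by
    intro a ha s hs
    have h := allB_spec centOK_all a ha
    simp only [centOK, Bool.and_eq_true] at h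
    have h1 := allB_spec h.1.2 s hs
    simp only [Bool.and_eq_true, beq_iff_eq, decide_eq_true_eq] at h1
    have h2 := allB_spec imgOK_all a ha
    simp only [imgOK, Bool.and_eq_true] at h2
    exact ⟨h1.1, code_inj (by rw [code_mul, cte, cte, code_el, code_el, code_el]; exact h1.2),
      of_decide_eq_true (allB_spec h2.1.1 s hs)⟩
  have hq : 3 * (q / 3) + q % 3 = q := Nat.div_add_mod q 3
  obtain ⟨-, e1, f1⟩ := step (q / 3) (by omega) (q % 3) (Nat.mod_lt _ (by norm_num))
  rw [hq, hmul] at e1 f1
  obtain ⟨k, hk, e2, f2⟩ := ih (q / 3) hp (by omega) m hm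
  obtain ⟨hlt, e3, f3⟩ := step k hk (q % 3) (Nat.mod_lt _ (by norm_num))
  exact ⟨_, hlt, by rw [← e1, ← mul_assoc, e2, e3], by rw [f3, f2, f1, mul_assoc]⟩

theorem sign_img {j : ℕ} (hj : j < 120) : Equiv.Perm.sign (img j).2 = 1 := by
  have h := allB_spec imgOK_all j hj
  simp only [imgOK, Bool.and_eq_true, decide_eq_true_eq] at h
  exact h.1.2

/-- The comparison homomorphism. -/
noncomputable def centHom : CT →* Multiplicative (ZMod 2) × alternatingGroup (Fin 5) :=
  MonoidHom.mk' (fun x => ((img (cteEquiv.symm x)).1,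
      ⟨(img (cteEquiv.symm x)).2, sign_img (cteEquiv.symm x).isLt⟩)) (by
    intro x y
    obtain ⟨a, rfl⟩ := cteEquiv.surjective x
    obtain ⟨b, rfl⟩ := cteEquiv.surjective y
    obtain ⟨k, hk, e, f⟩ := img_mul b b.isLt a a.isLt
    have : cteEquiv a * cteEquiv b = cteEquiv ⟨k, hk⟩ := Subtype.ext e
    simp only [this, Equiv.symm_apply_apply]
    have f1 := congrArg Prod.fst f
    have f2 := congrArg Prod.snd f
    exact Prod.ext f1 (Subtype.ext f2))

theorem centHom_injective : Function.Injective centHom := by
  rw [injective_iff_map_eq_one]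
  intro x hx
  obtain ⟨a, rfl⟩ := cteEquiv.surjective x
  have h1 : img a = 1 := by
    have e1 := congrArg Prod.fst hx
    have e2 := congrArg Subtype.val (congrArg Prod.snd hx)
    simp only [centHom, MonoidHom.mk'_apply, Equiv.symm_apply_apply] at e1 e2
    exact Prod.ext e1 e2
  have h := allB_spec imgOK_all a a.isLt
  simp only [imgOK, Bool.and_eq_true, Bool.or_eq_true, beq_iff_eq, Bool.not_eq_true',
    decide_eq_false_iff_not] at h
  have : (a : ℕ) = 0 := h.2.resolve_right fun h' => h' h1
  exact Subtype.ext (by show cte a = 1; rw [this, cte_zero])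

theorem nonempty_centEquiv :
    Nonempty (CT ≃* Multiplicative (ZMod 2) × alternatingGroup (Fin 5)) := by
  refine ⟨MulEquiv.ofBijective centHom ((Nat.bijective_iff_injective_and_card _).2
    ⟨centHom_injective, ?_⟩)⟩
  rw [card_CT, Nat.card_prod, nat_card_alternatingGroup, Nat.card_fin,
    show Nat.card (Multiplicative (ZMod 2)) = 2 from Nat.card_zmod 2]
  rfl

end J1

end H97
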