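import Cfsg.Agent.H97.J1Classes
import Cfsg.Agent.H97.J1CertData

/-!
Table elements of J₁ and its simplicity.
-/

set_option maxRecDepth 100000

namespace H97

namespace J1

open Cfsg.Spor

/-- The code of the `v`-th table element. -/
def ec (v : ℕ) : ℕ := cm (hc (v / 1596 % 110)) (rc (v % 1596))

/-- The `v`-th table element. -/
noncomputable def el (v : ℕ) : J1 :=
  elt (⟨v / 1596 % 110, Nat.mod_lt _ (by norm_num)⟩, ⟨v % 1596, Nat.mod_lt _ (by norm_num)⟩)

/-- The code of an element of J₁. -/
def code (g : J1) : ℕ := encG (g : GL (Fin 7) (ZMod 11))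

theorem code_mul (a b : J1) : code (a * b) = cm (code a) (code b) := by
  simp [code, encG_mul]

theorem code_one : code 1 = cOne := by simp [code, encG_one]

theorem code_inj {a b : J1} (h : code a = code b) : a = b := Subtype.ext (encG_inj h)

theorem code_el (v : ℕ) : code (el v) = ec v := encG_elt _

theorem code_classRep (c : Fin 15) : code (classRep c) = cc c := encG_classRep c

theorem code_pow (g : J1) (n : ℕ) : code (g ^ n) = pw (code g) n := by
  induction n with
  | zero => rw [pow_zero, code_one, pw]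
  | succ n ih => rw [pow_succ, code_mul, ih, pw]

/-- The generator X as an element of J₁. -/
def genX : J1 := ⟨jankoX, jankoX_mem⟩

/-- The generator Y as an element of J₁. -/
def genY : J1 := ⟨jankoY, jankoY_mem⟩

theorem code_genX : code genX = cX := encG_X

theorem code_genY : code genY = cY := encG_Y

theorem closure_gen : Subgroup.closure ({genX, genY} : Set J1) = ⊤ := by
  apply Subgroup.map_injective J1.subtype_injective
  rw [MonoidHom.map_closure, ← MonoidHom.range_eq_map, Subgroup.range_subtype,
    Set.image_insert_eq, Set.image_singleton]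
  rfl

theorem eq_top_of_gen_mem {H : Subgroup J1} (hx : genX ∈ H) (hy : genY ∈ H) : H = ⊤ := by
  rw [eq_top_iff, ← closure_gen, Subgroup.closure_le]
  simp [Set.insert_subset_iff, hx, hy]

/-- Two conjugates of the representative `c` multiply to the target code. -/
def simpleOK (T o c : ℕ) : Bool :=
  cm (ec (look 4 simpleTab (4 * c + o))) (ec (look 4 simpleInvTab (4 * c + o))) == cOne &&
  cm (ec (look 4 simpleTab (4 * c + o + 1))) (ec (look 4 simpleInvTab (4 * c + o + 1))) == cOne &&
  cm (cm (cm (ec (look 4 simpleTab (4 * c + o))) (cc (c + 1))) (ec (look 4 simpleInvTab (4 * c + o))))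
    (cm (cm (ec (look 4 simpleTab (4 * c + o + 1))) (cc (c + 1)))
      (ec (look 4 simpleInvTab (4 * c + o + 1)))) == T

theorem simpleX_all : allB 14 (simpleOK cX 0) = true := by decide +kernel
theorem simpleY_all : allB 14 (simpleOK cY 2) = true := by decide +kernel

theorem gen_mem_of_normal (N : Subgroup J1) [N.Normal] (c : ℕ) (hc' : c + 1 < 15)
    (hmem : classRep ⟨c + 1, hc'⟩ ∈ N) (g : J1) (o : ℕ)
    (h : simpleOK (code g) o c = true) : g ∈ N := by
  simp only [simpleOK, Bool.and_eq_true, beq_iff_eq] at h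
  obtain ⟨⟨h1, h2⟩, h3⟩ := h
  have i1 : el (look 4 simpleInvTab (4 * c + o)) = (el (look 4 simpleTab (4 * c + o)))⁻¹ :=
    eq_inv_of_mul_eq_one_right (code_inj (by rw [code_mul, code_el, code_el, code_one]; exact h1))
  have i2 : el (look 4 simpleInvTab (4 * c + o + 1)) = (el (look 4 simpleTab (4 * c + o + 1)))⁻¹ :=
    eq_inv_of_mul_eq_one_right (code_inj (by rw [code_mul, code_el, code_el, code_one]; exact h2))
  have e : el (look 4 simpleTab (4 * c + o)) * classRep ⟨c + 1, hc'⟩ *
      el (look 4 simpleInvTab (4 * c + o)) * (el (look 4 simpleTab (4 * c + o + 1)) *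
        classRep ⟨c + 1, hc'⟩ * el (look 4 simpleInvTab (4 * c + o + 1))) = g := code_inj (by
    simp only [code_mul, code_el, code_classRep]; exact h3)
  rw [← e, i1, i2]
  exact mul_mem (Subgroup.Normal.conj_mem ‹_› _ hmem _) (Subgroup.Normal.conj_mem ‹_› _ hmem _)

theorem isSimpleGroup_J1 : IsSimpleGroup J1 := by
  haveI : Nontrivial J1 := ⟨⟨classRep 1, 1, fun h => by
    have := orderOf_classRep 1; rw [h, orderOf_one] at this; revert this; decide⟩⟩
  refine ⟨fun N hN => ?_⟩
  rcases N.bot_or_exists_ne_one with hb | ⟨g, hg, hg1⟩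
  · exact Or.inl hb
  right
  haveI := hN
  obtain ⟨⟨c, hc15⟩, hc'⟩ := exists_isConj_classRep g
  obtain ⟨x, hx⟩ := isConj_iff.1 hc'
  have hmem : classRep ⟨c, hc15⟩ ∈ N := by
    have : x⁻¹ * g * x⁻¹⁻¹ ∈ N := Subgroup.Normal.conj_mem hN g hg _
    rw [← hx] at this
    simpa [mul_assoc] using this
  rcases c with _ | c
  · exact absurd (by
      have : classRep ⟨0, hc15⟩ = 1 := orderOf_eq_one_iff.1 (by rw [orderOf_classRep]; rfl)
      rw [← hx, this, mul_one, mul_inv_cancel]) hg1
  · exact eq_top_of_gen_mem
      (gen_mem_of_normal N c hc15 hmem genX 0 (by rw [code_genX]; exact allB_spec simpleX_all c (by omega)))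
      (gen_mem_of_normal N c hc15 hmem genY 2 (by rw [code_genY]; exact allB_spec simpleY_all c (by omega)))

theorem not_commutative_J1 : ¬ IsMulCommutative J1 := fun _ => by
  have : ¬ cm cX cY = cm cY cX := by decide +kernel
  apply this
  rw [← code_genX, ← code_genY, ← code_mul, ← code_mul, mul_comm']

end J1

end H97
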