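import Cfsg.Agent.H97.SchurCertDefs

/-! Certificate: 2-part of the multiplier of M24. -/

set_option maxRecDepth 20000

namespace H97.SchurCert

def dataM24p2 : Data where
  p := 2
  n := 10
  syms := [
    984158983359129550953007900942075936,
    970558404486387806554625255371150368,
    984778947275340660717821982278781344,
    734930632400139084820776558700628559,
    984404951986650291017642929327245344,
    969202056781860934635753244362607648,
    568947635157983003572628728035215361,
    976607671605327482668242317735039008,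
    28938665076611168234571049512044983,
    958359841193275559058527489894996000,
    417299972299501570636554043874951573,
    888023876122517077443478637910762734,
    440658610412019375136605461372469383,
    100242662779152485441962848222416593]
  rules := [
    ([0, 0], []),
    ([1, 1], [7]),
    ([2, 2], []),
    ([3, 3], [8]),
    ([4, 4], []),
    ([5, 5], []),
    ([6, 6], []),
    ([7, 7], []),
    ([8, 8], []),
    ([9, 9], []),
    ([1, 0], [0, 1, 7, 9]),
    ([2, 0], [0, 2, 4]),
    ([2, 1], [1, 2, 5]),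
    ([3, 0], [0, 3, 6]),
    ([3, 1], [1, 3, 7, 8, 9]),
    ([3, 2], [2, 3, 8]),
    ([4, 0], [0, 4]),
    ([4, 1], [1, 4, 7]),
    ([4, 2], [2, 4]),
    ([4, 3], [3, 4, 8]),
    ([5, 0], [0, 5, 7]),
    ([5, 1], [1, 5, 9]),
    ([5, 2], [2, 5]),
    ([5, 3], [3, 5]),
    ([5, 4], [4, 5, 9]),
    ([6, 0], [0, 6]),
    ([6, 1], [1, 6, 9]),
    ([6, 2], [2, 6, 8]),
    ([6, 3], [3, 6]),
    ([6, 4], [4, 6]),
    ([6, 5], [5, 6, 9]),
    ([7, 0], [0, 7]),
    ([7, 1], [1, 7]),
    ([7, 2], [2, 7, 9]),
    ([7, 3], [3, 7, 9]),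
    ([7, 4], [4, 7]),
    ([7, 5], [5, 7]),
    ([7, 6], [6, 7]),
    ([8, 0], [0, 8]),
    ([8, 1], [1, 8, 9]),
    ([8, 2], [2, 8]),
    ([8, 3], [3, 8]),
    ([8, 4], [4, 8]),
    ([8, 5], [5, 8]),
    ([8, 6], [6, 8]),
    ([8, 7], [7, 8]),
    ([9, 0], [0, 9]),
    ([9, 1], [1, 9]),
    ([9, 2], [2, 9]),
    ([9, 3], [3, 9]),
    ([9, 4], [4, 9]),
    ([9, 5], [5, 9]),
    ([9, 6], [6, 9]),
    ([9, 7], [7, 9]),
    ([9, 8], [8, 9]),
    ([10, 7], [3, 4, 6, 8, 10]),
    ([10, 0, 1, 6, 7, 9], [5, 8, 10]),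
    ([10, 4, 5, 6, 7, 8], [1, 4, 6, 7, 8, 10]),
    ([11, 4], [4, 6, 7, 9, 11]),
    ([11, 0, 4, 6, 7], [0, 6, 11]),
    ([12, 0, 4, 6], [1, 4, 5, 7, 9, 12]),
    ([12, 6, 8], [5, 7, 9, 12]),
    ([12, 1, 3, 7, 8], [2, 3, 5, 8, 12]),
    ([13, 0], [2, 8, 13]),
    ([13, 0, 7], [2, 4, 13]),
    ([13, 5, 7, 9], [0, 4, 6, 8, 13]),
    ([13, 4, 6, 8], [4, 9, 13]),
    ([13, 2, 3, 8], [0, 7, 13])]
  defs := [(11, 4), (12, 5), (13, 6), (17, 7), (19, 8), (33, 9)]
  targets := [0, 1, 2, 3, 4, 5, 6, 7, 8, 9, 10, 14, 15, 16, 18, 20, 21, 22, 23, 24, 25, 26, 27, 28, 29, 30, 31, 32, 34, 35, 36, 37, 38, 39, 40, 41, 42, 43, 44, 45, 46, 47, 48, 49, 50, 51, 52, 53, 54]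
  paths := [
    ([2, 1, 0], [(0, 12, true), (2, 20, true), (1, 11, true), (0, 10, true), (3, 48, true), (2, 33, true), (4, 9, true), (3, 35, true), (4, 36, true), (5, 7, true), (5, 9, false), (5, 7, false), (6, 53, false), (5, 53, false), (3, 24, false), (1, 12, false), (2, 17, false), (0, 11, false), (1, 10, false)]),
    ([3, 1, 0], [(0, 14, true), (4, 46, true), (3, 38, true), (2, 31, true), (1, 13, true), (0, 10, true), (3, 49, true), (2, 34, true), (4, 9, true), (3, 37, true), (4, 7, true), (4, 7, false), (5, 45, false), (6, 9, false), (3, 37, false), (4, 44, false), (5, 52, false), (1, 14, false), (2, 26, false), (0, 13, false), (1, 10, false)]),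
    ([3, 2, 0], [(0, 15, true), (2, 38, true), (1, 13, true), (0, 11, true), (2, 19, true), (4, 44, true), (5, 8, true), (3, 29, false), (4, 8, false), (3, 44, false), (1, 15, false), (2, 27, false), (0, 13, false), (1, 11, false)]),
    ([3, 2, 1], [(0, 15, true), (2, 39, true), (1, 14, true), (0, 12, true), (2, 23, true), (6, 54, true), (5, 8, true), (5, 9, true), (3, 36, false), (4, 9, false), (4, 8, false), (5, 54, false), (3, 45, false), (1, 15, false), (2, 33, false), (3, 40, false), (4, 48, false), (0, 14, false), (1, 12, false)]),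
    ([4, 1, 0], [(0, 17, true), (2, 31, true), (1, 16, true), (0, 10, true), (3, 50, true), (2, 35, true), (4, 53, true), (3, 7, true), (3, 7, false), (1, 17, false), (0, 16, false), (1, 10, false)]),
    ([4, 2, 1], [(0, 18, true), (1, 17, true), (0, 12, true), (2, 24, true), (4, 53, true), (3, 36, false), (4, 51, false), (1, 18, false), (2, 33, false), (0, 17, false), (1, 12, false)]),
    ([4, 3, 0], [(0, 19, true), (2, 38, true), (1, 16, true), (0, 13, true), (2, 29, true), (3, 44, false), (1, 19, false), (0, 16, false), (1, 13, false)]),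
    ([4, 3, 1], [(0, 19, true), (2, 39, true), (1, 17, true), (0, 14, true), (4, 50, true), (3, 42, true), (2, 35, true), (5, 53, true), (4, 45, true), (3, 7, true), (4, 54, true), (3, 8, true), (3, 9, true), (3, 9, false), (3, 8, false), (4, 54, false), (3, 7, false), (4, 45, false), (5, 53, false), (3, 45, false), (1, 19, false), (2, 34, false), (0, 17, false), (1, 14, false)]),
    ([4, 3, 2], [(0, 19, true), (2, 40, true), (1, 18, true), (0, 15, true), (2, 42, true), (3, 8, true), (3, 8, false), (1, 19, false), (0, 18, false), (1, 15, false)]),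
    ([5, 1, 0], [(0, 21, true), (2, 46, true), (1, 20, true), (0, 10, true), (3, 51, true), (2, 36, true), (4, 53, true), (3, 7, true), (3, 9, true), (3, 9, false), (3, 7, false), (4, 53, false), (3, 53, false), (1, 21, false), (2, 32, false), (0, 20, false), (1, 10, false)]),
    ([5, 2, 0], [(0, 22, true), (1, 20, true), (0, 11, true), (5, 9, false), (4, 53, false), (2, 24, false), (3, 35, false), (4, 50, false), (1, 22, false), (2, 33, false), (0, 20, false), (1, 11, false)]),
    ([5, 2, 1], [(0, 22, true), (1, 21, true), (0, 12, true), (2, 5, true), (2, 5, false), (3, 51, false), (1, 22, false), (2, 48, false), (0, 21, false), (1, 12, false)]),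
    ([5, 3, 0], [(0, 23, true), (1, 20, true), (0, 13, true), (2, 30, true), (4, 53, true), (3, 37, false), (4, 52, false), (1, 23, false), (2, 34, false), (0, 20, false), (1, 13, false)]),
    ([5, 3, 1], [(0, 23, true), (1, 21, true), (0, 14, true), (4, 51, true), (3, 43, true), (2, 36, true), (5, 9, true), (5, 9, false), (4, 54, false), (3, 53, false), (1, 23, false), (2, 49, false), (0, 21, false), (1, 14, false)]),
    ([5, 3, 2], [(0, 23, true), (1, 22, true), (0, 15, true), (2, 43, true), (1, 23, false), (0, 22, false), (1, 15, false)]),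
    ([5, 4, 0], [(0, 24, true), (2, 46, true), (1, 20, true), (0, 16, true), (3, 53, false), (1, 24, false), (2, 35, false), (0, 20, false), (1, 16, false)]),
    ([5, 4, 1], [(0, 24, true), (2, 47, true), (1, 21, true), (0, 17, true), (2, 36, true), (4, 9, true), (3, 9, false), (1, 24, false), (2, 50, false), (0, 21, false), (1, 17, false)]),
    ([5, 4, 2], [(0, 24, true), (2, 48, true), (1, 22, true), (0, 18, true), (1, 24, false), (0, 22, false), (1, 18, false)]),
    ([5, 4, 3], [(0, 24, true), (2, 49, true), (1, 23, true), (0, 19, true), (2, 43, true), (3, 54, false), (1, 24, false), (0, 23, false), (1, 19, false)]),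
    ([6, 1, 0], [(0, 26, true), (2, 46, true), (1, 25, true), (0, 10, true), (3, 52, true), (2, 37, true), (4, 9, true), (4, 9, false), (3, 53, false), (1, 26, false), (0, 25, false), (1, 10, false)]),
    ([6, 2, 0], [(0, 27, true), (2, 38, true), (1, 25, true), (0, 11, true), (2, 29, false), (3, 42, false), (1, 27, false), (0, 25, false), (1, 11, false)]),
    ([6, 2, 1], [(0, 27, true), (2, 39, true), (1, 26, true), (0, 12, true), (4, 54, true), (5, 9, true), (5, 9, false), (4, 54, false), (2, 30, false), (3, 43, false), (4, 51, false), (1, 27, false), (2, 48, false), (0, 26, false), (1, 12, false)]),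
    ([6, 3, 1], [(0, 28, true), (1, 26, true), (0, 14, true), (4, 52, true), (3, 44, true), (2, 37, true), (5, 9, true), (5, 9, false), (4, 54, false), (3, 53, false), (1, 28, false), (2, 49, false), (0, 26, false), (1, 14, false)]),
    ([6, 3, 2], [(0, 28, true), (1, 27, true), (0, 15, true), (2, 44, true), (3, 8, true), (3, 8, false), (1, 28, false), (2, 41, false), (0, 27, false), (1, 15, false)]),
    ([6, 4, 1], [(0, 29, true), (1, 26, true), (0, 17, true), (2, 37, true), (3, 53, false), (1, 29, false), (2, 50, false), (0, 26, false), (1, 17, false)]),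
    ([6, 4, 2], [(0, 29, true), (1, 27, true), (0, 18, true), (1, 29, false), (2, 42, false), (0, 27, false), (1, 18, false)]),
    ([6, 5, 0], [(0, 30, true), (2, 46, true), (1, 25, true), (0, 20, true), (2, 37, true), (3, 53, false), (1, 30, false), (0, 25, false), (1, 20, false)]),
    ([6, 5, 1], [(0, 30, true), (2, 47, true), (1, 26, true), (0, 21, true), (2, 52, true), (3, 9, true), (3, 9, false), (1, 30, false), (2, 51, false), (0, 26, false), (1, 21, false)]),
    ([6, 5, 2], [(0, 30, true), (2, 48, true), (1, 27, true), (0, 22, true), (3, 54, false), (1, 30, false), (2, 43, false), (0, 27, false), (1, 22, false)]),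
    ([1, 1, 0], [(0, 1, true), (0, 31, true), (2, 9, false), (1, 53, false), (1, 7, false), (1, 1, false), (2, 32, false), (3, 47, false), (0, 10, false), (1, 10, false)]),
    ([2, 2, 0], [(0, 2, true), (1, 4, false), (1, 2, false), (2, 18, false), (0, 11, false), (1, 11, false)]),
    ([2, 0, 0], [(0, 11, true), (2, 16, true), (1, 11, true), (0, 0, true), (1, 4, true), (1, 0, false)]),
    ([2, 2, 1], [(0, 2, true), (1, 5, false), (1, 2, false), (2, 22, false), (0, 12, false), (1, 12, false)]),
    ([2, 1, 1], [(0, 12, true), (2, 21, true), (1, 12, true), (0, 1, true), (0, 33, true), (2, 51, true), (1, 36, true), (3, 51, true), (2, 36, true), (1, 5, true), (2, 9, true), (1, 1, false)]),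
    ([3, 3, 0], [(0, 3, true), (0, 38, true), (1, 6, false), (2, 44, false), (1, 44, false), (1, 3, false), (2, 28, false), (0, 13, false), (1, 13, false)]),
    ([3, 0, 0], [(0, 13, true), (2, 25, true), (1, 13, true), (0, 0, true), (1, 6, true), (1, 0, false)]),
    ([3, 3, 1], [(0, 3, true), (0, 39, true), (1, 7, false), (2, 9, false), (2, 8, false), (3, 54, false), (1, 45, false), (1, 3, false), (2, 34, false), (3, 41, false), (4, 49, false), (0, 14, false), (1, 14, false)]),
    ([10, 7, 7], [(1, 7, true), (0, 8, false), (0, 6, false), (1, 44, false), (0, 4, false), (1, 29, false), (2, 42, false), (1, 8, false), (0, 42, false), (0, 3, false), (1, 19, false), (2, 28, false), (3, 41, false), (4, 55, false), (0, 55, false)]),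
    ([10, 0, 1, 6, 7, 9, 0, 1, 6, 7, 9], [(5, 46, true), (4, 31, true), (3, 25, true), (2, 10, true), (1, 0, true), (3, 52, true), (2, 37, true), (4, 53, true), (3, 7, true), (3, 9, true), (2, 26, true), (1, 1, true), (1, 37, true), (3, 52, true), (2, 37, true), (1, 6, true), (2, 53, true), (1, 7, true), (1, 9, true), (0, 8, false), (0, 5, false), (1, 43, false), (2, 56, false), (0, 56, false)]),
    ([10, 4, 5, 6, 7, 8, 7], [(5, 45, true), (4, 7, true), (4, 7, false), (3, 37, false), (2, 36, false), (1, 35, false), (0, 55, true), (4, 57, true), (3, 39, true), (2, 26, true), (1, 17, true), (0, 14, true), (4, 50, true), (3, 42, true), (2, 35, true), (5, 53, true), (4, 45, true), (3, 7, true), (4, 52, true), (3, 44, true), (5, 9, true), (4, 8, true), (4, 50, true), (3, 29, true), (2, 4, true), (3, 52, true), (2, 6, true), (2, 53, true), (3, 54, true), (3, 54, false), (2, 6, false), (3, 37, false), (4, 52, false), (2, 4, false), (3, 29, false), (4, 35, false), (5, 50, false), (5, 8, false), (6, 54,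 false), (4, 45, false), (3, 44, false), (1, 19, false), (2, 28, false), (3, 34, false), (4, 41, false), (5, 55, false), (0, 57, false)]),
    ([10, 4, 5, 6, 7, 8, 0, 1, 6, 7, 9], [(5, 38, true), (4, 31, true), (3, 25, true), (2, 20, true), (1, 16, true), (4, 37, true), (5, 7, true), (5, 39, true), (4, 26, true), (3, 21, true), (2, 17, true), (4, 36, true), (6, 52, true), (5, 37, true), (7, 9, true), (8, 52, true), (7, 44, true), (6, 37, true), (5, 6, true), (7, 53, true), (6, 45, true), (5, 7, true), (6, 9, true), (5, 7, false), (5, 6, false), (6, 37, false), (7, 9, false), (6, 53, false), (4, 30, false), (5, 36, false), (6, 51, false), (3, 29, false), (4, 35, false), (5, 50, false), (0, 56, true), (2, 57, true), (1, 39, true), (0, 21, true), (2, 54, true), (3, 9, true), (2, 42, true), (1, 24, true), (3, 54, true), (4, 52, true), (3, 44, true), (5, 53, true), (4, 45, true), (6, 54, true), (5, 8, true), (5, 8, false), (6, 54, false), (5, 54, false), (4, 53, false), (2, 30, false), (3, 36, false),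 (4, 43, false), (5, 56, false), (0, 57, false)]),
    ([10, 4, 5, 6, 7, 8, 4, 5, 6, 7, 8], [(5, 42, true), (4, 35, true), (3, 29, true), (2, 24, true), (1, 4, true), (2, 52, true), (3, 53, true), (4, 54, true), (5, 51, true), (4, 43, true), (3, 36, true), (2, 30, true), (1, 5, true), (2, 53, true), (3, 54, true), (4, 9, true), (3, 44, true), (2, 37, true), (1, 6, true), (2, 45, true), (1, 7, true), (1, 8, true), (0, 8, false), (0, 7, false), (1, 45, false), (0, 6, false), (1, 37, false), (2, 44, false), (0, 4, false), (1, 29, false), (2, 35, false), (3, 42, false), (4, 9, false), (3, 54, false), (2, 53, false), (1, 7, false), (0, 35, false), (0, 1, false), (1, 17, false), (2, 26, false), (3, 32, false), (4, 39, false), (5, 57, false), (0, 57, false)]),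
    ([11, 4, 4], [(1, 4, true), (0, 9, false), (0, 7, false), (1, 53, false), (0, 6, false), (1, 37, false), (2, 52, false), (0, 4, false), (1, 29, false), (2, 35, false), (3, 50, false), (4, 58, false), (0, 58, false)]),
    ([11, 0, 4, 6, 7, 4], [(4, 35, true), (3, 29, true), (2, 4, true), (2, 4, false), (1, 16, false), (0, 58, true), (4, 59, true), (3, 46, true), (2, 31, true), (1, 25, true), (0, 16, true), (4, 52, true), (3, 37, true), (2, 6, true), (2, 6, false), (1, 29, false), (2, 58, false), (0, 59, false)]),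
    ([12, 0, 4, 6, 0, 4, 6], [(3, 25, true), (2, 16, true), (1, 0, true), (2, 29, true), (1, 4, true), (1, 6, true), (0, 9, false), (0, 7, false), (1, 53, false), (0, 5, false), (1, 36, false), (2, 51, false), (1, 53, false), (0, 4, false), (1, 24, false), (2, 35, false), (3, 9, false), (2, 53, false), (1, 7, false), (0, 35, false), (0, 1, false), (1, 17, false), (2, 21, false), (3, 32, false), (4, 47, false), (5, 60, false), (0, 60, false)]),
    ([12, 6, 8, 0, 4, 6], [(2, 38, true), (1, 25, true), (3, 42, true), (2, 29, true), (4, 44, true), (3, 6, true), (3, 6, false), (0, 60, true), (5, 61, true), (4, 51, true), (3, 36, true), (2, 5, true), (3, 53, true), (2, 7, true), (2, 9, true), (2, 9, false), (2, 7, false), (3, 53, false), (2, 5, false), (3, 36, false), (4, 51, false), (3, 53, false), (1, 24, false), (2, 35, false), (3, 9, false), (2, 53, false), (0, 21, false), (1, 32, false), (2, 47, false), (3, 60, false), (0, 61, false)]),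
    ([12, 1, 3, 7, 8, 1, 3, 7, 8], [(4, 39, true), (3, 32, true), (2, 14, true), (1, 1, true), (1, 34, true), (3, 53, true), (2, 7, true), (2, 54, true), (3, 9, true), (2, 45, true), (3, 8, true), (3, 49, true), (2, 34, true), (1, 3, true), (1, 45, true), (3, 9, true), (2, 45, true), (1, 7, true), (1, 8, true), (0, 8, false), (0, 5, false), (1, 43, false), (0, 43, false), (0, 3, false), (1, 23, false), (2, 8, false), (1, 43, false), (0, 2, false), (1, 15, false), (2, 22, false), (3, 40, false), (4, 62, false), (0, 62, false)]),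
    ([13, 0, 0], [(1, 0, true), (0, 8, false), (0, 2, false), (1, 40, false), (2, 63, false), (0, 63, false)]),
    ([13, 0, 7, 0], [(2, 31, true), (1, 0, true), (1, 0, false), (0, 63, true), (2, 64, true), (1, 40, true), (0, 2, true), (0, 42, true), (0, 2, false), (1, 18, false), (2, 63, false), (0, 64, false)])]
  combos := [
    [(0, 1), (4, 1), (10, 1), (11, 1), (17, 1), (18, 1), (21, 1), (22, 1), (26, 1), (27, 1), (29, 1), (40, 1), (41, 1), (42, 1), (43, 1), (44, 1), (45, 1)],
    [(0, 1), (8, 1), (11, 1), (13, 1), (17, 1), (21, 1), (22, 1), (24, 1), (27, 1), (30, 1), (31, 1), (33, 1), (40, 1), (41, 1), (45, 1), (48, 1)],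
    [(0, 1), (7, 1), (8, 1), (9, 1), (10, 1), (13, 1), (21, 1), (23, 1), (36, 1), (40, 1), (41, 1), (42, 1), (43, 1), (44, 1), (45, 1), (47, 1)],
    [(5, 1), (8, 1), (9, 1), (10, 1), (11, 1), (13, 1), (15, 1), (16, 1), (17, 1), (18, 1), (20, 1), (23, 1), (25, 1), (29, 1), (30, 1), (34, 1), (37, 1), (48, 1)],
    [(4, 1), (8, 1), (15, 1), (24, 1), (26, 1), (30, 1), (48, 1)],
    [(4, 1), (5, 1), (6, 1), (9, 1), (11, 1), (13, 1), (15, 1), (16, 1), (17, 1), (18, 1), (19, 1), (25, 1), (33, 1), (43, 1), (45, 1)],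
    [(4, 1), (6, 1), (14, 1), (18, 1), (20, 1), (22, 1), (24, 1), (25, 1), (26, 1), (35, 1), (43, 1)],
    [(4, 1), (5, 1), (9, 1), (10, 1), (11, 1), (13, 1), (16, 1), (17, 1), (18, 1), (24, 1), (26, 1), (29, 1)],
    [(4, 1), (7, 1), (9, 1), (11, 1), (13, 1), (17, 1), (18, 1), (22, 1), (23, 1), (25, 1), (26, 1), (27, 1), (29, 1), (36, 1)],
    [(5, 1), (10, 1), (13, 1), (15, 1), (18, 1), (24, 1), (26, 1)],
    [(0, 1), (7, 1), (9, 1), (13, 1), (16, 1), (19, 1), (23, 1), (25, 1), (28, 1), (29, 1), (35, 1), (36, 1), (38, 1), (40, 1), (42, 1), (43, 1), (44, 1), (45, 1)],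
    [(0, 1), (5, 1), (7, 1), (8, 1), (9, 1), (10, 1), (11, 1), (15, 1), (16, 1), (18, 1), (19, 1), (22, 1), (23, 1), (25, 1), (29, 1), (30, 1), (31, 1), (34, 1), (39, 1), (40, 1), (42, 1), (43, 1), (48, 1)],
    [(0, 1), (3, 1), (5, 1), (6, 1), (8, 1), (9, 1), (11, 1), (14, 1), (15, 1), (16, 1), (17, 1), (18, 1), (20, 1), (22, 1), (24, 1), (27, 1), (29, 1), (32, 1), (33, 1), (34, 1), (36, 1), (39, 1), (40, 1), (44, 1), (46, 1), (47, 1)],
    [(4, 1), (8, 1), (15, 1), (24, 1), (26, 1), (30, 1), (31, 1), (48, 1)],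
    [(4, 1), (8, 1), (15, 1), (24, 1), (26, 1), (48, 1)],
    [(0, 1), (5, 1), (6, 1), (11, 1), (14, 1), (15, 1), (18, 1), (19, 1), (20, 1), (22, 1), (25, 1)],
    [(4, 1), (6, 1), (9, 1), (10, 1), (11, 1), (16, 1), (17, 1), (19, 1), (24, 1), (25, 1), (26, 1), (43, 1), (45, 1)],
    [(4, 1), (5, 1), (6, 1), (9, 1), (11, 1), (13, 1), (15, 1), (16, 1), (17, 1), (18, 1), (19, 1), (25, 1), (32, 1), (33, 1), (43, 1), (45, 1)],
    [(0, 1), (1, 1), (3, 1), (4, 1), (5, 1), (6, 1), (10, 1), (11, 1), (12, 1), (14, 1), (15, 1), (18, 1), (20, 1), (21, 1), (25, 1), (30, 1), (31, 1), (35, 1), (40, 1), (42, 1), (48, 1)],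
    [(5, 1), (13, 1), (18, 1)],
    [(4, 1), (6, 1), (14, 1), (18, 1), (20, 1), (22, 1), (24, 1), (25, 1), (26, 1), (43, 1)],
    [(0, 1), (5, 1), (8, 1), (9, 1), (10, 1), (13, 1), (16, 1), (18, 1), (20, 1), (24, 1), (28, 1), (29, 1), (30, 1), (31, 1), (40, 1), (43, 1), (48, 1)],
    [(2, 1), (20, 1), (25, 1)],
    [(4, 1), (9, 1), (11, 1), (13, 1), (17, 1), (18, 1), (20, 1), (25, 1), (26, 1), (27, 1), (29, 1), (34, 1), (42, 1)],
    [(6, 1), (9, 1), (11, 1), (13, 1), (14, 1), (17, 1), (20, 1), (22, 1), (24, 1), (25, 1), (27, 1), (29, 1), (35, 1), (42, 1), (43, 1)],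
    [(0, 1), (1, 1), (4, 1), (5, 1), (7, 1), (8, 1), (10, 1), (13, 1), (18, 1), (21, 1), (22, 1), (24, 1), (26, 1), (30, 1), (31, 1), (35, 1), (40, 1), (42, 1), (48, 1)],
    [(4, 1), (15, 1), (24, 1), (26, 1)],
    [(6, 1), (9, 1), (13, 1), (14, 1), (19, 1), (20, 1), (22, 1), (25, 1)],
    [(0, 1), (1, 1), (4, 1), (5, 1), (6, 1), (7, 1), (8, 1), (10, 1), (12, 1), (13, 1), (14, 1), (20, 1), (21, 1), (24, 1), (25, 1), (26, 1), (30, 1), (31, 1), (35, 1), (40, 1), (42, 1), (48, 1)],
    [(13, 1), (15, 1), (16, 1), (18, 1), (19, 1), (24, 1), (27, 1)],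
    [(6, 1), (11, 1), (14, 1), (16, 1), (17, 1), (18, 1), (20, 1), (22, 1), (24, 1), (25, 1), (27, 1)],
    [(13, 1), (16, 1), (18, 1), (19, 1), (24, 1), (26, 1), (27, 1)],
    [(6, 1), (9, 1), (11, 1), (13, 1), (14, 1), (17, 1), (22, 1), (24, 1), (27, 1), (29, 1), (35, 1), (42, 1), (43, 1)],
    [(0, 1), (1, 1), (4, 1), (5, 1), (7, 1), (8, 1), (10, 1), (11, 1), (13, 1), (14, 1), (18, 1), (22, 1), (24, 1), (26, 1), (30, 1), (31, 1), (35, 1), (40, 1), (42, 1), (48, 1)],
    [(8, 1), (25, 1)],
    [(6, 1), (20, 1), (23, 1), (25, 1)],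
    [(25, 1)],
    [(14, 1)],
    [(6, 1), (20, 1), (25, 1)],
    [(7, 1), (11, 1), (12, 1), (13, 1), (14, 1), (15, 1), (16, 1), (18, 1), (21, 1), (25, 1), (26, 1), (27, 1)],
    [(6, 1), (14, 1), (18, 1), (19, 1), (20, 1), (22, 1), (25, 1)],
    [(11, 1), (17, 1), (19, 1), (26, 1), (27, 1)],
    [(17, 1)],
    [(17, 1), (18, 1), (28, 1)],
    [(6, 1), (14, 1), (18, 1), (19, 1), (20, 1), (22, 1), (24, 1), (25, 1), (26, 1)],
    [(11, 1), (17, 1)],
    [(19, 1), (26, 1)],
    [(6, 1), (13, 1), (14, 1), (16, 1), (20, 1), (22, 1), (24, 1), (25, 1), (27, 1)],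
    [(14, 1), (17, 1), (28, 1)]]
  sorted := [
    769, 789, 785, 784, 773, 788, 772, 768, 308, 304, 421, 949, 433, 929, 800, 804, 913, 388, 897, 896,
    404, 389, 405, 912, 403, 774, 387, 919, 790, 903, 786, 770, 805, 928, 948, 420, 801, 305, 432, 309,
    295, 802, 310, 306, 291, 819, 823, 806, 932, 817, 821, 293, 944, 416, 289, 436, 259, 279, 275, 390,
    263, 406, 898, 914, 437, 417, 292, 820, 288, 816, 945, 933, 258, 391, 274, 278, 407, 262, 899, 915,
    951, 931, 934, 435, 418, 946, 423, 438, 294, 307, 311, 803, 818, 290, 822, 807, 384, 901, 400, 401,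
    917, 900, 916, 385, 950, 434, 935, 930, 947, 419, 422, 439, 402, 918, 386, 775, 902, 791, 787, 771,
    272, 276, 256, 257, 260, 277, 261, 273, 848, 597, 832, 833, 581, 596, 580, 849, 116, 993, 229, 757,
    864, 368, 497, 612, 960, 196, 976, 977, 212, 197, 213, 961, 834, 582, 850, 727, 598, 711, 451, 467,
    613, 369, 756, 228, 496, 992, 865, 117, 103, 883, 118, 355, 370, 866, 631, 614, 740, 480, 629, 101,
    353, 881, 1008, 244, 978, 87, 962, 198, 71, 214, 339, 323, 245, 880, 100, 628, 1009, 481, 352, 741,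
    979, 199, 963, 86, 215, 70, 338, 322, 759, 1010, 742, 482, 499, 995, 231, 246, 102, 354, 119, 882,
    867, 371, 630, 615, 465, 709, 449, 448, 725, 708, 724, 464, 758, 483, 743, 1011, 994, 498, 230, 247,
    835, 726, 851, 583, 710, 599, 450, 466, 321, 84, 337, 336, 68, 85, 69, 320, 577, 852, 593, 592,
    836, 853, 837, 576, 1013, 112, 868, 372, 241, 737, 608, 485, 721, 453, 705, 704, 469, 452, 468, 720,
    211, 967, 195, 854, 983, 838, 594, 578, 484, 736, 373, 869, 609, 113, 240, 1012, 870, 610, 887, 114,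
    99, 627, 374, 359, 357, 625, 500, 996, 752, 224, 97, 885, 67, 470, 83, 327, 454, 343, 706, 722,
    884, 225, 997, 501, 96, 624, 753, 356, 66, 326, 82, 471, 342, 455, 707, 723, 502, 739, 487, 243,
    226, 754, 998, 1015, 871, 115, 886, 611, 626, 98, 375, 358, 192, 964, 208, 209, 980, 965, 981, 193,
    503, 242, 486, 738, 755, 227, 999, 1014, 210, 855, 194, 966, 839, 982, 595, 579, 80, 341, 64, 65,
    325, 340, 324, 81, 776, 845, 841, 857, 540, 524, 861, 792, 556, 1017, 60, 1005, 489, 808, 312, 509,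
    457, 989, 392, 408, 652, 668, 973, 473, 538, 798, 731, 782, 207, 223, 522, 715, 188, 952, 684, 381,
    424, 873, 377, 877, 639, 107, 111, 554, 635, 58, 814, 318, 893, 361, 365, 700, 889, 440, 936, 172,
    91, 910, 154, 926, 95, 79, 75, 138, 493, 296, 1021, 44, 824, 505, 1001, 572, 203, 735, 10, 719,
    270, 286, 219, 26, 430, 763, 958, 186, 235, 682, 255, 751, 830, 570, 302, 123, 42, 619, 623, 127,
    920, 156, 985, 969, 461, 477, 140, 904, 239, 170, 767, 747, 698, 251, 446, 942, 650, 591, 587, 607,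
    414, 398, 666, 603, 345, 12, 280, 264, 349, 333, 28, 329, 601, 780, 536, 520, 605, 589, 796, 585,
    749, 552, 253, 812, 56, 761, 233, 316, 152, 924, 217, 201, 717, 733, 908, 136, 971, 479, 778, 463,
    526, 542, 987, 794, 125, 617, 621, 444, 121, 696, 168, 940, 62, 314, 558, 891, 810, 363, 367, 895,
    956, 184, 428, 637, 680, 105, 633, 109, 394, 335, 331, 351, 670, 654, 410, 347, 300, 249, 828, 237,
    745, 40, 568, 765, 282, 30, 475, 14, 975, 991, 266, 459, 1007, 938, 511, 491, 442, 1019, 702, 174,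
    383, 875, 879, 298, 379, 826, 46, 574, 713, 221, 648, 664, 396, 412, 205, 729, 686, 507, 190, 954,
    1003, 426, 1023, 495, 859, 142, 922, 158, 863, 847, 843, 906, 8, 77, 73, 89, 284, 268, 93, 24,
    793, 525, 856, 840, 860, 844, 541, 777, 876, 872, 380, 685, 376, 953, 425, 189, 472, 669, 409, 393,
    972, 988, 653, 456, 651, 606, 586, 590, 399, 415, 667, 602, 508, 809, 1004, 61, 313, 1016, 488, 557,
    831, 122, 303, 571, 618, 43, 622, 126, 573, 504, 45, 1020, 1000, 297, 825, 492, 202, 718, 11, 734,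
    287, 271, 218, 27, 173, 441, 701, 364, 937, 360, 888, 892, 90, 927, 155, 911, 78, 94, 74, 139,
    238, 746, 766, 171, 250, 699, 447, 943, 638, 555, 110, 106, 59, 634, 815, 319, 905, 476, 968, 984,
    141, 157, 460, 921, 431, 187, 959, 762, 683, 234, 254, 750, 539, 783, 730, 799, 222, 206, 523, 714,
    328, 332, 265, 281, 29, 13, 348, 344, 584, 588, 521, 537, 797, 781, 604, 600, 941, 697, 445, 620,
    169, 616, 120, 124, 137, 732, 200, 216, 909, 925, 716, 153, 858, 159, 923, 143, 846, 862, 842, 907,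
    317, 760, 813, 252, 232, 553, 57, 748, 382, 299, 878, 874, 827, 378, 47, 575, 764, 41, 236, 829,
    569, 248, 744, 301, 283, 15, 474, 31, 990, 974, 267, 458, 108, 104, 636, 429, 632, 185, 681, 957,
    395, 350, 330, 334, 655, 671, 411, 346, 687, 955, 191, 506, 427, 1002, 1022, 494, 63, 890, 559, 315,
    362, 811, 366, 894, 728, 413, 665, 649, 204, 220, 397, 712, 1006, 490, 510, 939, 1018, 443, 703, 175,
    970, 462, 779, 478, 543, 527, 986, 795, 25, 269, 88, 72, 92, 76, 285, 9, 528, 532, 512, 513,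
    516, 533, 517, 529, 693, 673, 548, 52, 544, 48, 177, 165, 640, 133, 656, 657, 149, 132, 148, 641,
    514, 647, 530, 534, 663, 518, 131, 147, 164, 49, 53, 549, 176, 672, 545, 692, 550, 563, 567, 35,
    50, 546, 54, 39, 37, 160, 180, 676, 33, 561, 688, 565, 658, 150, 642, 7, 134, 23, 19, 3,
    564, 560, 677, 181, 689, 161, 32, 36, 659, 6, 643, 151, 22, 135, 18, 2, 182, 690, 167, 162,
    179, 675, 678, 695, 551, 34, 566, 562, 547, 51, 55, 38, 145, 644, 129, 128, 660, 645, 661, 144,
    183, 163, 166, 691, 674, 178, 679, 694, 515, 535, 531, 646, 519, 662, 130, 146, 1, 21, 17, 16,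
    5, 20, 4, 0]

end H97.SchurCert
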