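import Cfsg.Agent.H97.SchurCertDefs

/-! Certificate: 3-part of the multiplier of M24. -/

set_option maxRecDepth 20000

namespace H97.SchurCert

def dataM24p3 : Data where
  p := 3
  n := 3
  syms := [
    512792182815278974128274886627532288,
    513533506611679636377987018754631138,
    975311912493334534320655964547129955,
    395536589727113113491660382809590818,
    252332610401792153922190653171390091,
    649172763652202619466537300347884851]
  rules := [
    ([0, 0, 0], []),
    ([1, 1, 1], []),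
    ([2, 2, 2], []),
    ([1, 0], [0, 1, 2]),
    ([2, 0], [0, 2]),
    ([2, 1], [1, 2]),
    ([3, 0], [0, 0, 2, 2, 3]),
    ([3, 0, 0, 2], [2, 2, 3]),
    ([4, 0, 0, 1, 2, 2], [2, 2, 4]),
    ([4, 2], [0, 0, 4]),
    ([5, 0], [0, 1, 1, 2, 5]),
    ([5, 0, 0, 2], [0, 1, 1, 5])]
  defs := [(3, 2)]
  targets := [0, 1, 2, 4, 5]
  paths := [
    ([1, 1, 1, 0], [(0, 1, true), (1, 2, false), (1, 1, false), (3, 5, false), (4, 5, false), (2, 5, false), (0, 3, false), (1, 3, false), (2, 3, false)]),
    ([3, 0, 0, 0], [(1, 0, true), (0, 2, false), (0, 0, false), (2, 4, false), (1, 4, false), (1, 2, false), (0, 4, false), (1, 4, false), (0, 0, false), (2, 4, false), (3, 4, false), (8, 6, false), (4, 6, false), (0, 6, false)]),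
    ([4, 2, 0, 0, 1, 2, 2], [(1, 4, true), (2, 4, true), (3, 5, true), (4, 2, true), (4, 2, false), (0, 8, true), (2, 9, true), (1, 4, true), (0, 4, true), (2, 4, true), (1, 4, true), (2, 8, false), (0, 9, false)]),
    ([4, 0, 0, 1, 2, 2, 0, 0, 1, 2, 2, 0, 0, 1, 2, 2], [(5, 4, true), (4, 4, true), (3, 3, true), (1, 0, true), (2, 2, true), (1, 3, true), (3, 5, true), (4, 2, true), (3, 3, true), (2, 3, true), (4, 5, true), (6, 4, true), (5, 4, true), (4, 3, true), (3, 3, true), (1, 0, true), (2, 5, true), (3, 2, true), (3, 5, true), (1, 1, true), (1, 2, true), (0, 2, false), (0, 2, false), (4, 8, false), (2, 8, false), (0, 8, false)]),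
    ([5, 0, 0, 2, 0], [(3, 4, true), (1, 0, true), (1, 0, false), (0, 10, true), (4, 11, true), (3, 4, true), (2, 3, true), (1, 3, true), (3, 5, true), (4, 2, true), (2, 1, true), (3, 2, false), (2, 5, false), (3, 5, false), (2, 1, false), (4, 5, false), (5, 5, false), (3, 5, false), (1, 3, false), (2, 3, false), (3, 10, false), (0, 11, false)])]
  combos := [
    [(0, 2), (1, 2)],
    [(0, 1), (1, 2), (3, 1), (4, 1)],
    [(0, 2)],
    [(2, 2), (4, 2)],
    [(2, 1)]]
  sorted := [
    1, 26, 3, 8, 12, 10, 21, 19, 17, 20, 22, 15, 13, 6, 11, 24, 2, 4, 9, 14,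
    7, 16, 18, 23, 5, 25, 0]

end H97.SchurCert
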