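import Cfsg.Agent.H97.SchurMathieu
import Cfsg.Agent.H97.SchurDataM24p2
import Cfsg.Agent.H97.SchurDataM24p3

/-! The multiplier of M24 is trivial. -/

set_option maxRecDepth 100000

namespace H97.SchurCert

theorem check_M24_two : checkAll H87.mem24 dataM24p2 = true := by decide +kernel
theorem check_M24_three : checkAll H87.mem24 dataM24p3 = true := by decide +kernel

theorem sound_M24 : ∀ q, H87.mem24 q = true → ∃ σ ∈ Cfsg.M24, H90.Repr σ q :=
  fun q h => H87.exists_of_mem24 h

theorem hasTrivialMultiplier_M24 : Cfsg.HasCyclicSchurMultiplier Cfsg.M24 1 := by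
  refine H97.hasTrivialMultiplier fun Γ _ _ σ hσ => ?_
  rw [← Subgroup.card_eq_one]
  by_contra hne
  obtain ⟨p, hp, hdvd⟩ := Nat.exists_prime_and_dvd hne
  haveI := Fact.mk hp
  have hsq := sq_dvd_of_dvd_card_ker σ hσ hdvd
  rw [H90.natCard_M24] at hsq
  have hmem : p ∈ Nat.primeFactorsList 244823040 :=
    (Nat.mem_primeFactorsList (by norm_num)).2 ⟨hp, (dvd_pow_self p two_ne_zero).trans hsq⟩
  simp only [Nat.primeFactorsList_ofNat, List.mem_cons, List.not_mem_nil, or_false] at hmem
  have hp23 : p = 2 ∨ p = 3 := by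
    by_contra hcon
    obtain ⟨h2, h3⟩ := not_or.1 hcon
    simp only [h2, h3, false_or] at hmem
    rcases hmem with rfl | rfl | rfl | rfl <;> norm_num at hsq
  rcases hp23 with rfl | rfl
  · haveI : Fact dataM24p2.p.Prime := ⟨Nat.prime_two⟩
    exact not_dvd_of_check H87.mem24 sound_M24 dataM24p2 check_M24_two (M := 239085)
      (by rw [H90.natCard_M24]; rfl) (by decide) σ hσ hdvd
  · haveI : Fact dataM24p3.p.Prime := ⟨Nat.prime_three⟩
    exact not_dvd_of_check H87.mem24 sound_M24 dataM24p3 check_M24_three (M := 9067520)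
      (by rw [H90.natCard_M24]; rfl) (by decide) σ hσ hdvd

end H97.SchurCert
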