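import Mathlib.Data.List.Basic
import Mathlib.Data.List.Sort

/-!
Checkable certificates that a prime does not divide the multiplier of a group.

Symbols `0, …, n-1` form a polycyclic sequence of a Sylow `p`-subgroup, further symbols are arbitrary
elements. Each rule is an equation between two words which holds in the group; in a central
extension it holds up to a central factor. A closed path of rule applications gives a linear
equation between these factors, and a combination of paths isolates the factor of each
polycyclic rule.
-/

set_option autoImplicit false

namespace H97.SchurCert

/-- The certificate. -/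
structure Data where
  p : ℕ
  n : ℕ
  syms : List ℕ
  rules : List (List ℕ × List ℕ)
  defs : List (ℕ × ℕ)
  targets : List ℕ
  paths : List (List ℕ × List (ℕ × ℕ × Bool))
  combos : List (List (ℕ × ℕ))
  sorted : List ℕ

/-- Evaluate a word. -/
def evW (op : ℕ → ℕ → ℕ) (one : ℕ) (syms : List ℕ) (w : List ℕ) : ℕ :=
  w.foldl (fun acc i => op acc (syms.getD i one)) one

/-- A rule by index. -/
def ruleAt (D : Data) (r : ℕ) : List ℕ × List ℕ := D.rules.getD r ([], [])

/-- Apply a signed rule at a position, recording its central factor with multiplicity. -/
def runPath (D : Data) : List (ℕ × ℕ × Bool) → List ℕ → Option (List ℕ × List ℕ)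
  | [], w => some (w, [])
  | (t, r, fwd) :: rest, w =>
    if (w.drop t).take (if fwd then (ruleAt D r).1 else (ruleAt D r).2).length ==
        (if fwd then (ruleAt D r).1 else (ruleAt D r).2) then
      (runPath D rest (w.take t ++ (if fwd then (ruleAt D r).2 else (ruleAt D r).1) ++
          w.drop (t + (if fwd then (ruleAt D r).1 else (ruleAt D r).2).length))).map
        fun q => (q.1, List.replicate (if fwd then 1 else D.p - 1) r ++ q.2)
    else none

/-- The factors along a closed path; empty unless the path is closed. -/
def pathVec (D : Data) (e : ℕ) : List ℕ :=
  match D.paths.getD e ([], []) with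
  | (w, steps) => match runPath D steps w with
    | some (w', v) => if w' == w then v else []
    | none => []

/-- The concatenation of a combination. -/
def comboVec (D : Data) (c : List (ℕ × ℕ)) : List ℕ :=
  c.flatMap fun ec => (List.replicate ec.2 (pathVec D ec.1)).flatten

/-- Combination `k` isolates target `k` among the rules which are not definitions. -/
def comboOK (D : Data) (k : ℕ) : Bool :=
  ((comboVec D (D.combos.getD k [])).all fun i => decide (i < D.rules.length)) &&
  ((List.range D.rules.length).all fun i => D.defs.any (fun d => d.1 == i) ||
    (comboVec D (D.combos.getD k [])).count i % D.p == if i == D.targets.getD k 0 then 1 else 0)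

/-- The rule `r` has vanishing factor. -/
def isZero (D : Data) (r : ℕ) : Bool := D.defs.any (fun d => d.1 == r) || D.targets.contains r

/-- Every rule holds in the group. -/
def rulesOK (op : ℕ → ℕ → ℕ) (one : ℕ) (D : Data) : Bool :=
  D.rules.all fun r => evW op one D.syms r.1 == evW op one D.syms r.2

/-- A definition determines its symbol from earlier ones, in increasing order. -/
def defsOK (D : Data) : Bool :=
  decide ((D.defs.map Prod.snd).Pairwise (· < ·)) &&
  D.defs.all fun d => decide (d.2 < D.syms.length) && decide (d.1 < D.rules.length) &&
    ((ruleAt D d.1).1.all fun s => decide (s < d.2)) &&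
    (ruleAt D d.1).2.getLast? == some d.2 &&
    ((ruleAt D d.1).2.dropLast.all fun s => decide (s < d.2))

/-- The power and conjugation rules make the symbols a polycyclic sequence. -/
def pcOK (D : Data) : Bool :=
  (List.range D.n).all fun i =>
    ((List.range D.rules.length).any fun r => isZero D r &&
      (ruleAt D r).1 == List.replicate D.p i &&
      ((ruleAt D r).2.all fun s => decide (i < s) && decide (s < D.n))) &&
    ((List.range D.n).all fun j => decide (j ≤ i) || (List.range D.rules.length).any fun r =>
      isZero D r && (ruleAt D r).1 == [j, i] && (ruleAt D r).2.head? == some i &&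
      ((ruleAt D r).2.tail.all fun s => decide (i < s) && decide (s < D.n)))

/-- Code of the product with exponent vector `e`. -/
def prodCode (op : ℕ → ℕ → ℕ) (one : ℕ) (D : Data) (e : ℕ) : ℕ :=
  evW op one D.syms ((List.range D.n).flatMap fun i => List.replicate (e / D.p ^ i % D.p) i)

/-- A list is strictly increasing. -/
def increasing : List ℕ → Bool
  | a :: b :: l => decide (a < b) && increasing (b :: l)
  | _ => true

/-- The products are pairwise distinct. -/
def sizeOK (op : ℕ → ℕ → ℕ) (one : ℕ) (D : Data) : Bool :=
  decide (D.n ≤ D.syms.length) && D.sorted.length == D.p ^ D.n &&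
    increasing (D.sorted.map (prodCode op one D))

/-- The linear algebra. -/
def combosOK (D : Data) : Bool :=
  D.combos.length == D.targets.length && (List.range D.targets.length).all fun k =>
    decide (D.targets.getD k 0 < D.rules.length) &&
      !(D.defs.any fun d => d.1 == D.targets.getD k 0) && comboOK D k

end H97.SchurCert
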