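import Cfsg.Agent.H97.Schur
import Cfsg.Agent.H97.SchurCertDefs

/-!
Soundness of the multiplier certificates.
-/

set_option autoImplicit false

namespace H97.SchurCert

open scoped commutatorElement

/-- An injective coding of a group by numbers. -/
structure Coding (G : Type*) [Group G] (op : ℕ → ℕ → ℕ) (one : ℕ) where
  code : G → ℕ
  inj : Function.Injective code
  map_one : code 1 = one
  map_mul : ∀ a b, code (a * b) = op (code a) (code b)

section words

variable {M : Type*} [Monoid M]

/-- Value of a word. -/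
def evG (f : ℕ → M) (w : List ℕ) : M := (w.map f).prod

theorem evG_append (f : ℕ → M) (u v : List ℕ) : evG f (u ++ v) = evG f u * evG f v := by
  rw [evG, List.map_append, List.prod_append]; rfl

theorem evG_congr {f g : ℕ → M} {w : List ℕ} (h : ∀ s ∈ w, f s = g s) : evG f w = evG g w := by
  rw [evG, evG, List.map_congr_left h]

theorem map_evG {N : Type*} [Monoid N] (φ : M →* N) (f : ℕ → M) (w : List ℕ) :
    φ (evG f w) = evG (fun i => φ (f i)) w := by
  rw [evG, map_list_prod, List.map_map]; rfl

theorem evG_mem {S : Submonoid M} {f : ℕ → M} {w : List ℕ} (h : ∀ s ∈ w, f s ∈ S) :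
    evG f w ∈ S := by
  refine Submonoid.list_prod_mem _ fun x hx => ?_
  obtain ⟨s, hs, rfl⟩ := List.mem_map.1 hx
  exact h s hs

end words

theorem evG_code {G : Type*} [Group G] {op : ℕ → ℕ → ℕ} {one : ℕ} (C : Coding G op one)
    (f : ℕ → G) (syms : List ℕ) (w : List ℕ) (h : ∀ s, C.code (f s) = syms.getD s one) :
    C.code (evG f w) = evW op one syms w := by
  have key : ∀ (w : List ℕ) (g : G),
      w.foldl (fun acc i => op acc (syms.getD i one)) (C.code g) = C.code (g * evG f w) := by
    intro w
    induction w with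
    | nil => intro g; simp [evG]
    | cons s w ih =>
      intro g
      rw [List.foldl_cons, ← h s, ← C.map_mul, ih, mul_assoc]
      rfl
  have h1 := key w 1
  rw [C.map_one, one_mul] at h1
  exact h1.symm

theorem increasing_nodup : ∀ l : List ℕ, increasing l = true → l.Pairwise (· < ·)
  | [], _ => List.Pairwise.nil
  | [_], _ => List.pairwise_singleton _ _
  | a :: b :: l, h => by
    simp only [increasing, Bool.and_eq_true, decide_eq_true_eq] at h
    have ih := increasing_nodup (b :: l) h.2
    refine List.pairwise_cons.2 ⟨fun c hc => ?_, ih⟩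
    rcases List.mem_cons.1 hc with rfl | hc
    · exact h.1
    · exact h.1.trans ((List.pairwise_cons.1 ih).1 c hc)

variable {G Γ : Type*} [Group G] [Group Γ] {op : ℕ → ℕ → ℕ} {one : ℕ}

/-- Redefine the symbols named by definitions. -/
def liftStep (D : Data) (L : ℕ → Γ) (d : ℕ × ℕ) : ℕ → Γ :=
  Function.update L d.2 ((evG L (ruleAt D d.1).2.dropLast)⁻¹ * evG L (ruleAt D d.1).1)

theorem foldl_liftStep_fixed (D : Data) : ∀ (ds : List (ℕ × ℕ)) (L : ℕ → Γ) (s : ℕ),
    (∀ d ∈ ds, s < d.2) → (ds.foldl (liftStep D) L) s = L s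
  | [], _, _, _ => rfl
  | d :: ds, L, s, h => by
    rw [List.foldl_cons, foldl_liftStep_fixed D ds _ s fun e he => h e (List.mem_cons_of_mem _ he)]
    exact Function.update_of_ne (h d List.mem_cons_self).ne _ _

theorem foldl_liftStep_spec (D : Data) : ∀ (ds : List (ℕ × ℕ)) (L : ℕ → Γ),
    ((ds.map Prod.snd).Pairwise (· < ·)) →
    (∀ d ∈ ds, (∀ s ∈ (ruleAt D d.1).1, s < d.2) ∧ (ruleAt D d.1).2.getLast? = some d.2 ∧
      ∀ s ∈ (ruleAt D d.1).2.dropLast, s < d.2) →
    ∀ d ∈ ds, evG (ds.foldl (liftStep D) L) (ruleAt D d.1).1 =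
      evG (ds.foldl (liftStep D) L) (ruleAt D d.1).2
  | [], _, _, _, _, h => absurd h (List.not_mem_nil)
  | d :: ds, L, hp, hd, e, he => by
    rw [List.foldl_cons]
    rw [List.map_cons, List.pairwise_cons] at hp
    rcases List.mem_cons.1 he with rfl | he
    · obtain ⟨h1, h2, h3⟩ := hd e List.mem_cons_self
      have low : ∀ s ≤ e.2, (ds.foldl (liftStep D) (liftStep D L e)) s = liftStep D L e s :=
        fun s hs => foldl_liftStep_fixed D ds _ s fun c hc =>
          lt_of_le_of_lt hs (hp.1 _ (List.mem_map_of_mem hc))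
      have lowlt : ∀ s < e.2, (ds.foldl (liftStep D) (liftStep D L e)) s = L s := fun s hs => by
        rw [low s hs.le]; exact Function.update_of_ne hs.ne _ _
      rw [evG_congr (fun s hs => lowlt s (h1 s hs))]
      conv_rhs => rw [← List.dropLast_append_getLast? _ h2]
      rw [evG_append, evG_congr (fun s hs => lowlt s (h3 s hs)), evG, evG, evG, List.map_singleton,
        List.prod_singleton, low e.2 le_rfl]
      simp only [liftStep, Function.update_self, evG, mul_inv_cancel_left]
    · exact foldl_liftStep_spec D ds _ hp.2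
        (fun c hc => hd c (List.mem_cons_of_mem _ hc)) e he

theorem runPath_spec [Finite Γ] (D : Data) (L : ℕ → Γ) (z : ℕ → Γ) (hz : ∀ r, z r ∈ Subgroup.center Γ)
    (hzp : ∀ r, z r ^ D.p = 1) (hp : 0 < D.p)
    (hr : ∀ r, evG L (ruleAt D r).1 = evG L (ruleAt D r).2 * z r) :
    ∀ (steps : List (ℕ × ℕ × Bool)) (w w' : List ℕ) (v : List ℕ),
      runPath D steps w = some (w', v) → evG L w = evG L w' * evG z v
  | [], w, w', v, h => by
    simp only [runPath, Option.some.injEq, Prod.mk.injEq] at h
    rw [← h.1, ← h.2]; simp [evG]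
  | (t, r, fwd) :: rest, w, w', v, h => by
    have hc := fun x : Γ => Subgroup.mem_center_iff.1 (hz r) x
    have hc' : ∀ x : Γ, x * z r ^ (D.p - 1) = z r ^ (D.p - 1) * x := fun x =>
      (Commute.pow_right (show Commute x (z r) from hc x) _).eq
    have hrep : ∀ k, evG z (List.replicate k r) = z r ^ k := fun k => by
      rw [evG, List.map_replicate, List.prod_replicate]
    have split_w : ∀ l : List ℕ, (w.drop t).take l.length = l →
        w = w.take t ++ l ++ w.drop (t + l.length) := fun l hl => by
      conv_lhs => rw [← List.take_append_drop t w,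
        ← List.take_append_drop l.length (w.drop t), hl, List.drop_drop]
      rw [List.append_assoc]
    cases fwd
    · simp only [runPath, Bool.false_eq_true, if_false] at h
      by_cases hm : (w.drop t).take (ruleAt D r).2.length = (ruleAt D r).2
      · rw [if_pos (beq_iff_eq.2 hm)] at h
        simp only [Option.map_eq_some_iff, Prod.mk.injEq] at h
        obtain ⟨⟨w₁, v₁⟩, h₁, rfl, rfl⟩ := h
        have ih := runPath_spec D L z hz hzp hp hr rest _ _ _ h₁
        have e2 : evG L (ruleAt D r).2 = evG L (ruleAt D r).1 * z r ^ (D.p - 1) := by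
          rw [hr r, mul_assoc, ← pow_succ', Nat.sub_add_cancel hp, hzp, mul_one]
        conv_lhs => rw [split_w _ hm]
        rw [evG_append, evG_append] at ih
        rw [evG_append z, hrep, evG_append, evG_append, e2]
        calc evG L (List.take t w) * (evG L (ruleAt D r).1 * z r ^ (D.p - 1)) *
              evG L (List.drop (t + (ruleAt D r).2.length) w)
            = evG L (List.take t w) * evG L (ruleAt D r).1 *
                evG L (List.drop (t + (ruleAt D r).2.length) w) * z r ^ (D.p - 1) := by
              rw [← mul_assoc, mul_assoc _ (z r ^ (D.p - 1)) (evG L (List.drop _ w)), ← hc',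
                ← mul_assoc]
          _ = evG L w₁ * (z r ^ (D.p - 1) * evG z v₁) := by rw [ih, mul_assoc, hc']
      · rw [if_neg (fun e => hm (beq_iff_eq.1 e))] at h
        exact absurd h (by simp)
    · simp only [runPath, if_true] at h
      by_cases hm : (w.drop t).take (ruleAt D r).1.length = (ruleAt D r).1
      · rw [if_pos (beq_iff_eq.2 hm)] at h
        simp only [Option.map_eq_some_iff, Prod.mk.injEq] at h
        obtain ⟨⟨w₁, v₁⟩, h₁, rfl, rfl⟩ := h
        have ih := runPath_spec D L z hz hzp hp hr rest _ _ _ h₁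
        conv_lhs => rw [split_w _ hm]
        rw [evG_append, evG_append] at ih
        rw [evG_append z, hrep, pow_one, evG_append, evG_append, hr r]
        calc evG L (List.take t w) * (evG L (ruleAt D r).2 * z r) *
              evG L (List.drop (t + (ruleAt D r).1.length) w)
            = evG L (List.take t w) * evG L (ruleAt D r).2 *
                evG L (List.drop (t + (ruleAt D r).1.length) w) * z r := by
              rw [← mul_assoc, mul_assoc _ (z r) (evG L (List.drop _ w)), ← hc, ← mul_assoc]
          _ = evG L w₁ * (z r * evG z v₁) := by rw [ih, mul_assoc, hc]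
      · rw [if_neg (fun e => hm (beq_iff_eq.1 e))] at h
        exact absurd h (by simp)

theorem prod_eq_of_counts {K : Type*} [CommGroup K] {p : ℕ} (z : ℕ → K) (hz : ∀ i, z i ^ p = 1)
    (v : List ℕ) (nr t : ℕ) (ht : t < nr) (hv : ∀ i ∈ v, i < nr)
    (hc : ∀ i < nr, z i = 1 ∨ v.count i % p = if i = t then 1 else 0) :
    evG z v = z t := by
  classical
  rw [evG, Finset.prod_list_map_count,
    Finset.prod_subset (s₂ := Finset.range nr) (fun i hi => Finset.mem_range.2 (hv i (List.mem_toFinset.1 hi)))
      (fun i _ hi => by rw [List.count_eq_zero.2 (fun h => hi (List.mem_toFinset.2 h)), pow_zero]),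
    Finset.prod_eq_single t]
  · rcases hc t ht with h | h
    · rw [h, one_pow]
    · rw [if_pos rfl] at h
      conv_rhs => rw [← pow_one (z t), ← h]
      rw [← pow_eq_pow_mod _ (hz t)]
  · intro i hi hne
    rcases hc i (Finset.mem_range.1 hi) with h | h
    · rw [h, one_pow]
    · rw [if_neg hne] at h
      rw [pow_eq_pow_mod _ (hz i), h, pow_zero]
  · exact fun h => absurd (Finset.mem_range.2 ht) h

theorem card_closure_step [Finite Γ] {p : ℕ} (hp : 0 < p) (g : Γ) (T : Subgroup Γ)
    (hgp : g ^ p ∈ T) (hn : ∀ x ∈ T, g⁻¹ * x * g ∈ T) (X : Set Γ)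
    (hX : ∀ x ∈ X, x = g ∨ x ∈ T) : Nat.card (Subgroup.closure X) ≤ p * Nat.card T := by
  let f : Fin p × T → Γ := fun q => g ^ (q.1 : ℕ) * q.2
  have hnp : ∀ (b : ℕ), ∀ x ∈ T, (g ^ b)⁻¹ * x * g ^ b ∈ T := by
    intro b
    induction b with
    | zero => intro x hx; simpa using hx
    | succ b ih =>
      intro x hx
      have := hn _ (ih x hx)
      simpa [pow_succ, mul_assoc] using this
  have hall : ∀ (k : ℕ), ∀ x ∈ T, g ^ k * x ∈ Set.range f := by
    intro k x hx
    refine ⟨(⟨k % p, Nat.mod_lt _ hp⟩, ⟨(g ^ p) ^ (k / p) * x, mul_mem (pow_mem hgp _) hx⟩), ?_⟩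
    show g ^ (k % p) * ((g ^ p) ^ (k / p) * x) = g ^ k * x
    rw [← mul_assoc, ← pow_mul, ← pow_add, Nat.mod_add_div]
  let M : Submonoid Γ :=
    { carrier := Set.range f
      one_mem' := by simpa using hall 0 1 (one_mem T)
      mul_mem' := by
        rintro _ _ ⟨⟨a, x⟩, rfl⟩ ⟨⟨b, y⟩, rfl⟩
        have e : f (a, x) * f (b, y) =
            g ^ ((a : ℕ) + b) * (((g ^ (b : ℕ))⁻¹ * x * g ^ (b : ℕ)) * y) := by
          simp only [f, pow_add, mul_assoc, mul_inv_cancel_left]
        rw [e]
        exact hall _ _ (mul_mem (hnp _ _ x.2) y.2) }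
  have hsub : (Subgroup.closure X : Set Γ) ⊆ Set.range f := by
    let K : Subgroup Γ :=
      { M with
        inv_mem' := fun {x} hx => by
          have e : x⁻¹ = x ^ (orderOf x - 1) := by
            symm
            apply eq_inv_of_mul_eq_one_left
            rw [← pow_succ, Nat.sub_add_cancel (orderOf_pos x), pow_orderOf_eq_one]
          rw [e]
          exact pow_mem (show x ∈ M from hx) _ }
    have : Subgroup.closure X ≤ K := (Subgroup.closure_le _).2 fun x hx => by
      rcases hX x hx with rfl | h
      · have := hall 1 1 (one_mem T)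
        simp only [pow_one, mul_one] at this
        exact this
      · have := hall 0 x h
        simp only [pow_zero, one_mul] at this
        exact this
    exact this
  calc Nat.card (Subgroup.closure X) ≤ Nat.card (Set.range f) :=
        Nat.card_mono (Set.toFinite _) hsub
    _ ≤ Nat.card (Fin p × T) := Finite.card_range_le f
    _ = p * Nat.card T := by rw [Nat.card_prod, Nat.card_fin]

/-- No stem extension has a nontrivial kernel of exponent `p`. -/
theorem false_of_exponent [Finite Γ] (C : Coding G op one) (D : Data) [Fact D.p.Prime]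
    (hmem : ∀ v ∈ D.syms, ∃ g : G, C.code g = v) (hrules : rulesOK op one D = true)
    (hdefs : defsOK D = true) (hpc : pcOK D = true) (hsize : sizeOK op one D = true)
    (hcomb : combosOK D = true) {M : ℕ} (hcard : Nat.card G = D.p ^ D.n * M) (hM : ¬ D.p ∣ M)
    (σ : Γ →* G) (hσ : Cfsg.IsStemExtension σ) (hexp : ∀ z ∈ σ.ker, z ^ D.p = 1) :
    σ.ker = ⊥ := by
  classical
  have hp : D.p.Prime := Fact.out
  obtain ⟨hs, hcen, hder⟩ := hσ
  haveI : Finite G := Finite.of_surjective σ hs
  -- the values downstairs and their lifts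
  have hval : ∀ i, ∃ g : G, C.code g = D.syms.getD i one := fun i => by
    by_cases hi : i < D.syms.length
    · rw [List.getD_eq_getElem _ _ hi]; exact hmem _ (List.getElem_mem hi)
    · rw [List.getD_eq_default _ _ (Nat.le_of_not_lt hi)]; exact ⟨1, C.map_one⟩
  choose val hval using hval
  choose L0 hL0 using fun i => hs (val i)
  have hrule : ∀ r, evG val (ruleAt D r).1 = evG val (ruleAt D r).2 := fun r => by
    apply C.inj
    rw [evG_code C val D.syms _ hval, evG_code C val D.syms _ hval]
    unfold ruleAt
    by_cases hi : r < D.rules.length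
    · rw [List.getD_eq_getElem _ _ hi]
      exact beq_iff_eq.1 (List.all_eq_true.1 hrules _ (List.getElem_mem hi))
    · rw [List.getD_eq_default _ _ (Nat.le_of_not_lt hi)]
  simp only [defsOK, Bool.and_eq_true, decide_eq_true_eq, List.all_eq_true, beq_iff_eq] at hdefs
  obtain ⟨hpw, hdok⟩ := hdefs
  have hdok' : ∀ d ∈ D.defs, (∀ s ∈ (ruleAt D d.1).1, s < d.2) ∧
      (ruleAt D d.1).2.getLast? = some d.2 ∧ ∀ s ∈ (ruleAt D d.1).2.dropLast, s < d.2 :=
    fun d hd => ⟨(hdok d hd).1.1.2, (hdok d hd).1.2, (hdok d hd).2⟩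
  set L := D.defs.foldl (liftStep D) L0 with hLdef
  have hL : ∀ i, σ (L i) = val i := by
    have key : ∀ (ds : List (ℕ × ℕ)) (F : ℕ → Γ),
        (∀ d ∈ ds, (ruleAt D d.1).2.getLast? = some d.2) → (∀ i, σ (F i) = val i) →
        ∀ i, σ (ds.foldl (liftStep D) F i) = val i := by
      intro ds
      induction ds with
      | nil => intro F _ hF; exact hF
      | cons d ds ih =>
        intro F hd hF
        rw [List.foldl_cons]
        refine ih _ (fun e he => hd e (List.mem_cons_of_mem _ he)) fun i => ?_
        by_cases hi : i = d.2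
        · subst hi
          simp only [liftStep, Function.update_self, map_mul, map_inv, map_evG]
          rw [evG_congr (g := val) (fun s _ => hF s), evG_congr (g := val) (fun s _ => hF s), hrule]
          conv_lhs => rw [← List.dropLast_append_getLast? _ (hd d List.mem_cons_self)]
          rw [evG_append]
          simp [evG, List.dropLast_concat]
        · rw [liftStep, Function.update_of_ne hi]; exact hF i
    exact key _ _ (fun d hd => (hdok' d hd).2.1) hL0
  have hLev : ∀ w, σ (evG L w) = evG val w := fun w => by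
    rw [map_evG]; exact evG_congr fun s _ => hL s
  -- the central factors
  set z : ℕ → Γ := fun r => (evG L (ruleAt D r).2)⁻¹ * evG L (ruleAt D r).1 with hzdef
  have hzker : ∀ r, z r ∈ σ.ker := fun r => by
    simp only [hzdef, MonoidHom.mem_ker, map_mul, map_inv, hLev, hrule r, inv_mul_cancel]
  have hzdefs : ∀ d ∈ D.defs, z d.1 = 1 := fun d hd => by
    simp only [hzdef]
    rw [hLdef, foldl_liftStep_spec D D.defs L0 hpw hdok' d hd, inv_mul_cancel]
  have hrz : ∀ r, evG L (ruleAt D r).1 = evG L (ruleAt D r).2 * z r := fun r => by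
    simp only [hzdef, mul_inv_cancel_left]
  have hpath : ∀ e, evG z (pathVec D e) = 1 := by
    intro e
    unfold pathVec
    rcases D.paths.getD e ([], []) with ⟨w, steps⟩
    simp only
    split
    · rename_i w' v hrun
      split_ifs with heq
      · have := runPath_spec D L z (fun r => hcen (hzker r)) (fun r => hexp _ (hzker r)) hp.pos hrz
          steps w w' v hrun
        rw [beq_iff_eq.1 heq] at this
        exact mul_eq_left.1 this.symm
      · rfl
    · rfl
  have hcombo : ∀ c, evG z (comboVec D c) = 1 := by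
    intro c
    induction c with
    | nil => rfl
    | cons q c ih =>
      rw [show comboVec D (q :: c) =
        (List.replicate q.2 (pathVec D q.1)).flatten ++ comboVec D c from rfl, evG_append, ih, mul_one]
      generalize q.2 = k
      induction k with
      | zero => rfl
      | succ k ihk => rw [List.replicate_succ, List.flatten_cons, evG_append, hpath, ihk, one_mul]
  letI : CommGroup σ.ker :=
    { (inferInstance : Group σ.ker) with
      mul_comm := fun a b => Subtype.ext (Subgroup.mem_center_iff.1 (hcen b.2) a.1) }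
  -- the polycyclic rules have trivial factor
  simp only [combosOK, Bool.and_eq_true, beq_iff_eq, decide_eq_true_eq, List.all_eq_true,
    List.mem_range, Bool.not_eq_true', List.any_eq_false] at hcomb
  have hzero : ∀ r, isZero D r = true → z r = 1 := by
    intro r hr
    simp only [isZero, Bool.or_eq_true, List.any_eq_true, beq_iff_eq, List.contains_iff_mem] at hr
    rcases hr with ⟨d, hd, rfl⟩ | hr
    · exact hzdefs d hd
    obtain ⟨k, hk, rfl⟩ := List.getElem_of_mem hr
    obtain ⟨⟨hlt, -⟩, hok⟩ := hcomb.2 k hk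
    rw [List.getD_eq_getElem _ _ hk] at hlt
    simp only [comboOK, Bool.and_eq_true, List.all_eq_true, decide_eq_true_eq, List.mem_range,
      Bool.or_eq_true, List.any_eq_true, beq_iff_eq, List.getD_eq_getElem _ _ hk] at hok
    let Z : ℕ → σ.ker := fun i => ⟨z i, hzker i⟩
    have hval' : ∀ w, (evG Z w).1 = evG z w := fun w => map_evG σ.ker.subtype Z w
    have := prod_eq_of_counts (p := D.p) Z (fun i => Subtype.ext (hexp _ (hzker i)))
      (comboVec D (D.combos.getD k [])) D.rules.length _ hlt hok.1 (fun i hi => by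
        rcases hok.2 i hi with ⟨d, hd, rfl⟩ | h
        · exact Or.inl (Subtype.ext (hzdefs d hd))
        · exact Or.inr h)
    have e := congrArg Subtype.val this
    rw [hval', hcombo] at e
    exact e.symm
  -- the section over the Sylow subgroup
  simp only [pcOK, List.all_eq_true, List.mem_range, Bool.and_eq_true, List.any_eq_true,
    Bool.or_eq_true, beq_iff_eq, decide_eq_true_eq] at hpc
  let S : ℕ → Subgroup Γ := fun i => Subgroup.closure (L '' {k | i ≤ k ∧ k < D.n})
  have hgenS : ∀ i k, i ≤ k → k < D.n → L k ∈ S i := fun i k h1 h2 =>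
    Subgroup.subset_closure ⟨k, ⟨h1, h2⟩, rfl⟩
  have hwS : ∀ i (w : List ℕ), (∀ s ∈ w, i < s ∧ s < D.n) → evG L w ∈ S (i + 1) := fun i w hw =>
    evG_mem (S := (S (i + 1)).toSubmonoid) fun s hs => hgenS _ _ (hw s hs).1 (hw s hs).2
  have hSn : S D.n = ⊥ := by
    simp only [S]
    rw [Subgroup.closure_eq_bot_iff]
    rintro x ⟨k, hk, rfl⟩
    have h1 := hk.1
    have h2 := hk.2
    omega
  have hStep : ∀ i < D.n, Nat.card (S i) ≤ D.p * Nat.card (S (i + 1)) := by
    intro i hi
    obtain ⟨⟨r, -, hrz', hr2⟩, hconj⟩ := hpc i hi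
    refine card_closure_step hp.pos (L i) (S (i + 1)) ?_ ?_ _ ?_
    · have h := hrz r
      rw [hzero r hrz'.1, mul_one, hrz'.2] at h
      rw [show L i ^ D.p = evG L (List.replicate D.p i) by
        rw [evG, List.map_replicate, List.prod_replicate], h]
      exact hwS i _ hr2
    · intro x hx
      induction hx using Subgroup.closure_induction with
      | mem y hy =>
        obtain ⟨j, ⟨hij, hjn⟩, rfl⟩ := hy
        obtain ⟨r, -, ⟨⟨hz0, hl⟩, hhd⟩, htl⟩ := (hconj j hjn).resolve_left (by omega)
        have h := hrz r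
        rw [hzero r hz0, mul_one, hl] at h
        obtain ⟨tl, htl'⟩ := List.head?_eq_some_iff.1 hhd
        rw [htl'] at h htl
        have e : L j * L i = L i * evG L tl := by simpa [evG] using h
        rw [mul_assoc, e, inv_mul_cancel_left]
        exact hwS i tl htl
      | one => simp
      | mul a b _ _ ha hb =>
        have := mul_mem ha hb
        simpa [mul_assoc] using this
      | inv a _ ha =>
        have := inv_mem ha
        simpa [mul_assoc] using this
    · rintro x ⟨k, ⟨h1, h2⟩, rfl⟩
      rcases h1.eq_or_lt with rfl | h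
      · exact Or.inl rfl
      · exact Or.inr (hgenS _ _ h h2)
  have hcardS : ∀ d ≤ D.n, Nat.card (S (D.n - d)) ≤ D.p ^ d := by
    intro d
    induction d with
    | zero => intro _; rw [Nat.sub_zero, hSn, Subgroup.card_bot, pow_zero]
    | succ d ih =>
      intro hd
      refine (hStep _ (by omega)).trans ?_
      rw [show D.n - (d + 1) + 1 = D.n - d by omega, pow_succ']
      exact Nat.mul_le_mul_left _ (ih (by omega))
  have hS0 : Nat.card (S 0) ≤ D.p ^ D.n := by simpa using hcardS D.n le_rfl
  -- the image is a Sylow subgroup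
  simp only [sizeOK, Bool.and_eq_true, decide_eq_true_eq, beq_iff_eq] at hsize
  set E : Subgroup G := (S 0).map σ with hE
  have hEge : D.p ^ D.n ≤ Nat.card E := by
    have hnd := (increasing_nodup _ hsize.2).imp (fun h => ne_of_lt h)
    let f : Fin D.sorted.length → E := fun k =>
      ⟨σ (evG L ((List.range D.n).flatMap fun i =>
          List.replicate (D.sorted[k.val] / D.p ^ i % D.p) i)),
        Subgroup.mem_map_of_mem σ (evG_mem (S := (S 0).toSubmonoid) fun s hs => by
          obtain ⟨i, hi, hs'⟩ := List.mem_flatMap.1 hs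
          rw [List.eq_of_mem_replicate hs']
          exact hgenS 0 i (Nat.zero_le _) (List.mem_range.1 hi))⟩
    have hf : Function.Injective f := by
      intro a b hab
      have h := congrArg (fun x : E => C.code x.1) hab
      simp only [f, hLev, evG_code C val D.syms _ hval] at h
      by_contra hne
      have hne' : a.val ≠ b.val := fun e => hne (Fin.ext e)
      have hinj := List.pairwise_iff_getElem.1 hnd
      rcases Nat.lt_or_gt_of_ne hne' with hl | hl
      · have := hinj a.val b.val (by simp) (by simp) hl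
        simp only [List.getElem_map, prodCode] at this
        exact this h
      · have := hinj b.val a.val (by simp) (by simp) hl
        simp only [List.getElem_map, prodCode] at this
        exact this h.symm
    have := Nat.card_le_card_of_injective f hf
    rwa [Nat.card_fin, hsize.1.2] at this
  have hEle : Nat.card E ≤ Nat.card (S 0) := by
    have := Nat.card_le_card_of_surjective _ (σ.subgroupMap_surjective (S 0))
    exact this
  have hEeq : Nat.card E = D.p ^ D.n := le_antisymm (hEle.trans hS0) hEge
  have hinj : ∀ x ∈ S 0, σ x = 1 → x = 1 := by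
    intro x hx h1
    have hb : Function.Bijective (σ.subgroupMap (S 0)) :=
      (Nat.bijective_iff_surjective_and_card _).2
        ⟨σ.subgroupMap_surjective (S 0), le_antisymm (hS0.trans hEeq.ge) hEle⟩
    have : (⟨x, hx⟩ : S 0) = 1 := hb.1 (Subtype.ext (h1.trans σ.map_one.symm))
    exact congrArg Subtype.val this
  let ES : Sylow D.p G := Sylow.ofCard E (by
    rw [hEeq, hcard, Nat.factorization_mul (pow_ne_zero _ hp.ne_zero)
      (fun h0 => hM (by rw [h0]; exact dvd_zero _)), Finsupp.add_apply, hp.factorization_pow,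
      Finsupp.single_eq_same, Nat.factorization_eq_zero_of_not_dvd hM, add_zero])
  refine ker_eq_bot_of_sylow ⟨hs, hcen, hder⟩ fun q hq P x hxP hxker hxcomm => ?_
  by_cases hqp : q = D.p
  swap
  · by_contra hx1
    obtain ⟨a, ha⟩ := P.isPGroup' ⟨x, hxP⟩
    have h1 : orderOf x ∣ q ^ a := orderOf_dvd_of_pow_eq_one (congrArg Subtype.val ha)
    have h2 : orderOf x ∣ D.p := orderOf_dvd_of_pow_eq_one (hexp _ hxker)
    rcases (Nat.dvd_prime hp).1 h2 with h | h
    · exact hx1 (orderOf_eq_one_iff.1 h)
    · rw [h] at h1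
      exact hqp ((Nat.prime_dvd_prime_iff_eq hp hq.out).1 (hp.dvd_of_dvd_pow h1)).symm
  subst hqp
  obtain ⟨g, hg⟩ := MulAction.exists_smul_eq G (P.mapSurjective hs) ES
  obtain ⟨g, rfl⟩ := hs g
  have hconjE : ∀ a ∈ P, σ (g * a * g⁻¹) ∈ E := fun a ha => by
    have : σ (g * a * g⁻¹) ∈ ((σ g • P.mapSurjective hs : Sylow D.p G) : Subgroup G) := by
      rw [Sylow.coe_subgroup_smul]
      refine ⟨σ a, ?_, by simp [MulAut.conj_apply]⟩
      show σ a ∈ (P : Subgroup Γ).map σ
      exact Subgroup.mem_map_of_mem σ ha
    rw [hg] at this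
    exact this
  have hsplit : ∀ a ∈ P, ∃ s ∈ S 0, ∃ k ∈ σ.ker, g * a * g⁻¹ = s * k := fun a ha => by
    obtain ⟨s, hs0, hs1⟩ := hconjE a ha
    exact ⟨s, hs0, s⁻¹ * (g * a * g⁻¹), by
      rw [MonoidHom.mem_ker, map_mul, map_inv, hs1, inv_mul_cancel], (mul_inv_cancel_left _ _).symm⟩
  have hxS : g * x * g⁻¹ ∈ S 0 := by
    have h1 : x ∈ ⁅(P : Subgroup Γ), (P : Subgroup Γ)⁆ := by
      rw [← Subgroup.map_subtype_commutator]
      exact ⟨⟨x, hxP⟩, hxcomm, rfl⟩
    have hle : ⁅(P : Subgroup Γ), (P : Subgroup Γ)⁆ ≤ (S 0).comap (MulAut.conj g).toMonoidHom := by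
      rw [Subgroup.commutator_le]
      intro a ha b hb
      obtain ⟨s, hs0, k, hk, ea⟩ := hsplit a ha
      obtain ⟨t, ht0, l, hl, eb⟩ := hsplit b hb
      show MulAut.conj g ⁅a, b⁆ ∈ S 0
      have hk' := fun y : Γ => Subgroup.mem_center_iff.1 (hcen hk) y
      have hl' := fun y : Γ => Subgroup.mem_center_iff.1 (hcen hl) y
      have hst : ⁅s * k, t * l⁆ = ⁅s, t⁆ := by
        simp only [commutatorElement_def]
        have e1 : s * k * (t * l) = s * t * (k * l) := by
          rw [mul_assoc s k, ← mul_assoc k t l, ← hk' t, mul_assoc t k l, ← mul_assoc]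
        have e2 : t * l * (s * k) = t * s * (k * l) := by
          rw [mul_assoc t l, ← mul_assoc l s k, ← hl' s, mul_assoc s l k, ← hl' k, ← mul_assoc]
        calc s * k * (t * l) * (s * k)⁻¹ * (t * l)⁻¹
            = (s * k * (t * l)) * (t * l * (s * k))⁻¹ := by group
          _ = s * t * s⁻¹ * t⁻¹ := by rw [e1, e2]; group
      have e : MulAut.conj g ⁅a, b⁆ = ⁅s * k, t * l⁆ := by
        rw [← ea, ← eb, map_commutatorElement, MulAut.conj_apply, MulAut.conj_apply]
      rw [e, hst, commutatorElement_def]
      exact mul_mem (mul_mem (mul_mem hs0 ht0) (inv_mem hs0)) (inv_mem ht0)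
    exact hle h1
  have h2 := hinj _ hxS (by
    rw [map_mul, map_mul, map_inv, MonoidHom.mem_ker.1 hxker, mul_one, mul_inv_cancel])
  exact conj_eq_one_iff.1 h2

/-- No stem extension has kernel of order divisible by `p`. -/
theorem not_dvd_card_ker [Finite Γ] (C : Coding G op one) (D : Data) [Fact D.p.Prime]
    (hmem : ∀ v ∈ D.syms, ∃ g : G, C.code g = v) (hrules : rulesOK op one D = true)
    (hdefs : defsOK D = true) (hpc : pcOK D = true) (hsize : sizeOK op one D = true)
    (hcomb : combosOK D = true) {M : ℕ} (hcard : Nat.card G = D.p ^ D.n * M) (hM : ¬ D.p ∣ M)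
    (σ : Γ →* G) (hσ : Cfsg.IsStemExtension σ) : ¬ D.p ∣ Nat.card σ.ker := by
  intro hdvd
  letI : CommGroup σ.ker :=
    { (inferInstance : Group σ.ker) with
      mul_comm := fun a b => Subtype.ext (Subgroup.mem_center_iff.1 (hσ.2.1 b.2) a.1) }
  let φ : σ.ker →* σ.ker := powMonoidHom D.p
  let K : Subgroup Γ := φ.range.map σ.ker.subtype
  haveI hKn : K.Normal := ⟨fun x hx g => by
    obtain ⟨y, hy, rfl⟩ := hx
    have hc := Subgroup.mem_center_iff.1 (hσ.2.1 y.2) g
    rw [Subgroup.coe_subtype, hc, mul_inv_cancel_right]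
    exact ⟨y, hy, rfl⟩⟩
  have hKle : K ≤ σ.ker := Subgroup.map_subtype_le _
  let τ : Γ ⧸ K →* G := QuotientGroup.lift K σ hKle
  have hτ : Cfsg.IsStemExtension τ := by
    have hkmem : ∀ x : Γ, (x : Γ ⧸ K) ∈ τ.ker → x ∈ σ.ker := fun x hx => hx
    refine ⟨fun g => ?_, ?_, ?_⟩
    · obtain ⟨x, rfl⟩ := hσ.1 g
      exact ⟨x, rfl⟩
    · intro q hq
      induction q using QuotientGroup.induction_on with
      | _ x =>
        refine Subgroup.mem_center_iff.2 fun y => ?_
        induction y using QuotientGroup.induction_on with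
        | _ y =>
          rw [← QuotientGroup.mk_mul, ← QuotientGroup.mk_mul,
            Subgroup.mem_center_iff.1 (hσ.2.1 (hkmem x hq)) y]
    · intro q hq
      induction q using QuotientGroup.induction_on with
      | _ x =>
        have := Subgroup.mem_map_of_mem (QuotientGroup.mk' K) (hσ.2.2 (hkmem x hq))
        rw [commutator_def, Subgroup.map_commutator,
          Subgroup.map_top_of_surjective _ (QuotientGroup.mk'_surjective K)] at this
        exact this
  have hexp : ∀ q ∈ τ.ker, q ^ D.p = 1 := by
    intro q hq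
    induction q using QuotientGroup.induction_on with
    | _ x =>
      rw [← QuotientGroup.mk_pow, QuotientGroup.eq_one_iff]
      exact ⟨φ ⟨x, hq⟩, ⟨⟨x, hq⟩, rfl⟩, rfl⟩
  have hbot := false_of_exponent C D hmem hrules hdefs hpc hsize hcomb hcard hM τ hτ hexp
  have hsurj : Function.Surjective φ := fun y => by
    have : (y.1 : Γ ⧸ K) ∈ τ.ker := y.2
    rw [hbot, Subgroup.mem_bot, QuotientGroup.eq_one_iff] at this
    obtain ⟨y', ⟨w, hw⟩, hy'⟩ := this
    exact ⟨w, hw.trans (Subtype.ext hy')⟩
  have hinj := Finite.injective_iff_surjective.2 hsurj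
  obtain ⟨z, hz⟩ := exists_prime_orderOf_dvd_card' D.p hdvd
  have : z = 1 := hinj (by simp only [φ, powMonoidHom_apply, one_pow, ← hz, pow_orderOf_eq_one])
  rw [this, orderOf_one] at hz
  exact (Fact.out : D.p.Prime).one_lt.ne hz

end H97.SchurCert
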