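import Cfsg.Agent.H97.MathieuOutDefs
import Cfsg.Prelude.Def_KGroupFacts

/-!
Soundness of the automorphism certificates.
-/

set_option autoImplicit false

namespace H97.MOut

open H90 Cfsg

/-- The canonical code of a permutation. -/
def code (σ : Equiv.Perm GolayPt) : ℕ :=
  packAux (fun i => if h : i < 24 then (idx (σ (pt ⟨i, h⟩))).val else 0) 24

theorem packAux_congr {f g : ℕ → ℕ} : ∀ k, (∀ i < k, f i = g i) → packAux f k = packAux g k
  | 0, _ => rfl
  | k + 1, h => by
    rw [packAux, packAux, packAux_congr k (fun i hi => h i (by omega)), h k (by omega)]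

theorem repr_code (σ : Equiv.Perm GolayPt) : Repr σ (code σ) := by
  intro i
  rw [code, img_packAux _ (fun j => by split <;> omega), if_pos i.isLt, dif_pos i.isLt]

theorem code_inj {σ τ : Equiv.Perm GolayPt} (h : code σ = code τ) : σ = τ :=
  (repr_code σ).unique (h ▸ repr_code τ)

theorem code_of_repr {σ : Equiv.Perm GolayPt} {p : ℕ} (h : Repr σ p) :
    code σ = packAux (fun i => img p i) 24 :=
  packAux_congr 24 fun i hi => by rw [dif_pos hi]; exact h ⟨i, hi⟩

theorem canon_packAux (f : ℕ → ℕ) (hf : ∀ i, f i < 32) :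
    packAux (fun i => img (packAux f 24) i) 24 = packAux f 24 :=
  packAux_congr 24 fun i hi => by rw [img_packAux f hf, if_pos hi]

theorem code_mul (σ τ : Equiv.Perm GolayPt) : code (σ * τ) = compN (code σ) (code τ) := by
  rw [code_of_repr ((repr_code σ).mul (repr_code τ)), compN, canon_packAux _ fun i => img_lt_32 _ _]

theorem code_one : code 1 = idN := by
  rw [code_of_repr repr_one, idN, canon_packAux _ fun i => Nat.mod_lt _ (by norm_num)]

theorem code_pow (σ : Equiv.Perm GolayPt) : ∀ n, code (σ ^ n) = powN (code σ) n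
  | 0 => by rw [pow_zero, code_one, powN]
  | n + 1 => by rw [pow_succ, code_mul, code_pow σ n, powN]

theorem img_code (σ : Equiv.Perm GolayPt) (i : Fin 24) :
    img (code σ) i = (idx (σ (pt i))).val := (repr_code σ i).symm

theorem exists_code {p : ℕ} (h : isPerm p = true)
    (hc : packAux (fun i => img p i) 24 = p) : ∃ σ, code σ = p := by
  obtain ⟨σ, hσ⟩ := exists_repr h
  exact ⟨σ, (code_of_repr hσ).trans hc⟩

theorem code_evalN (x y z : Equiv.Perm GolayPt) (w : List ℕ) :
    evalN (code x) (code y) (code z) w =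
      code (w.foldl (fun acc i => acc * (if i = 0 then x else if i = 1 then y else z)) 1) := by
  have key : ∀ (w : List ℕ) (g : Equiv.Perm GolayPt),
      w.foldl (fun acc i =>
        compN acc (if i = 0 then code x else if i = 1 then code y else code z)) (code g) =
      code (w.foldl (fun acc i => acc * (if i = 0 then x else if i = 1 then y else z)) g) := by
    intro w
    induction w with
    | nil => intro g; rfl
    | cons i w ih =>
      intro g
      rw [List.foldl_cons, List.foldl_cons, ← ih, code_mul, apply_ite code, apply_ite code]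
  rw [evalN, ← code_one, key]

/-! ### Stabiliser chains -/

/-- Products through the transversals, `p` accumulated on the left. -/
def InChain : List (ℕ × List ℕ) → Equiv.Perm GolayPt → Prop
  | [], g => g = 1
  | (_, T) :: L, g => ∃ u, code u ∈ T ∧ ∃ v, InChain L v ∧ g = u * v

variable (H : Subgroup (Equiv.Perm GolayPt))

theorem fix_of_img_eq {σ : Equiv.Perm GolayPt} {y : ℕ} (hy : y < 24)
    (h : img (code σ) y = y) : σ (pt ⟨y, hy⟩) = pt ⟨y, hy⟩ := by
  apply idx_injective
  rw [idx_pt]
  exact Fin.ext (by rw [← img_code σ ⟨y, hy⟩]; exact h)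

theorem inChain_fix : ∀ (L : List (ℕ × List ℕ)) (fixd : List ℕ), (∀ y ∈ fixd, y < 24) →
    chainOK fixd L = true → ∀ g, InChain L g → ∀ y, y ∈ fixd → ∀ hy : y < 24,
      g (pt ⟨y, hy⟩) = pt ⟨y, hy⟩
  | [], _, _, _, g, hg, _, _, _ => by rw [show g = 1 from hg]; rfl
  | (x, T) :: L, fixd, hlt, hok, g, ⟨u, hu, v, hv, e⟩, y, hy, hy24 => by
    simp only [chainOK, Bool.and_eq_true, decide_eq_true_eq, List.all_eq_true, beq_iff_eq] at hok
    obtain ⟨⟨⟨hx, -⟩, hT⟩, hL⟩ := hok
    have hv' := inChain_fix L (fixd ++ [x]) (by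
      intro z hz
      rcases List.mem_append.1 hz with hz | hz
      · exact hlt z hz
      · rw [List.mem_singleton.1 hz]; exact hx) hL v hv y (List.mem_append_left _ hy) hy24
    rw [e, Equiv.Perm.mul_apply, hv', fix_of_img_eq hy24 (hT _ hu y hy)]

theorem exists_finset : ∀ (L : List (ℕ × List ℕ)) (fixd : List ℕ), (∀ y ∈ fixd, y < 24) →
    chainOK fixd L = true → (∀ l ∈ L, ∀ u ∈ l.2, ∃ σ ∈ H, code σ = u) →
    ∃ S : Finset (Equiv.Perm GolayPt), S.card = chainSize L ∧ ∀ g ∈ S, g ∈ H ∧ InChain L g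
  | [], _, _, _, _ => ⟨{1}, rfl, fun g hg => by
      rw [Finset.mem_singleton.1 hg]; exact ⟨one_mem _, rfl⟩⟩
  | (x, T) :: L, fixd, hlt, hok, hH => by
    classical
    have hok' := hok
    simp only [chainOK, Bool.and_eq_true, decide_eq_true_eq, List.all_eq_true, beq_iff_eq] at hok'
    obtain ⟨⟨⟨hx, hnd⟩, -⟩, hL⟩ := hok'
    have hlt' : ∀ z ∈ fixd ++ [x], z < 24 := by
      intro z hz
      rcases List.mem_append.1 hz with hz | hz
      · exact hlt z hz
      · rw [List.mem_singleton.1 hz]; exact hx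
    obtain ⟨S, hS, hSH⟩ := exists_finset L (fixd ++ [x]) hlt' hL
      fun l hl => hH l (List.mem_cons_of_mem _ hl)
    have hT : ∀ u : {u // u ∈ T}, ∃ σ ∈ H, code σ = u.1 :=
      fun u => hH (x, T) List.mem_cons_self u.1 u.2
    choose σ hσH hσ using hT
    let A : Finset {u // u ∈ T} := T.attach.toFinset
    have hA : A.card = T.length := by
      rw [List.toFinset_card_of_nodup (List.nodup_attach.2 (List.Nodup.of_map _ hnd)),
        List.length_attach]
    refine ⟨(A ×ˢ S).image fun q => σ q.1 * q.2, ?_, ?_⟩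
    · rw [Finset.card_image_of_injOn, Finset.card_product, hA, hS, chainSize]
      rintro ⟨u, v⟩ hq ⟨u', v'⟩ hq' he
      simp only [Finset.coe_product, Set.mem_prod, Finset.mem_coe] at hq hq'
      have fv : ∀ v ∈ S, v (pt ⟨x, hx⟩) = pt ⟨x, hx⟩ := fun v hv =>
        inChain_fix L (fixd ++ [x]) hlt' hL v (hSH v hv).2 x (by simp) hx
      have h1 : σ u (pt ⟨x, hx⟩) = σ u' (pt ⟨x, hx⟩) := by
        have := congrArg (fun g : Equiv.Perm GolayPt => g (pt ⟨x, hx⟩)) he
        simpa [Equiv.Perm.mul_apply, fv v hq.2, fv v' hq'.2] using this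
      have h2 : img u.1 x = img u'.1 x := by
        rw [← hσ u, ← hσ u', img_code _ ⟨x, hx⟩, img_code _ ⟨x, hx⟩, h1]
      have h3 : u = u' := Subtype.ext (List.inj_on_of_nodup_map hnd u.2 u'.2 h2)
      subst h3
      exact Prod.ext rfl (mul_left_cancel he)
    · intro g hg
      obtain ⟨⟨u, v⟩, hq, rfl⟩ := Finset.mem_image.1 hg
      have hv := hSH v (Finset.mem_product.1 hq).2
      exact ⟨mul_mem (hσH u) hv.1, σ u, by rw [hσ u]; exact u.2, v, hv.2, rfl⟩

variable {H}

/-- A chain of the right size exhausts the group and witnesses generation. -/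
theorem chain_exhausts {G : Subgroup (Equiv.Perm GolayPt)} (hHG : H ≤ G) {N : ℕ}
    (hcard : Nat.card G = N) {L : List (ℕ × List ℕ)} (hok : chainOK [] L = true)
    (hN : chainSize L = N) (hH : ∀ l ∈ L, ∀ u ∈ l.2, ∃ σ ∈ H, code σ = u) :
    H = G ∧ ∀ g ∈ G, InChain L g := by
  classical
  obtain ⟨S, hS, hSH⟩ := exists_finset H L [] (by simp) hok hH
  haveI : Fintype G := Fintype.ofFinite _
  let GS : Finset (Equiv.Perm GolayPt) := (G : Set (Equiv.Perm GolayPt)).toFinset
  have hsub : S ⊆ GS := fun g hg => Set.mem_toFinset.2 (hHG (hSH g hg).1)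
  have hGS : GS.card = N := by
    rw [← hcard, Set.toFinset_card, Nat.card_eq_fintype_card]; rfl
  have heq : S = GS := Finset.eq_of_subset_of_card_le hsub (by rw [hGS, hS, hN])
  have hmem : ∀ g ∈ G, g ∈ S := fun g hg => heq ▸ Set.mem_toFinset.2 hg
  exact ⟨le_antisymm hHG fun g hg => (hSH g (hmem g hg)).1, fun g hg => (hSH g (hmem g hg)).2⟩

theorem search_complete (tg : ℕ → Option ℕ) : ∀ (L : List (ℕ × List ℕ)) (fixd : List ℕ),
    (∀ y ∈ fixd, y < 24) → chainOK fixd L = true → ∀ (p g : Equiv.Perm GolayPt), InChain L g →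
    (∀ l ∈ L, ∀ y, tg l.1 = some y → img (code (p * g)) l.1 = y) →
    code (p * g) ∈ search tg L (code p)
  | [], _, _, _, p, g, hg, _ => by rw [show g = 1 from hg, mul_one, search]; exact List.mem_singleton_self _
  | (x, T) :: L, fixd, hlt, hok, p, g, ⟨u, hu, v, hv, e⟩, htg => by
    have hok' := hok
    simp only [chainOK, Bool.and_eq_true, decide_eq_true_eq, List.all_eq_true, beq_iff_eq] at hok'
    obtain ⟨⟨⟨hx, -⟩, -⟩, hL⟩ := hok'
    have hlt' : ∀ z ∈ fixd ++ [x], z < 24 := by
      intro z hz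
      rcases List.mem_append.1 hz with hz | hz
      · exact hlt z hz
      · rw [List.mem_singleton.1 hz]; exact hx
    have hrec := search_complete tg L (fixd ++ [x]) hlt' hL (p * u) v hv
      fun l hl y hy => by rw [mul_assoc, ← e]; exact htg l (List.mem_cons_of_mem _ hl) y hy
    rw [search, List.mem_flatMap]
    refine ⟨code u, hu, ?_⟩
    rw [e, ← mul_assoc, ← code_mul]
    cases hx' : tg x with
    | none => exact hrec
    | some y =>
      have h1 := htg (x, T) List.mem_cons_self y hx'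
      rw [e, ← mul_assoc] at h1
      simp only [img_code _ ⟨x, hx⟩, Equiv.Perm.mul_apply,
        inChain_fix L (fixd ++ [x]) hlt' hL v hv x (by simp) hx] at h1
      show code (p * u * v) ∈ ite _ _ _
      rw [if_pos]
      · exact hrec
      · rw [img_code _ ⟨x, hx⟩, Equiv.Perm.mul_apply]; exact h1

theorem centralizer_mem {D : OutData} {L : List (ℕ × List ℕ)} {g : Equiv.Perm GolayPt}
    {ord r : ℕ} {C : List ℕ} (hr : r < 24) (hok : chainOK [] (levVals D L) = true)
    (h : centOK D (code g) ord L r C = true) {σ : Equiv.Perm GolayPt}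
    (hσ : InChain (levVals D L) σ) (hc : σ * g = g * σ) : code σ ∈ C := by
  have h' := (List.all_eq_true.1 h) _ (List.mem_range.2 (idx (σ (pt ⟨r, hr⟩))).isLt)
  have hmem := search_complete (commTarget (code g) ord r (idx (σ (pt ⟨r, hr⟩))).val)
    (levVals D L) [] (by simp) hok 1 σ hσ ?_
  · rw [one_mul, code_one] at hmem
    have h'' := (List.all_eq_true.1 h') _ hmem
    simp only [Bool.or_eq_true, Bool.not_eq_true', beq_eq_false_iff_ne, List.contains_iff_mem,
      ← code_mul, hc] at h''
    exact h''.resolve_left fun hne => hne rfl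
  intro l _ y hy
  rw [one_mul]
  simp only [commTarget, Option.map_eq_some_iff] at hy
  obtain ⟨t, ht, rfl⟩ := hy
  have ht' := List.find?_some ht
  simp only [beq_iff_eq] at ht'
  rw [← ht', ← code_pow, img_code _ ⟨r, hr⟩, img_code _ (idx _), img_code _ (idx _), pt_idx, pt_idx]
  have hcomm : σ * g ^ t = g ^ t * σ := (show Commute σ g from hc).pow_right t
  rw [← Equiv.Perm.mul_apply, hcomm, Equiv.Perm.mul_apply]

/-! ### The certificate -/

variable {G : Subgroup (Equiv.Perm GolayPt)}

/-- The conclusion of a certificate. -/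
structure Result (D : OutData) (G : Subgroup (Equiv.Perm GolayPt)) : Prop where
  cases : ∀ φ : MulAut G, φ ∈ Inn G ∨ D.outer.isSome = true ∧ ∃ θ ∈ Inn G,
    ∀ (σ : Equiv.Perm GolayPt) (τ : MulAut G), D.outer = some (code σ) →
      (∀ g : G, (τ g).1 = σ * g.1 * σ⁻¹) → θ * φ = τ
  notInner : ∀ (σ : Equiv.Perm GolayPt) (τ : MulAut G), D.outer = some (code σ) →
    (∀ g : G, (τ g).1 = σ * g.1 * σ⁻¹) → τ ∉ Inn G

theorem conj_pow_iter {M : Type*} [Group M] {n a : M} {k : ℕ} (h : n * a * n⁻¹ = a ^ k) :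
    ∀ i : ℕ, n ^ i * a * (n ^ i)⁻¹ = a ^ k ^ i
  | 0 => by simp
  | i + 1 => by
    have ih := conj_pow_iter h i
    calc n ^ (i + 1) * a * (n ^ (i + 1))⁻¹ = n ^ i * (n * a * n⁻¹) * (n ^ i)⁻¹ := by
          rw [pow_succ]; group
      _ = (n ^ i * a * (n ^ i)⁻¹) ^ k := by rw [h, conj_pow]
      _ = a ^ k ^ (i + 1) := by rw [ih, ← pow_mul, pow_succ]

theorem pow_cancel {M : Type*} [Group M] {x y : M} {ell j i : ℕ} (hx : x ^ ell = 1)
    (hy : y ^ ell = 1) (hij : j * i % ell = 1) (h : x ^ j = y ^ j) : x = y := by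
  have e : ∀ z : M, z ^ ell = 1 → (z ^ j) ^ i = z := fun z hz => by
    rw [← pow_mul, ← Nat.mod_add_div (j * i) ell, hij, pow_add, pow_one, pow_mul, hz, one_pow,
      mul_one]
  rw [← e x hx, ← e y hy, h]

theorem soundness {D : OutData} {N M : ℕ} (hN : Nat.card G = N) (hM : N = D.ell * M)
    (hell : D.ell.Prime) (hM' : ¬ D.ell ∣ M)
    (hmem : ∀ p ∈ [D.a, D.n, D.b], ∃ σ ∈ G, Repr σ p)
    (hch : checkChains D N = true) (hce : checkCents D = true) (hca : checkCands D = true) :
    Result D G := by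
  simp only [checkCands, Bool.and_eq_true, genOK, beq_iff_eq, decide_eq_true_eq,
    Bool.not_eq_true', beq_eq_false_iff_ne, List.all_eq_true, List.any_eq_true,
    Bool.or_eq_true, List.mem_range] at hca
  obtain ⟨⟨⟨⟨⟨⟨⟨⟨⟨⟨⟨⟨hca', hcn⟩, hcb⟩, -⟩, hpa⟩, hne⟩, hna⟩, hbn⟩, hadj⟩, hrep⟩, hinv⟩, hout⟩, hcand⟩ := hca
  obtain ⟨A, hAG, hA⟩ := hmem D.a (by simp)
  obtain ⟨Nn, hNG, hNn⟩ := hmem D.n (by simp)
  obtain ⟨B, hBG, hB⟩ := hmem D.b (by simp)
  replace hA : code A = D.a := (code_of_repr hA).trans hca'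
  replace hNn : code Nn = D.n := (code_of_repr hNn).trans hcn
  replace hB : code B = D.b := (code_of_repr hB).trans hcb
  simp only [checkChains, Bool.and_eq_true, beq_iff_eq, List.all_eq_true, decide_eq_true_eq,
    List.mem_range] at hch
  obtain ⟨⟨⟨⟨⟨hnodes, hokA⟩, hsA⟩, hokN⟩, hsN⟩, hidx⟩ := hch
  set H : Subgroup (Equiv.Perm GolayPt) := Subgroup.closure {A, Nn, B} with hHdef
  have hHG : H ≤ G := by
    rw [hHdef, Subgroup.closure_le]
    simp [Set.insert_subset_iff, hAG, hNG, hBG]
  have hnode : ∀ i < D.nodes.length, ∃ σ ∈ H, code σ = nodeV D i := by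
    intro i
    induction i using Nat.strong_induction_on with
    | _ i ih =>
    intro hi
    have h := hnodes i hi
    simp only [nodeOK] at h
    split_ifs at h with h0 h1 h2 h3
    · exact ⟨1, one_mem _, by rw [code_one]; exact (beq_iff_eq.1 h).symm⟩
    · exact ⟨A, Subgroup.subset_closure (by simp), by rw [hA]; exact (beq_iff_eq.1 h).symm⟩
    · exact ⟨Nn, Subgroup.subset_closure (by simp), by rw [hNn]; exact (beq_iff_eq.1 h).symm⟩
    · exact ⟨B, Subgroup.subset_closure (by simp), by rw [hB]; exact (beq_iff_eq.1 h).symm⟩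
    · simp only [Bool.and_eq_true, decide_eq_true_eq, beq_iff_eq] at h
      obtain ⟨σ, hσ, eσ⟩ := ih _ h.1.1 (by omega)
      obtain ⟨τ, hτ, eτ⟩ := ih _ h.1.2 (by omega)
      exact ⟨σ * τ, mul_mem hσ hτ, by rw [code_mul, eσ, eτ, h.2]⟩
  have hlev : ∀ L : List (ℕ × List ℕ), (∀ l ∈ L, l ∈ D.levA ++ D.levN) →
      ∀ l ∈ levVals D L, ∀ u ∈ l.2, ∃ σ ∈ H, code σ = u := by
    intro L hL l hl u hu
    obtain ⟨l', hl', rfl⟩ := List.mem_map.1 hl
    obtain ⟨i, hi, rfl⟩ := List.mem_map.1 hu
    exact hnode i (hidx l' (hL l' hl') i hi)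
  obtain ⟨hHeq, hchA⟩ := chain_exhausts hHG hN hokA hsA
    (hlev D.levA fun l hl => List.mem_append_left _ hl)
  obtain ⟨-, hchN⟩ := chain_exhausts hHG hN hokN hsN
    (hlev D.levN fun l hl => List.mem_append_right _ hl)
  have hfirst : ∀ L : List (ℕ × List ℕ), chainOK [] (levVals D L) = true → firstPt L < 24 := by
    intro L hL
    rcases L with _ | ⟨⟨x, T⟩, L⟩
    · show 0 < 24; norm_num
    · simp only [levVals, List.map_cons, chainOK, Bool.and_eq_true, decide_eq_true_eq] at hL
      exact hL.1.1.1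
  simp only [checkCents, Bool.and_eq_true, ← hA, ← hNn] at hce
  have centA : ∀ g ∈ G, g * A = A * g → ∃ i < D.ell, g = A ^ i := by
    intro g hg hc
    obtain ⟨i, hi, e⟩ := List.mem_map.1 (centralizer_mem (hfirst _ hokA) hokA hce.1 (hchA g hg) hc)
    exact ⟨i, List.mem_range.1 hi, code_inj (by rw [code_pow]; exact e.symm)⟩
  have centN : ∀ g ∈ G, g * Nn = Nn * g → code g ∈ D.cn := fun g hg hc =>
    centralizer_mem (hfirst _ hokN) hokN hce.2 (hchN g hg) hc
  let a : G := ⟨A, hAG⟩
  let n : G := ⟨Nn, hNG⟩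
  let b : G := ⟨B, hBG⟩
  have ext' : ∀ {x y : G}, code x.1 = code y.1 → x = y := fun h => Subtype.ext (code_inj h)
  have ha1 : a ^ D.ell = 1 := ext' (by
    simp only [SubmonoidClass.coe_pow, a, code_pow, hA, hpa, OneMemClass.coe_one, code_one])
  have haord : orderOf a = D.ell := by
    haveI := Fact.mk hell
    refine orderOf_eq_prime ha1 fun h => hne ?_
    have := congrArg (fun x : G => code x.1) h
    simpa [a, hA, code_one] using this
  have hna' : n * a * n⁻¹ = a ^ D.k := mul_inv_eq_iff_eq_mul.2 (ext' (by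
    simp only [Subgroup.coe_mul, SubmonoidClass.coe_pow, a, n, code_mul, code_pow, hA, hNn, hna]))
  have hbn' : b * n * b⁻¹ = n ^ D.s := mul_inv_eq_iff_eq_mul.2 (ext' (by
    simp only [Subgroup.coe_mul, SubmonoidClass.coe_pow, b, n, code_mul, code_pow, hB, hNn, hbn]))
  have hgen : ∀ φ ψ : MulAut G, φ a = ψ a → φ n = ψ n → φ b = ψ b → φ = ψ := by
    intro φ ψ h1 h2 h3
    apply MulEquiv.ext
    intro g
    have hg : g.1 ∈ H := hHeq.symm ▸ g.2
    have key : ∀ x (hx : x ∈ H), φ ⟨x, hHG hx⟩ = ψ ⟨x, hHG hx⟩ := by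
      intro x hx
      induction hx using Subgroup.closure_induction with
      | mem x hx =>
        rcases hx with rfl | rfl | rfl
        · exact h1
        · exact h2
        · exact h3
      | one => exact (map_one φ).trans (map_one ψ).symm
      | mul x y hx hy ihx ihy =>
        have e : (⟨x * y, hHG (mul_mem hx hy)⟩ : G) = ⟨x, hHG hx⟩ * ⟨y, hHG hy⟩ := rfl
        rw [e, map_mul, map_mul, ihx, ihy]
      | inv x hx ih =>
        have e : (⟨x⁻¹, hHG (inv_mem hx)⟩ : G) = ⟨x, hHG hx⟩⁻¹ := rfl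
        rw [e, map_inv, map_inv, ih]
    exact key g.1 hg
  refine ⟨fun φ => ?_, ?_⟩
  · haveI := Fact.mk hell
    -- move the image of `a` back into `⟨a⟩`
    have hcardz : ∀ x : G, orderOf x = D.ell →
        Nat.card (Subgroup.zpowers x) = D.ell ^ (Nat.card G).factorization D.ell := fun x hx => by
      rw [Nat.card_zpowers, hx, hN, hM, Nat.factorization_mul hell.ne_zero
        (fun h0 => hM' (by rw [h0]; exact dvd_zero _)), Finsupp.add_apply, hell.factorization_self,
        Nat.factorization_eq_zero_of_not_dvd hM', pow_one]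
    obtain ⟨g, hg⟩ := MulAction.exists_smul_eq G
      (Sylow.ofCard (Subgroup.zpowers (φ a)) (hcardz _ ((MulEquiv.orderOf_eq φ a).trans haord)))
      (Sylow.ofCard (Subgroup.zpowers a) (hcardz _ haord))
    have hmemz : g * φ a * g⁻¹ ∈ Subgroup.zpowers a := by
      have : g * φ a * g⁻¹ ∈ ((g • Sylow.ofCard (Subgroup.zpowers (φ a))
          (hcardz _ ((MulEquiv.orderOf_eq φ a).trans haord)) : Sylow D.ell G) : Subgroup G) := by
        rw [Sylow.coe_subgroup_smul]
        exact ⟨φ a, Subgroup.mem_zpowers _, by simp [MulAut.conj_apply]⟩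
      rw [hg] at this
      exact this
    obtain ⟨j₀, hj₀, hj₀'⟩ : ∃ j < D.ell, g * φ a * g⁻¹ = a ^ j := by
      obtain ⟨z, hz⟩ := Subgroup.mem_zpowers_iff.1 hmemz
      refine ⟨(z % (D.ell : ℤ)).toNat, ?_, ?_⟩
      · have h1 := Int.emod_lt_of_pos z (by exact_mod_cast hell.pos : (0 : ℤ) < D.ell)
        have h2 := Int.emod_nonneg z (by exact_mod_cast hell.ne_zero : (D.ell : ℤ) ≠ 0)
        omega
      · rw [← hz, ← zpow_natCast, Int.toNat_of_nonneg (Int.emod_nonneg _ (by
          exact_mod_cast hell.ne_zero)), ← haord, zpow_mod_orderOf]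
    have hj0 : j₀ ≠ 0 := by
      rintro rfl
      rw [pow_zero, conj_eq_one_iff] at hj₀'
      have := (MulEquiv.orderOf_eq φ a).trans haord
      rw [hj₀', orderOf_one] at this
      exact hell.one_lt.ne this
    obtain ⟨i, -, hi⟩ := ((hrep j₀ hj₀).resolve_left hj0)
    set φ₁ : MulAut G := MulAut.conj (n ^ i * g) * φ with hφ₁
    set j := j₀ * D.k ^ i % D.ell with hjdef
    have hφa : φ₁ a = a ^ j := by
      rw [hφ₁, MulAut.mul_apply, MulAut.conj_apply, mul_inv_rev,
        show n ^ i * g * φ a * (g⁻¹ * (n ^ i)⁻¹) = n ^ i * (g * φ a * g⁻¹) * (n ^ i)⁻¹ by group,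
        hj₀', ← conj_pow, conj_pow_iter hna', ← pow_mul, mul_comm (D.k ^ i), hjdef,
        ← haord, pow_mod_orderOf]
    have hj : j = 1 ∨ j = D.jneg := hi
    have hjlt : j < D.ell := Nat.mod_lt _ hell.pos
    have hjne : j ≠ 0 := by
      intro h0
      have := (MulEquiv.orderOf_eq φ₁ a).trans haord
      rw [hφa, h0, pow_zero, orderOf_one] at this
      exact hell.one_lt.ne this
    obtain ⟨ji, -, hji⟩ := (hinv j hjlt).resolve_left hjne
    -- the image of `n`
    have hφn : φ₁ n * a * (φ₁ n)⁻¹ = a ^ D.k := by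
      have h1 : (φ₁ n * a * (φ₁ n)⁻¹) ^ j = (a ^ D.k) ^ j := by
        rw [conj_pow, ← hφa, ← map_inv, ← map_mul, ← map_mul, hna', map_pow, hφa, ← pow_mul,
          ← pow_mul, mul_comm]
      refine pow_cancel ?_ ?_ hji h1
      · rw [conj_pow, ha1, mul_one, mul_inv_cancel]
      · rw [← pow_mul, mul_comm, pow_mul, ha1, one_pow]
    have hcomm : (n⁻¹ * φ₁ n) * a = a * (n⁻¹ * φ₁ n) := by
      have h2 : φ₁ n * a * (φ₁ n)⁻¹ = n * a * n⁻¹ := hφn.trans hna'.symm
      have h3 : φ₁ n * a = n * a * n⁻¹ * φ₁ n := mul_inv_eq_iff_eq_mul.1 h2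
      rw [mul_assoc, h3]; group
    obtain ⟨i₂, hi₂, hi₂'⟩ := centA _ (n⁻¹ * φ₁ n).2 (congrArg Subtype.val hcomm)
    have hn₂ : φ₁ n = n * a ^ i₂ := by
      have : (n⁻¹ * φ₁ n : G) = a ^ i₂ := Subtype.ext hi₂'
      rw [← this, mul_inv_cancel_left]
    obtain ⟨r, -, hr⟩ := hadj i₂ hi₂
    have hr' : a ^ r * n * (a ^ r)⁻¹ = n * a ^ i₂ := mul_inv_eq_iff_eq_mul.2 (ext' (by
      simp only [Subgroup.coe_mul, SubmonoidClass.coe_pow, a, n, code_mul, code_pow, hA, hNn, hr]))
    set θ : MulAut G := (MulAut.conj (a ^ r))⁻¹ * MulAut.conj (n ^ i * g) with hθ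
    have hθI : θ ∈ Inn G := mul_mem (inv_mem ⟨_, rfl⟩) ⟨_, rfl⟩
    set ψ : MulAut G := θ * φ with hψ
    have hψ' : ψ = (MulAut.conj (a ^ r))⁻¹ * φ₁ := by rw [hψ, hθ, hφ₁, mul_assoc]
    have hψa : ψ a = a ^ j := by
      rw [hψ', MulAut.mul_apply, hφa, MulAut.conj_inv_apply, mul_assoc,
        ((Commute.refl a).pow_pow j r).eq, inv_mul_cancel_left]
    have hψn : ψ n = n := by
      rw [hψ', MulAut.mul_apply, hn₂, ← hr', MulAut.conj_inv_apply]
      group
    have hψb : (b⁻¹ * ψ b) * n = n * (b⁻¹ * ψ b) := by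
      have h2 : ψ b * n * (ψ b)⁻¹ = b * n * b⁻¹ := by
        rw [hbn']
        conv_lhs => rw [← hψn, ← map_inv, ← map_mul, ← map_mul, hbn', map_pow, hψn]
      have h3 : ψ b * n = b * n * b⁻¹ * ψ b := mul_inv_eq_iff_eq_mul.1 h2
      rw [mul_assoc, h3]; group
    have hc := centN _ (b⁻¹ * ψ b).2 (congrArg Subtype.val hψb)
    have hcb : compN D.b (code (b⁻¹ * ψ b : G).1) = code (ψ b).1 := by
      rw [← hB, ← code_mul]
      exact congrArg code (congrArg Subtype.val (mul_inv_cancel_left b (ψ b)))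
    have hcases := (hcand _ hc)
    have hok : candOK D j (code (b⁻¹ * ψ b : G).1) = true := by
      rcases hj with h | h
      · rw [h]; exact hcases.1
      · rw [h]; exact hcases.2
    simp only [candOK, Bool.or_eq_true, Bool.and_eq_true, beq_iff_eq, List.any_eq_true,
      Bool.not_eq_true', beq_eq_false_iff_ne, hcb] at hok
    rcases hok with (⟨hj1, hb1⟩ | ho) | ⟨w, -, hw1, hw2⟩
    · left
      have h1 : ψ = 1 := hgen ψ 1 (by rw [hψa, hj1, pow_one]; rfl) (by rw [hψn]; rfl)
        (ext' (by show code (ψ b).1 = code B; rw [hb1, hB]))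
      have : φ = θ⁻¹ := eq_inv_of_mul_eq_one_right h1
      rw [this]; exact inv_mem hθI
    · right
      refine ⟨?_, θ, hθI, fun σ τ hσ hτ => ?_⟩
      · cases hop : D.outer with
        | none => rw [hop] at ho; exact absurd ho (by simp)
        | some o => rfl
      rw [hσ] at ho
      simp only [Bool.and_eq_true, beq_iff_eq] at ho
      simp only [outerOK, hσ, Bool.and_eq_true, beq_iff_eq] at hout
      have key : ∀ x y : G, compN (code σ) (code x.1) = compN (code y.1) (code σ) → τ x = y := by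
        intro x y h
        refine Subtype.ext ?_
        rw [hτ, mul_inv_eq_iff_eq_mul]
        exact code_inj (by rw [code_mul, code_mul]; exact h)
      refine hgen _ _ ?_ ?_ ?_
      · rw [show (θ * φ) a = ψ a from rfl, hψa, key a (a ^ j)]
        simp only [SubmonoidClass.coe_pow, code_pow, a, hA, ho.1]
        exact hout.1.1
      · rw [show (θ * φ) n = ψ n from rfl, hψn, key n n]
        simp only [n, hNn]
        exact hout.1.2
      · rw [show (θ * φ) b = ψ b from rfl, key b (ψ b)]
        simp only [b, hB]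
        exact ho.2.symm
    · exfalso
      apply hw2
      let P : G → G → G → List ℕ → G := fun x y z l =>
        l.foldl (fun acc i => acc * (if i = 0 then x else if i = 1 then y else z)) 1
      have hval : ∀ (x y z : G) (l : List ℕ),
          code (P x y z l).1 = evalN (code x.1) (code y.1) (code z.1) l := by
        intro x y z l
        rw [code_evalN]
        have : ∀ (l : List ℕ) (g : G),
            (l.foldl (fun acc i => acc * (if i = 0 then x else if i = 1 then y else z)) g).1 =
            l.foldl (fun acc i => acc * (if i = 0 then x.1 else if i = 1 then y.1 else z.1)) g.1 := by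
          intro l
          induction l with
          | nil => intro g; rfl
          | cons i l ih =>
            intro g
            rw [List.foldl_cons, List.foldl_cons, ih, Subgroup.coe_mul, apply_ite Subtype.val,
              apply_ite Subtype.val]
        exact congrArg code (this l 1)
      have hmap : ∀ (x y z : G) (l : List ℕ), ψ (P x y z l) = P (ψ x) (ψ y) (ψ z) l := by
        intro x y z l
        have : ∀ (l : List ℕ) (g : G),
            ψ (l.foldl (fun acc i => acc * (if i = 0 then x else if i = 1 then y else z)) g) =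
            l.foldl (fun acc i => acc * (if i = 0 then ψ x else if i = 1 then ψ y else ψ z)) (ψ g) := by
          intro l
          induction l with
          | nil => intro g; rfl
          | cons i l ih =>
            intro g
            rw [List.foldl_cons, List.foldl_cons, ih, map_mul, apply_ite ψ, apply_ite ψ]
        show ψ (l.foldl _ 1) = l.foldl _ 1
        rw [this l 1, map_one]
      have h1 : P a n b w.1 ^ w.2 = 1 := ext' (by
        rw [SubmonoidClass.coe_pow, code_pow, hval, OneMemClass.coe_one, code_one]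
        simp only [a, n, b, hA, hNn, hB, hw1])
      have h2 := congrArg (fun x : G => code x.1) ((map_pow ψ _ w.2).symm.trans
        ((congrArg ψ h1).trans (map_one ψ)))
      simp only [hmap, hψa, hψn, SubmonoidClass.coe_pow, code_pow, hval, OneMemClass.coe_one,
        code_one] at h2
      simp only [n, a, hNn, hA] at h2
      exact h2
  · rintro σ τ hσ hτ ⟨g, hg⟩
    simp only [outerOK, hσ, Bool.and_eq_true, beq_iff_eq, List.all_eq_true, Bool.not_eq_true',
      beq_eq_false_iff_ne] at hout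
    have hga : g * a * g⁻¹ = a ^ D.jneg := by
      have e : MulAut.conj g a = τ a := by rw [← hg]
      rw [← MulAut.conj_apply, e]
      refine Subtype.ext ?_
      rw [hτ, mul_inv_eq_iff_eq_mul]
      refine code_inj ?_
      simp only [code_mul, code_pow, SubmonoidClass.coe_pow, a, hA]
      exact hout.1.1
    have hgn : g * n * g⁻¹ = n := by
      have e : MulAut.conj g n = τ n := by rw [← hg]
      rw [← MulAut.conj_apply, e]
      refine Subtype.ext ?_
      rw [hτ, mul_inv_eq_iff_eq_mul]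
      refine code_inj ?_
      simp only [code_mul, n, hNn]
      exact hout.1.2
    have hc := centN g.1 g.2 (congrArg Subtype.val (mul_inv_eq_iff_eq_mul.1 hgn))
    apply hout.2 _ hc
    have := congrArg (fun x : G => code x.1) (mul_inv_eq_iff_eq_mul.1 hga)
    simpa only [Subgroup.coe_mul, SubmonoidClass.coe_pow, code_mul, code_pow, a, hA] using this

theorem card_out_eq_one {D : OutData} (R : Result D G) (h : D.outer = none) :
    Nat.card (Out G) = 1 := by
  have : Inn G = ⊤ := by
    rw [eq_top_iff]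
    intro φ _
    exact (R.cases φ).resolve_right fun h' => by rw [h] at h'; exact absurd h'.1 (by simp)
  show Nat.card (MulAut G ⧸ Inn G) = 1
  rw [← Subgroup.index, this, Subgroup.index_top]

/-- Conjugation by a permutation normalising `G`. -/
def normAut (σ : Equiv.Perm GolayPt) (hσ : ∀ g, g ∈ G ↔ σ * g * σ⁻¹ ∈ G) : MulAut G where
  toFun g := ⟨σ * g.1 * σ⁻¹, (hσ g.1).1 g.2⟩
  invFun g := ⟨σ⁻¹ * g.1 * σ, (hσ _).2 (by simpa [mul_assoc] using g.2)⟩
  left_inv g := Subtype.ext (by simp [mul_assoc])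
  right_inv g := Subtype.ext (by simp [mul_assoc])
  map_mul' g h := Subtype.ext (by simp [mul_assoc])

theorem card_out_eq_two {D : OutData} (R : Result D G) (σ : Equiv.Perm GolayPt)
    (hD : D.outer = some (code σ)) (hσ : ∀ g, g ∈ G ↔ σ * g * σ⁻¹ ∈ G) :
    Nat.card (Out G) = 2 := by
  set τ := normAut σ hσ with hτdef
  have hτ : ∀ g : G, (τ g).1 = σ * g.1 * σ⁻¹ := fun _ => rfl
  have hcl : ∀ φ : MulAut G, φ ∈ Inn G ∨ φ⁻¹ * τ ∈ Inn G := fun φ => by
    rcases R.cases φ with h | ⟨-, θ, hθ, h⟩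
    · exact Or.inl h
    · right
      rw [← h σ τ hD hτ]
      have : φ⁻¹ * (θ * φ) = φ⁻¹ * θ * φ⁻¹⁻¹ := by group
      rw [this]
      exact (inferInstance : (Inn G).Normal).conj_mem _ hθ _
  let f : Fin 2 → Out G := fun i => if i = 0 then ((1 : MulAut G) : MulAut G ⧸ Inn G) else (τ : MulAut G ⧸ Inn G)
  have hf : Function.Bijective f := by
    constructor
    · have hne : ((1 : MulAut G) : MulAut G ⧸ Inn G) ≠ (τ : MulAut G ⧸ Inn G) := fun h =>
        R.notInner σ τ hD hτ (by
          have h' := QuotientGroup.eq.1 h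
          rwa [inv_one, one_mul] at h')
      have h0 : f 0 = ((1 : MulAut G) : MulAut G ⧸ Inn G) := rfl
      have h1 : f 1 = (τ : MulAut G ⧸ Inn G) := rfl
      intro i j h
      rcases (Fin.exists_fin_two (p := fun x => i = x)).1 ⟨i, rfl⟩ with hi | hi <;>
        rcases (Fin.exists_fin_two (p := fun x => j = x)).1 ⟨j, rfl⟩ with hj | hj <;>
          subst hi <;> subst hj
      · rfl
      · exact absurd (h0.symm.trans (h.trans h1)) hne
      · exact absurd (h0.symm.trans (h.symm.trans h1)) hne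
      · rfl
    · intro q
      induction q using QuotientGroup.induction_on with
      | _ φ =>
        rcases hcl φ with h | h
        · refine ⟨0, ?_⟩
          show ((1 : MulAut G) : MulAut G ⧸ Inn G) = φ
          rw [QuotientGroup.eq, inv_one, one_mul]; exact h
        · refine ⟨1, ?_⟩
          show (τ : MulAut G ⧸ Inn G) = φ
          exact (QuotientGroup.eq.2 h).symm
  rw [← Nat.card_congr (Equiv.ofBijective f hf), Nat.card_fin]

end H97.MOut
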