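import Cfsg.Agent.H97.SchurCert
import Cfsg.Agent.H97.MathieuOut
import Cfsg.Agent.H87.MathieuCert

/-!
Multiplier certificates for groups of permutations of the 24 points.
-/

set_option autoImplicit false

namespace H97.SchurCert

open Cfsg H90

variable {G : Subgroup (Equiv.Perm GolayPt)}

/-- Packed permutations code any group of permutations of the points. -/
def permCoding (G : Subgroup (Equiv.Perm GolayPt)) : Coding G compN idN where
  code g := MOut.code g.1
  inj := fun _ _ h => Subtype.ext (MOut.code_inj h)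
  map_one := MOut.code_one
  map_mul _ _ := MOut.code_mul _ _

/-- Canonical members of a group given by a test. -/
theorem exists_code_of_test {p : ℕ} (test : ℕ → Bool)
    (hsound : ∀ q, test q = true → ∃ σ ∈ G, Repr σ q)
    (h : (test p && packAux (fun i => img p i) 24 == p) = true) :
    ∃ g : G, (permCoding G).code g = p := by
  simp only [Bool.and_eq_true, beq_iff_eq] at h
  obtain ⟨σ, hσG, hσ⟩ := hsound p h.1
  exact ⟨⟨σ, hσG⟩, (MOut.code_of_repr hσ).trans h.2⟩

/-- All parts of a certificate at once. -/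
def checkAll (test : ℕ → Bool) (D : Data) : Bool :=
  (D.syms.all fun p => test p && packAux (fun i => img p i) 24 == p) &&
  rulesOK compN idN D && defsOK D && pcOK D && sizeOK compN idN D && combosOK D

theorem not_dvd_of_check {Γ : Type*} [Group Γ] [Finite Γ] (test : ℕ → Bool)
    (hsound : ∀ q, test q = true → ∃ σ ∈ G, Repr σ q) (D : Data) [Fact D.p.Prime]
    (hD : checkAll test D = true) {M : ℕ} (hcard : Nat.card G = D.p ^ D.n * M) (hM : ¬ D.p ∣ M)
    (σ : Γ →* G) (hσ : IsStemExtension σ) : ¬ D.p ∣ Nat.card σ.ker := by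
  simp only [checkAll, Bool.and_eq_true, List.all_eq_true] at hD
  obtain ⟨⟨⟨⟨⟨h1, h2⟩, h3⟩, h4⟩, h5⟩, h6⟩ := hD
  exact not_dvd_card_ker (permCoding G) D
    (fun v hv => exists_code_of_test test hsound (by simpa [Bool.and_eq_true] using h1 v hv))
    h2 h3 h4 h5 h6 hcard hM σ hσ

/-- The prime divisors of the kernel of a stem extension divide the group order twice. -/
theorem sq_dvd_of_dvd_card_ker {H Γ : Type*} [Group H] [Group Γ] [Finite Γ] {p : ℕ} [Fact p.Prime]
    (σ : Γ →* H) (hσ : IsStemExtension σ) (hp : p ∣ Nat.card σ.ker) : p ^ 2 ∣ Nat.card H := by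
  by_contra hcon
  obtain ⟨⟨z, hz⟩, hzo⟩ := exists_prime_orderOf_dvd_card' p hp
  rw [Subgroup.orderOf_mk] at hzo
  have hpg : IsPGroup p (Subgroup.zpowers z) :=
    IsPGroup.of_card (n := 1) (by rw [Nat.card_zpowers, hzo, pow_one])
  obtain ⟨P, hP⟩ := hpg.exists_le_sylow
  have hzP : z ∈ P := hP (Subgroup.mem_zpowers z)
  have h1 := commutator_trivial_of_comm (commute_of_not_sq_dvd hσ.1 hσ.2.1 hcon P)
    (mem_commutator_sylow P (hσ.2.1 hz) (hσ.2.2 hz) hzP)
  rw [show z = 1 from congrArg Subtype.val h1, orderOf_one] at hzo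
  exact (Fact.out : p.Prime).one_lt.ne hzo

end H97.SchurCert
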