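import Cfsg.Agent.H97.Co0Slp

/-!
Certificates for stabilisers in the lattice group.
-/

set_option autoImplicit false

namespace H97.Co0Code

open Cfsg H95 M24x SchurCert

/-- All tests for one certificate. -/
def certOK (gens : List (List (List ℤ))) (prog : List (ℕ × ℕ)) (D : Data) : Bool :=
  (let S := slp (gens.map codeE) prog; D.syms.all fun v => S.contains v) &&
  rulesOK cm one24 D && defsOK D && pcOK D && sizeOK cm one24 D && combosOK D

/-- The tests on one generator fixing the vectors `vs`. -/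
def genOK (E : List (List ℤ)) (vs : List (List ℤ)) : Bool :=
  matOK E && (List.finRange 24).all (fun a => (List.finRange 24).all fun b =>
    dotL ((List.finRange 24).map fun p => (E.getD p.val []).getD a.val 0)
      ((List.finRange 24).map fun p => (E.getD p.val []).getD b.val 0) == if a = b then 64 else 0) &&
  vs.all (fixesL E)

theorem genOK_spec {E : List (List ℤ)} {vs : List (List ℤ)} (h : genOK E vs = true) :
    ∃ g : Co0, code g = codeE E ∧
      ∀ v : leechLattice, vecL (v : GolayPt → ℤ) ∈ vs → g • v = v := by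
  simp only [genOK, Bool.and_eq_true, List.all_eq_true] at h
  obtain ⟨⟨h1, h2⟩, h3⟩ := h
  refine ⟨(⟨E, h1, fun a b => ?_⟩ : MatData).elt, code_elt _, fun v hv => smul_elt_eq _ (h3 _ hv)⟩
  obtain ⟨i, rfl⟩ := H90.ptEquiv.surjective a
  obtain ⟨j, rfl⟩ := H90.ptEquiv.surjective b
  have h := h2 i (List.mem_finRange _) j (List.mem_finRange _)
  rw [beq_iff_eq, ← List.ofFn_eq_map, ← List.ofFn_eq_map, dotL_ofFn] at h
  rw [← Equiv.sum_comp H90.ptEquiv]
  simp only [EmbeddingLike.apply_eq_iff_eq]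
  rw [← h]
  refine Finset.sum_congr rfl fun p _ => ?_
  show entryL E (H90.pt p) (H90.pt i) * entryL E (H90.pt p) (H90.pt j) = _
  rw [List.getD_eq_getElem (List.ofFn fun p : Fin 24 => (E.getD p.val []).getD i.val 0) 0
    (by simp), List.getElem_ofFn]
  simp only [entryL, H90.idx_pt]

theorem not_dvd_of_cert {G Γ : Type} [Group G] [Group Γ] [Finite Γ]
    (φ : G →* Co0) (hφ : Function.Injective φ) {gens : List (List (List ℤ))}
    (hgens : ∀ E ∈ gens, ∃ g : G, code (φ g) = codeE E) {prog : List (ℕ × ℕ)} (D : Data)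
    [Fact D.p.Prime] (hD : certOK gens prog D = true) {M : ℕ}
    (hcard : Nat.card G = D.p ^ D.n * M) (hM : ¬ D.p ∣ M) (σ : Γ →* G) (hσ : IsStemExtension σ) :
    ¬ D.p ∣ Nat.card σ.ker := by
  simp only [certOK, Bool.and_eq_true, List.all_eq_true, List.contains_iff_mem] at hD
  obtain ⟨⟨⟨⟨⟨h1, h2⟩, h3⟩, h4⟩, h5⟩, h6⟩ := hD
  refine not_dvd_card_ker (coding φ hφ) D (fun v hv => ?_) h2 h3 h4 h5 h6 hcard hM σ hσ
  exact slp_mem (coding φ hφ) (seeds := gens.map codeE) (fun w hw => by
    obtain ⟨E, hE, rfl⟩ := List.mem_map.1 hw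
    exact hgens E hE) prog v (h1 v hv)

end H97.Co0Code
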