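import Cfsg.Agent.H97.MathieuOut
import Cfsg.Agent.H87.MathieuCert
import Cfsg.Agent.H97.MOutM22

set_option maxRecDepth 100000

namespace H97.MOut

theorem chains_M22 : checkChains dataM22 443520 = true := by decide +kernel
theorem cents_M22 : checkCents dataM22 = true := by decide +kernel
theorem cands_M22 : checkCands dataM22 = true := by decide +kernel
theorem mems_M22 : [dataM22.a, dataM22.n, dataM22.b].all H87.mem22 = true := by decide +kernel

theorem result_M22 : Result dataM22 Cfsg.Spor.M22 :=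
  soundness (N := 443520) (M := 40320) H87.natCard_M22 rfl (by norm_num [dataM22]) (by norm_num [dataM22])
    (fun p hp => by
      obtain ⟨σ, hσ⟩ := H87.exists_of_mem22 ((List.all_eq_true.1 mems_M22) p hp)
      exact ⟨σ.1, σ.2, hσ⟩)
    chains_M22 cents_M22 cands_M22

theorem card_out_M22 : Nat.card (Cfsg.Out Cfsg.Spor.M22) = 2 := by
  obtain ⟨o, ho⟩ : ∃ o, dataM22.outer = some o := ⟨_, rfl⟩
  have hc : (H87.mem24 o && (H90.packAux (fun i => H90.img o i) 24 == o) &&
      (H90.img o 23 == 0) && (H90.img o 0 == 23)) = true := by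
    have : (dataM22.outer.elim false fun o => H87.mem24 o &&
        (H90.packAux (fun i => H90.img o i) 24 == o) &&
        (H90.img o 23 == 0) && (H90.img o 0 == 23)) = true := by decide +kernel
    rw [ho] at this
    exact this
  simp only [Bool.and_eq_true, beq_iff_eq] at hc
  obtain ⟨σ, hσ24, hσ⟩ := H87.exists_of_mem24 hc.1.1.1
  have e : code σ = o := (code_of_repr hσ).trans hc.1.1.2
  refine card_out_eq_two result_M22 σ (by rw [ho, e]) fun g => ?_
  have h1 : σ none = some 0 := (hσ.apply_eq_iff none (some 0)).2 hc.1.2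
  have h2 : σ (some 0) = none := (hσ.apply_eq_iff (some 0) none).2 hc.2
  have i1 : σ⁻¹ (some 0) = none := Equiv.Perm.inv_eq_iff_eq.2 h1.symm
  have i2 : σ⁻¹ none = some 0 := Equiv.Perm.inv_eq_iff_eq.2 h2.symm
  simp only [Cfsg.Spor.M22, Cfsg.Spor.M23, Subgroup.mem_inf, MulAction.mem_stabilizer_iff,
    Equiv.Perm.smul_def, Equiv.Perm.mul_apply, i1, i2]
  have hM : g ∈ Cfsg.M24 ↔ σ * g * σ⁻¹ ∈ Cfsg.M24 := by
    rw [Subgroup.mul_mem_cancel_right _ (inv_mem hσ24), Subgroup.mul_mem_cancel_left _ hσ24]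
  constructor
  · rintro ⟨⟨hg, hn⟩, hz⟩
    exact ⟨⟨hM.1 hg, by rw [hz, h2]⟩, by rw [hn, h1]⟩
  · rintro ⟨⟨hg, hn⟩, hz⟩
    exact ⟨⟨hM.2 hg, σ.injective (hz.trans h1.symm)⟩, σ.injective (hn.trans h2.symm)⟩

end H97.MOut
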