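import Cfsg.Agent.H97.MathieuOut
import Cfsg.Agent.H87.MathieuCert
import Cfsg.Agent.H97.MOutM24

set_option maxRecDepth 100000

namespace H97.MOut

theorem chains_M24 : checkChains dataM24 244823040 = true := by decide +kernel
theorem cents_M24 : checkCents dataM24 = true := by decide +kernel
theorem cands_M24 : checkCands dataM24 = true := by decide +kernel
theorem mems_M24 : [dataM24.a, dataM24.n, dataM24.b].all H87.mem24 = true := by decide +kernel

theorem result_M24 : Result dataM24 Cfsg.M24 :=
  soundness (N := 244823040) (M := 10644480) H90.natCard_M24 rfl (by norm_num [dataM24]) (by norm_num [dataM24])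
    (fun p hp => by
      obtain ⟨σ, hσ⟩ := H87.exists_of_mem24 ((List.all_eq_true.1 mems_M24) p hp)
      exact ⟨σ, hσ⟩)
    chains_M24 cents_M24 cands_M24

theorem card_out_M24 : Nat.card (Cfsg.Out Cfsg.M24) = 1 :=
  card_out_eq_one result_M24 rfl

end H97.MOut
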