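import Cfsg.Agent.H97.SchurCert

/-!
Certificates bounding the `p`-part of a multiplier by a cyclic group of given order.

Rules whose factors vanish modulo a distinguished factor `z₀` are enough: the derived group of
a lifted Sylow subgroup then sits in a subgroup meeting the kernel in `⟨z₀⟩`.
-/

set_option autoImplicit false

namespace H97.SchurCert

open scoped commutatorElement

/-- A combination showing the factor of target `k` is a power of the factor `z₀`. -/
def cyclicComboOK (D : Data) (z0 ord : ℕ) (coef : List ℕ) (k : ℕ) : Bool :=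
  decide (D.targets.getD k 0 < D.rules.length) &&
  !(D.defs.any fun d => d.1 == D.targets.getD k 0) &&
  decide (coef.getD k 0 ≤ D.p) &&
  ((comboVec D (D.combos.getD k [])).all fun i => decide (i < D.rules.length)) &&
  ((List.range D.rules.length).all fun i => D.defs.any (fun d => d.1 == i) ||
    (comboVec D (D.combos.getD k [])).count i % D.p ==
      (if i == D.targets.getD k 0 then (if i == z0 then ord else 1)
        else if i == z0 then D.p - coef.getD k 0 else 0) % D.p)

/-- The rule `r` has factor in `⟨z₀⟩`. -/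
def isGood (D : Data) (r : ℕ) : Bool := D.defs.any (fun d => d.1 == r) || D.targets.contains r

/-- Shape of the rules: above `top` they give a polycyclic sequence, below they commute modulo it. -/
def pcCyclicOK (D : Data) (p top : ℕ) : Bool :=
  (List.range D.n).all fun i =>
    ((List.range D.rules.length).any fun r => (decide (i < top) || isGood D r) &&
      (ruleAt D r).1 == List.replicate p i &&
      ((ruleAt D r).2.all fun s => decide (i < s) && decide (s < D.n))) &&
    ((List.range D.n).all fun j => decide (j ≤ i) || (List.range D.rules.length).any fun r =>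
      isGood D r && (ruleAt D r).1 == [j, i] && (ruleAt D r).2.head? == some i &&
      ((ruleAt D r).2.tail.all fun s => decide (i < s) && decide (s < D.n)) &&
      (if top ≤ j then (ruleAt D r).2.tail.all fun s => decide (top ≤ s)
        else (ruleAt D r).2.tail.head? == some j &&
          (ruleAt D r).2.tail.tail.all fun s => decide (top ≤ s)))

/-- The products with digits in base `p` are pairwise distinct. -/
def sizeCyclicOK (op : ℕ → ℕ → ℕ) (one : ℕ) (D : Data) (p : ℕ) : Bool :=
  D.sorted.length == p ^ D.n &&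
    increasing (D.sorted.map fun e => evW op one D.syms
      ((List.range D.n).flatMap fun i => List.replicate (e / p ^ i % p) i))

/-- The linear algebra: `z₀` is the last target. -/
def combosCyclicOK (D : Data) (z0 ord : ℕ) (coef : List ℕ) : Bool :=
  D.targets.contains z0 &&
    (List.range D.targets.length).all fun k => cyclicComboOK D z0 ord coef k

theorem prod_eq_finprod {K : Type*} [CommGroup K] {q : ℕ} (z : ℕ → K) (hz : ∀ i, z i ^ q = 1)
    (v : List ℕ) (nr : ℕ) (hv : ∀ i ∈ v, i < nr) (E : ℕ → ℕ)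
    (hc : ∀ i < nr, z i = 1 ∨ v.count i % q = E i % q) :
    evG z v = ∏ i ∈ Finset.range nr, z i ^ E i := by
  classical
  rw [evG, Finset.prod_list_map_count,
    Finset.prod_subset (s₂ := Finset.range nr)
      (fun i hi => Finset.mem_range.2 (hv i (List.mem_toFinset.1 hi)))
      (fun i _ hi => by rw [List.count_eq_zero.2 (fun h => hi (List.mem_toFinset.2 h)), pow_zero])]
  refine Finset.prod_congr rfl fun i hi => ?_
  rcases hc i (Finset.mem_range.1 hi) with h | h
  · rw [h, one_pow, one_pow]
  · rw [pow_eq_pow_mod _ (hz i), h, ← pow_eq_pow_mod _ (hz i)]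

/-- Orders along a tower whose steps have index at most `p`. -/
theorem card_tower_le {M : Type*} [Group M] [Finite M] (L : ℕ → M) (R : Set M) (p n lo hi : ℕ)
    (hp : 0 < p) (hhi : hi ≤ n) (T : ℕ → Subgroup M)
    (hT : ∀ i, T i = Subgroup.closure (L '' {k | i ≤ k ∧ k < n} ∪ R))
    (hpow : ∀ i, lo ≤ i → i < hi → L i ^ p ∈ T (i + 1))
    (hconj : ∀ i j, lo ≤ i → i < hi → i < j → j < n → (L i)⁻¹ * L j * L i ∈ T (i + 1))
    (hR : ∀ i, lo ≤ i → i < hi → ∀ r ∈ R, (L i)⁻¹ * r * L i ∈ T (i + 1)) :
    ∀ d, d + lo ≤ hi → Nat.card (T (hi - d)) ≤ p ^ d * Nat.card (T hi) := by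
  intro d
  induction d with
  | zero => intro _; simp
  | succ d ih =>
    intro hd
    have e : hi - (d + 1) + 1 = hi - d := by omega
    set i := hi - (d + 1) with hidef
    have hlo : lo ≤ i := by omega
    have hlt : i < hi := by omega
    have step : Nat.card (T i) ≤ p * Nat.card (T (i + 1)) := by
      rw [hT i]
      refine card_closure_step hp (L i) (T (i + 1)) (hpow _ hlo hlt) ?_ _ ?_
      · intro x hx
        rw [hT] at hx
        induction hx using Subgroup.closure_induction with
        | mem y hy =>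
          rcases hy with ⟨j, ⟨hij, hjn⟩, rfl⟩ | hy
          · exact hconj _ j hlo hlt (by omega) hjn
          · exact hR _ hlo hlt y hy
        | one => simp
        | mul a b _ _ ha hb =>
          have := mul_mem ha hb
          simpa [mul_assoc] using this
        | inv a _ ha =>
          have := inv_mem ha
          simpa [mul_assoc] using this
      · rintro x (⟨k, ⟨h1, h2⟩, rfl⟩ | hx)
        · rcases h1.eq_or_lt with rfl | h
          · exact Or.inl rfl
          · exact Or.inr (hT _ ▸ Subgroup.subset_closure (Or.inl ⟨k, ⟨h, h2⟩, rfl⟩))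
        · exact Or.inr (hT _ ▸ Subgroup.subset_closure (Or.inr hx))
    rw [e] at step
    calc Nat.card (T i) ≤ p * Nat.card (T (hi - d)) := step
      _ ≤ p * (p ^ d * Nat.card (T hi)) := Nat.mul_le_mul_left _ (ih (by omega))
      _ = p ^ (d + 1) * Nat.card (T hi) := by ring

variable {G Γ : Type*} [Group G] [Group Γ] {op : ℕ → ℕ → ℕ} {one : ℕ}

/-- A stem extension with kernel of exponent `D.p = p ^ e` has kernel of order at most `ord`. -/
theorem card_ker_le_of_exponent [Finite Γ] (C : Coding G op one) (D : Data) (p e : ℕ)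
    [Fact p.Prime] (hq : D.p = p ^ e) {top z0 ord : ℕ} (coef : List ℕ) (htop : top ≤ D.n)
    (hord : 0 < ord) (hmem : ∀ v ∈ D.syms, ∃ g : G, C.code g = v)
    (hrules : rulesOK op one D = true) (hdefs : defsOK D = true)
    (hpc : pcCyclicOK D p top = true) (hsize : sizeCyclicOK op one D p = true)
    (hcomb : combosCyclicOK D z0 ord coef = true) {M : ℕ} (hcard : Nat.card G = p ^ D.n * M)
    (hM : ¬ p ∣ M) (σ : Γ →* G) (hσ : Cfsg.IsStemExtension σ)
    (hexp : ∀ z ∈ σ.ker, z ^ D.p = 1) : Nat.card σ.ker ≤ ord := by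
  classical
  have hp : p.Prime := Fact.out
  have hq0 : 0 < D.p := hq ▸ pow_pos hp.pos _
  obtain ⟨hs, hcen, hder⟩ := hσ
  haveI : Finite G := Finite.of_surjective σ hs
  have hval : ∀ i, ∃ g : G, C.code g = D.syms.getD i one := fun i => by
    by_cases hi : i < D.syms.length
    · rw [List.getD_eq_getElem _ _ hi]; exact hmem _ (List.getElem_mem hi)
    · rw [List.getD_eq_default _ _ (Nat.le_of_not_lt hi)]; exact ⟨1, C.map_one⟩
  choose val hval using hval
  choose L0 hL0 using fun i => hs (val i)
  have hrule : ∀ r, evG val (ruleAt D r).1 = evG val (ruleAt D r).2 := fun r => by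
    apply C.inj
    rw [evG_code C val D.syms _ hval, evG_code C val D.syms _ hval]
    unfold ruleAt
    by_cases hi : r < D.rules.length
    · rw [List.getD_eq_getElem _ _ hi]
      exact beq_iff_eq.1 (List.all_eq_true.1 hrules _ (List.getElem_mem hi))
    · rw [List.getD_eq_default _ _ (Nat.le_of_not_lt hi)]
  simp only [defsOK, Bool.and_eq_true, decide_eq_true_eq, List.all_eq_true, beq_iff_eq] at hdefs
  obtain ⟨hpw, hdok⟩ := hdefs
  have hdok' : ∀ d ∈ D.defs, (∀ s ∈ (ruleAt D d.1).1, s < d.2) ∧
      (ruleAt D d.1).2.getLast? = some d.2 ∧ ∀ s ∈ (ruleAt D d.1).2.dropLast, s < d.2 :=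
    fun d hd => ⟨(hdok d hd).1.1.2, (hdok d hd).1.2, (hdok d hd).2⟩
  set L := D.defs.foldl (liftStep D) L0 with hLdef
  have hL : ∀ i, σ (L i) = val i := by
    have key : ∀ (ds : List (ℕ × ℕ)) (F : ℕ → Γ),
        (∀ d ∈ ds, (ruleAt D d.1).2.getLast? = some d.2) → (∀ i, σ (F i) = val i) →
        ∀ i, σ (ds.foldl (liftStep D) F i) = val i := by
      intro ds
      induction ds with
      | nil => intro F _ hF; exact hF
      | cons d ds ih =>
        intro F hd hF
        rw [List.foldl_cons]
        refine ih _ (fun e he => hd e (List.mem_cons_of_mem _ he)) fun i => ?_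
        by_cases hi : i = d.2
        · subst hi
          simp only [liftStep, Function.update_self, map_mul, map_inv, map_evG]
          rw [evG_congr (g := val) (fun s _ => hF s), evG_congr (g := val) (fun s _ => hF s), hrule]
          conv_lhs => rw [← List.dropLast_append_getLast? _ (hd d List.mem_cons_self)]
          rw [evG_append]
          simp [evG, List.dropLast_concat]
        · rw [liftStep, Function.update_of_ne hi]; exact hF i
    exact key _ _ (fun d hd => (hdok' d hd).2.1) hL0
  have hLev : ∀ w, σ (evG L w) = evG val w := fun w => by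
    rw [map_evG]; exact evG_congr fun s _ => hL s
  set z : ℕ → Γ := fun r => (evG L (ruleAt D r).2)⁻¹ * evG L (ruleAt D r).1 with hzdef
  have hzker : ∀ r, z r ∈ σ.ker := fun r => by
    simp only [hzdef, MonoidHom.mem_ker, map_mul, map_inv, hLev, hrule r, inv_mul_cancel]
  have hzdefs : ∀ d ∈ D.defs, z d.1 = 1 := fun d hd => by
    simp only [hzdef]
    rw [hLdef, foldl_liftStep_spec D D.defs L0 hpw hdok' d hd, inv_mul_cancel]
  have hrz : ∀ r, evG L (ruleAt D r).1 = evG L (ruleAt D r).2 * z r := fun r => by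
    simp only [hzdef, mul_inv_cancel_left]
  have hpath : ∀ e, evG z (pathVec D e) = 1 := by
    intro e
    unfold pathVec
    rcases D.paths.getD e ([], []) with ⟨w, steps⟩
    simp only
    split
    · rename_i w' v hrun
      split_ifs with heq
      · have := runPath_spec D L z (fun r => hcen (hzker r)) (fun r => hexp _ (hzker r)) hq0 hrz
          steps w w' v hrun
        rw [beq_iff_eq.1 heq] at this
        exact mul_eq_left.1 this.symm
      · rfl
    · rfl
  have hcombo : ∀ c, evG z (comboVec D c) = 1 := by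
    intro c
    induction c with
    | nil => rfl
    | cons a c ih =>
      rw [show comboVec D (a :: c) =
        (List.replicate a.2 (pathVec D a.1)).flatten ++ comboVec D c from rfl, evG_append, ih, mul_one]
      generalize a.2 = k
      induction k with
      | zero => rfl
      | succ k ihk => rw [List.replicate_succ, List.flatten_cons, evG_append, hpath, ihk, one_mul]
  letI : CommGroup σ.ker :=
    { (inferInstance : Group σ.ker) with
      mul_comm := fun a b => Subtype.ext (Subgroup.mem_center_iff.1 (hcen b.2) a.1) }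
  let Z : ℕ → σ.ker := fun i => ⟨z i, hzker i⟩
  have hZq : ∀ i, Z i ^ D.p = 1 := fun i => Subtype.ext (hexp _ (hzker i))
  simp only [combosCyclicOK, Bool.and_eq_true, List.all_eq_true, List.mem_range,
    List.contains_iff_mem] at hcomb
  obtain ⟨hz0mem, hcomb⟩ := hcomb
  have key : ∀ k < D.targets.length,
      (D.targets.getD k 0 = z0 → Z z0 ^ ord = 1) ∧ Z (D.targets.getD k 0) ∈ Subgroup.zpowers (Z z0) := by
    intro k hk
    have hok := hcomb k hk
    simp only [cyclicComboOK, Bool.and_eq_true, decide_eq_true_eq, List.all_eq_true, List.mem_range,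
      Bool.or_eq_true, List.any_eq_true, beq_iff_eq, Bool.not_eq_true', List.any_eq_false] at hok
    obtain ⟨⟨⟨⟨hlt, -⟩, -⟩, hv⟩, hcnt⟩ := hok
    set t := D.targets.getD k 0 with ht
    have hval' : ∀ w, (evG Z w).1 = evG z w := fun w => map_evG σ.ker.subtype Z w
    have h1 : evG Z (comboVec D (D.combos.getD k [])) = 1 := Subtype.ext (by rw [hval', hcombo]; rfl)
    have h2 := prod_eq_finprod Z hZq (comboVec D (D.combos.getD k [])) D.rules.length hv
      (fun i => if i = t then (if i = z0 then ord else 1) else if i = z0 then D.p - coef.getD k 0 else 0)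
      (fun i hi => by
        rcases hcnt i hi with ⟨d, hd, rfl⟩ | h
        · exact Or.inl (Subtype.ext (hzdefs d hd))
        · exact Or.inr h)
    rw [h1] at h2
    by_cases htz : t = z0
    · refine ⟨fun _ => ?_, htz ▸ Subgroup.mem_zpowers _⟩
      rw [Finset.prod_eq_single z0 (fun i _ hi => by simp [htz, hi])
        (fun h => absurd (Finset.mem_range.2 (htz ▸ hlt)) h)] at h2
      simpa [htz] using h2.symm
    · refine ⟨fun h => absurd h htz, ?_⟩
      by_cases hz0r : z0 < D.rules.length
      · rw [Finset.prod_eq_mul t z0 htz (fun i _ hi => by simp [hi.1, hi.2])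
          (fun h => absurd (Finset.mem_range.2 hlt) h)
          (fun h => absurd (Finset.mem_range.2 hz0r) h)] at h2
        simp only [if_true, htz, if_false, pow_one, if_neg (Ne.symm htz)] at h2
        rw [eq_inv_of_mul_eq_one_left h2.symm]
        exact inv_mem (Subgroup.npow_mem_zpowers _ _)
      · rw [Finset.prod_eq_single t (fun i hi hne => by
          have : i ≠ z0 := fun h => hz0r (h ▸ Finset.mem_range.1 hi)
          simp [hne, this]) (fun h => absurd (Finset.mem_range.2 hlt) h)] at h2
        simp only [if_true, htz, if_false, pow_one] at h2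
        rw [← h2]; exact one_mem _
  obtain ⟨k0, hk0, hk0'⟩ := List.getElem_of_mem hz0mem
  have hordz : Z z0 ^ ord = 1 := (key k0 hk0).1 (by rw [List.getD_eq_getElem _ _ hk0, hk0'])
  have hgood : ∀ r, isGood D r = true → z r ∈ Subgroup.zpowers (z z0) := by
    intro r hr
    simp only [isGood, Bool.or_eq_true, List.any_eq_true, beq_iff_eq, List.contains_iff_mem] at hr
    rcases hr with ⟨d, hd, rfl⟩ | hr
    · rw [hzdefs d hd]; exact one_mem _
    obtain ⟨k, hk, rfl⟩ := List.getElem_of_mem hr
    obtain ⟨j, hj⟩ := Subgroup.mem_zpowers_iff.1 (key k hk).2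
    rw [List.getD_eq_getElem _ _ hk] at hj
    exact Subgroup.mem_zpowers_iff.2 ⟨j, congrArg Subtype.val hj⟩
  -- the tower upstairs
  simp only [pcCyclicOK, List.all_eq_true, List.mem_range, Bool.and_eq_true, List.any_eq_true,
    Bool.or_eq_true, beq_iff_eq, decide_eq_true_eq] at hpc
  let T : ℕ → Subgroup Γ := fun i => Subgroup.closure (L '' {k | i ≤ k ∧ k < D.n} ∪ {z z0})
  have hgenT : ∀ i k, i ≤ k → k < D.n → L k ∈ T i := fun i k h1 h2 =>
    Subgroup.subset_closure (Or.inl ⟨k, ⟨h1, h2⟩, rfl⟩)
  have hz0T : ∀ i, z z0 ∈ T i := fun i => Subgroup.subset_closure (Or.inr rfl)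
  have hgoodT : ∀ i r, isGood D r = true → z r ∈ T i := fun i r hr =>
    (Subgroup.zpowers_le.2 (hz0T i)) (hgood r hr)
  have hwT : ∀ i (w : List ℕ), (∀ s ∈ w, i ≤ s ∧ s < D.n) → evG L w ∈ T i := fun i w hw =>
    evG_mem (S := (T i).toSubmonoid) fun s hs => hgenT _ _ (hw s hs).1 (hw s hs).2
  have hconjrule : ∀ i j, i < j → j < D.n → ∃ w zr, (L i)⁻¹ * L j * L i = evG L w * zr ∧
      zr ∈ Subgroup.zpowers (z z0) ∧ (∀ s ∈ w, i < s ∧ s < D.n) ∧
      (top ≤ j → ∀ s ∈ w, top ≤ s) ∧ (j < top → ∃ w', w = j :: w' ∧ ∀ s ∈ w', top ≤ s) := by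
    intro i j hij hjn
    obtain ⟨r, -, ⟨⟨⟨hz0', hl⟩, hhd⟩, htl⟩, hsh⟩ := ((hpc i (by omega)).2 j hjn).resolve_left (by omega)
    obtain ⟨tl, htl'⟩ := List.head?_eq_some_iff.1 hhd
    have h := hrz r
    rw [hl, htl'] at h
    rw [htl', List.tail_cons] at htl hsh
    refine ⟨tl, z r, ?_, hgood r hz0', htl, fun hj => ?_, fun hj => ?_⟩
    · have e : L j * L i = L i * evG L tl * z r := by simpa [evG] using h
      rw [mul_assoc, e, mul_assoc, inv_mul_cancel_left]
    · rw [if_pos hj] at hsh
      simpa using hsh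
    · rw [if_neg (by omega)] at hsh
      simp only [Bool.and_eq_true, beq_iff_eq, List.all_eq_true, decide_eq_true_eq] at hsh
      obtain ⟨tl2, htl2⟩ := List.head?_eq_some_iff.1 hsh.1
      refine ⟨tl2, htl2, ?_⟩
      rw [htl2, List.tail_cons] at hsh
      exact hsh.2
  have hcentT : ∀ i (x : Γ), x⁻¹ * z z0 * x ∈ T i := fun i x => by
    rw [mul_assoc, ← Subgroup.mem_center_iff.1 (hcen (hzker z0)) x, inv_mul_cancel_left]
    exact hz0T i
  have hzrT : ∀ l zr, zr ∈ Subgroup.zpowers (z z0) → zr ∈ T l := fun l zr h =>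
    (Subgroup.zpowers_le.2 (hz0T l)) h
  have hTle := card_tower_le L {z z0} p D.n top D.n hp.pos le_rfl T (fun i => rfl)
    (fun i h1 h2 => by
      obtain ⟨⟨r, -, ⟨hg, hl⟩, hr2⟩, -⟩ := hpc i h2
      have h := hrz r
      rw [hl] at h
      rw [show L i ^ p = evG L (List.replicate p i) by
        rw [evG, List.map_replicate, List.prod_replicate], h]
      refine mul_mem (hwT _ _ fun s hs => ⟨(hr2 s hs).1, (hr2 s hs).2⟩) ?_
      exact hgoodT _ r (hg.resolve_left (by omega)))
    (fun i j _ _ hij hjn => by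
      obtain ⟨w, zr, he, hzr, hw, -, -⟩ := hconjrule i j hij hjn
      rw [he]
      exact mul_mem (hwT _ _ fun s hs => ⟨(hw s hs).1, (hw s hs).2⟩) (hzrT _ _ hzr))
    (fun i _ _ r hr => by rw [Set.mem_singleton_iff.1 hr]; exact hcentT _ _)
    (D.n - top) (by omega)
  rw [show D.n - (D.n - top) = top by omega] at hTle
  have hTn : Nat.card (T D.n) ≤ ord := by
    have : T D.n = Subgroup.zpowers (z z0) := by
      rw [Subgroup.zpowers_eq_closure]
      simp only [T]
      congr 1
      ext x
      simp only [Set.mem_union, Set.mem_image, Set.mem_setOf_eq]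
      exact ⟨fun h => h.resolve_left (by rintro ⟨k, ⟨h1, h2⟩, -⟩; omega), Or.inr⟩
    rw [this, Nat.card_zpowers]
    exact Nat.le_of_dvd hord (orderOf_dvd_of_pow_eq_one (congrArg Subtype.val hordz))
  -- the tower downstairs
  let U : ℕ → Subgroup G := fun i => Subgroup.closure (val '' {k | i ≤ k ∧ k < D.n} ∪ ∅)
  have hgenU : ∀ i k, i ≤ k → k < D.n → val k ∈ U i := fun i k h1 h2 =>
    Subgroup.subset_closure (Or.inl ⟨k, ⟨h1, h2⟩, rfl⟩)
  have hwU : ∀ i (w : List ℕ), (∀ s ∈ w, i ≤ s ∧ s < D.n) → evG val w ∈ U i := fun i w hw =>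
    evG_mem (S := (U i).toSubmonoid) fun s hs => hgenU _ _ (hw s hs).1 (hw s hs).2
  have hUpow : ∀ i, i < D.n → val i ^ p ∈ U (i + 1) := fun i h2 => by
    obtain ⟨⟨r, -, ⟨-, hl⟩, hr2⟩, -⟩ := hpc i h2
    rw [show val i ^ p = evG val (List.replicate p i) by
      rw [evG, List.map_replicate, List.prod_replicate], ← hl, hrule]
    exact hwU _ _ fun s hs => ⟨(hr2 s hs).1, (hr2 s hs).2⟩
  have hUconj : ∀ i j, i < j → j < D.n → (val i)⁻¹ * val j * val i ∈ U (i + 1) := fun i j hij hjn => by
    obtain ⟨w, zr, he, hzr, hw, -, -⟩ := hconjrule i j hij hjn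
    have h := congrArg σ he
    simp only [map_mul, map_inv, hL, hLev,
      MonoidHom.mem_ker.1 ((Subgroup.zpowers_le.2 (hzker z0)) hzr), mul_one] at h
    rw [h]
    exact hwU _ _ fun s hs => ⟨(hw s hs).1, (hw s hs).2⟩
  have hU1 := card_tower_le val ∅ p D.n top D.n hp.pos le_rfl U (fun i => rfl)
    (fun i _ h2 => hUpow i h2) (fun i j _ _ hij hjn => hUconj i j hij hjn)
    (fun i _ _ r hr => absurd hr (by simp)) (D.n - top) (by omega)
  rw [show D.n - (D.n - top) = top by omega] at hU1
  have hUn : U D.n = ⊥ := by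
    simp only [U, Set.union_empty]
    rw [Subgroup.closure_eq_bot_iff]
    rintro x ⟨k, ⟨h1, h2⟩, rfl⟩
    omega
  rw [hUn, Subgroup.card_bot, mul_one] at hU1
  have hU0 := card_tower_le val ∅ p D.n 0 top hp.pos htop U (fun i => rfl)
    (fun i _ h2 => hUpow i (by omega)) (fun i j _ _ hij hjn => hUconj i j hij hjn)
    (fun i _ _ r hr => absurd hr (by simp)) top (by omega)
  rw [Nat.sub_self] at hU0
  simp only [sizeCyclicOK, Bool.and_eq_true, beq_iff_eq] at hsize
  have hEge : p ^ D.n ≤ Nat.card (U 0) := by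
    have hnd := (increasing_nodup _ hsize.2).imp (fun h => ne_of_lt h)
    let f : Fin D.sorted.length → U 0 := fun k =>
      ⟨evG val ((List.range D.n).flatMap fun i => List.replicate (D.sorted[k.val] / p ^ i % p) i),
        hwU 0 _ fun s hs => by
          obtain ⟨i, hi, hs'⟩ := List.mem_flatMap.1 hs
          rw [List.eq_of_mem_replicate hs']
          exact ⟨Nat.zero_le _, List.mem_range.1 hi⟩⟩
    have hf : Function.Injective f := by
      intro a b hab
      have h := congrArg (fun x : U 0 => C.code x.1) hab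
      simp only [f, evG_code C val D.syms _ hval] at h
      by_contra hne
      have hne' : a.val ≠ b.val := fun e => hne (Fin.ext e)
      have hinj := List.pairwise_iff_getElem.1 hnd
      rcases Nat.lt_or_gt_of_ne hne' with hl | hl
      · have := hinj a.val b.val (by simp) (by simp) hl
        simp only [List.getElem_map] at this
        exact this h
      · have := hinj b.val a.val (by simp) (by simp) hl
        simp only [List.getElem_map] at this
        exact this h.symm
    have := Nat.card_le_card_of_injective f hf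
    rwa [Nat.card_fin, hsize.1] at this
  have hsplitn : p ^ top * p ^ (D.n - top) = p ^ D.n := by
    rw [← pow_add, Nat.add_sub_cancel' htop]
  have hUtop : Nat.card (U top) = p ^ (D.n - top) := by
    refine le_antisymm hU1 (Nat.le_of_mul_le_mul_left ?_ (pow_pos hp.pos top))
    rw [hsplitn]
    exact hEge.trans hU0
  have hU0eq : Nat.card (U 0) = p ^ D.n := by
    refine le_antisymm (hU0.trans ?_) hEge
    rw [hUtop, hsplitn]
  -- the kernel meets the upper part in at most `ord` elements
  have hKT : Nat.card (σ.ker ⊓ T top : Subgroup Γ) ≤ ord := by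
    let f := σ.comp (T top).subtype
    have hrange : f.range = U top := by
      rw [MonoidHom.range_comp, Subgroup.range_subtype]
      simp only [T, U, MonoidHom.map_closure, Set.image_union, Set.image_singleton, Set.union_empty]
      rw [show σ (z z0) = 1 from hzker z0, Subgroup.closure_union, Subgroup.closure_singleton_one,
        sup_bot_eq, Set.image_image]
      simp only [hL]
    have hcard' : Nat.card f.ker * Nat.card f.range = Nat.card (T top) := by
      rw [← Nat.card_congr (QuotientGroup.quotientKerEquivRange f).toEquiv,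
        ← Subgroup.index, Subgroup.card_mul_index]
    have hkle : Nat.card f.ker ≤ ord := by
      rw [hrange, hUtop] at hcard'
      refine Nat.le_of_mul_le_mul_right ?_ (pow_pos hp.pos (D.n - top))
      rw [hcard']
      exact hTle.trans (by rw [mul_comm]; exact Nat.mul_le_mul_right _ hTn)
    refine le_trans ?_ hkle
    exact Nat.card_le_card_of_injective (fun x => (⟨⟨x.1, x.2.2⟩, x.2.1⟩ : f.ker))
      (fun a b h => Subtype.ext (congrArg (fun y : f.ker => y.1.1) h))
  -- the derived group of the lifted Sylow subgroup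
  let S0 : Subgroup Γ := Subgroup.closure (L '' {k | k < D.n})
  have hgnorm : ∀ i, i < D.n → ∀ x ∈ T top, (L i)⁻¹ * x * L i ∈ T top := by
    intro i hi x hx
    by_cases hti : top ≤ i
    · exact mul_mem (mul_mem (inv_mem (hgenT _ _ hti hi)) hx) (hgenT _ _ hti hi)
    induction hx using Subgroup.closure_induction with
    | mem y hy =>
      rcases hy with ⟨j, ⟨hj1, hj2⟩, rfl⟩ | hy
      · obtain ⟨w, zr, he, hzr, hw, hw2, -⟩ := hconjrule i j (by omega) hj2
        rw [he]
        exact mul_mem (hwT _ _ fun s hs => ⟨hw2 hj1 s hs, (hw s hs).2⟩) (hzrT _ _ hzr)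
      · rw [Set.mem_singleton_iff.1 hy]; exact hcentT _ _
    | one => simp
    | mul a b _ _ ha hb =>
      have := mul_mem ha hb
      simpa [mul_assoc] using this
    | inv a _ ha =>
      have := inv_mem ha
      simpa [mul_assoc] using this
  have hnorm : ∀ a ∈ S0, ∀ x ∈ T top, a * x * a⁻¹ ∈ T top := by
    have hN : S0 ≤ Subgroup.normalizer ((T top : Subgroup Γ) : Set Γ) := by
      rw [Subgroup.closure_le]
      rintro _ ⟨i, hi, rfl⟩
      have hinv : (L i)⁻¹ ∈ Subgroup.normalizer ((T top : Subgroup Γ) : Set Γ) := by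
        refine Subgroup.mem_normalizer_iff.2 fun x => ⟨fun hx => ?_, fun hx => ?_⟩
        · simpa using hgnorm i hi x hx
        · have hsurj : Function.Surjective (fun y : T top => (⟨(L i)⁻¹ * y.1 * L i, hgnorm i hi _ y.2⟩ : T top)) :=
            Finite.injective_iff_surjective.1 fun a b h => Subtype.ext (by simpa using congrArg Subtype.val h)
          obtain ⟨y, hy⟩ := hsurj ⟨_, hx⟩
          have : (L i)⁻¹ * y.1 * L i = (L i)⁻¹ * x * (L i)⁻¹⁻¹ := congrArg Subtype.val hy
          simp only [inv_inv, mul_left_inj, mul_right_inj] at this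
          exact this ▸ y.2
      simpa using inv_mem hinv
    intro a ha x hx
    exact (Subgroup.mem_normalizer_iff.1 (hN ha) x).1 hx
  have hcomm2 : ∀ i j, i < j → j < D.n → ⁅L i, L j⁆ ∈ T top := by
    intro i j hij hjn
    have hiS : L i ∈ S0 := Subgroup.subset_closure ⟨i, by show i < D.n; omega, rfl⟩
    have hjS : L j ∈ S0 := Subgroup.subset_closure ⟨j, hjn, rfl⟩
    by_cases hj : top ≤ j
    · rw [commutatorElement_def]
      exact mul_mem (hnorm _ hiS _ (hgenT _ _ hj hjn)) (inv_mem (hgenT _ _ hj hjn))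
    obtain ⟨w, zr, he, hzr, hw, -, hw3⟩ := hconjrule i j hij hjn
    obtain ⟨w', rfl, hw'⟩ := hw3 (by omega)
    have hu : evG L w' * zr ∈ T top :=
      mul_mem (hwT _ _ fun s hs => ⟨hw' s hs, (hw s (List.mem_cons_of_mem _ hs)).2⟩) (hzrT _ _ hzr)
    have he' : L i * L j = L j * L i * (evG L w' * zr)⁻¹ := by
      have h1 : evG L (j :: w') = L j * evG L w' := by simp [evG]
      rw [h1, mul_assoc (L j)] at he
      calc L i * L j = L i * (L j * (evG L w' * zr)) * (evG L w' * zr)⁻¹ := by group
        _ = L i * ((L i)⁻¹ * L j * L i) * (evG L w' * zr)⁻¹ := by rw [he]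
        _ = L j * L i * (evG L w' * zr)⁻¹ := by group
    rw [commutatorElement_def, he']
    have := hnorm _ (mul_mem hjS hiS) _ (inv_mem hu)
    simpa [mul_assoc, mul_inv_rev] using this
  have hcommgen : ∀ i, i < D.n → ∀ j, j < D.n → ⁅L i, L j⁆ ∈ T top := by
    intro i hi j hj
    rcases lt_trichotomy i j with h | rfl | h
    · exact hcomm2 i j h hj
    · rw [commutatorElement_self]; exact one_mem _
    · rw [← commutatorElement_inv]; exact inv_mem (hcomm2 j i h hi)
  have hder1 : ∀ i, i < D.n → ∀ t ∈ S0, ⁅L i, t⁆ ∈ T top := by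
    intro i hi t ht
    induction ht using Subgroup.closure_induction with
    | mem y hy => obtain ⟨j, hj, rfl⟩ := hy; exact hcommgen i hi j hj
    | one => rw [commutatorElement_one_right]; exact one_mem _
    | mul a b ha _ iha ihb =>
      have : ⁅L i, a * b⁆ = ⁅L i, a⁆ * (a * ⁅L i, b⁆ * a⁻¹) := by
        simp only [commutatorElement_def]; group
      rw [this]; exact mul_mem iha (hnorm a ha _ ihb)
    | inv a ha iha =>
      have : ⁅L i, a⁻¹⁆ = a⁻¹ * ⁅L i, a⁆⁻¹ * a⁻¹⁻¹ := by
        simp only [commutatorElement_def]; group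
      rw [this]; exact hnorm _ (inv_mem ha) _ (inv_mem iha)
  have hder2 : ∀ s ∈ S0, ∀ t ∈ S0, ⁅s, t⁆ ∈ T top := by
    intro s hs' t ht
    induction hs' using Subgroup.closure_induction with
    | mem y hy => obtain ⟨i, hi, rfl⟩ := hy; exact hder1 i hi t ht
    | one => rw [commutatorElement_one_left]; exact one_mem _
    | mul a b ha _ iha ihb =>
      have : ⁅a * b, t⁆ = a * ⁅b, t⁆ * a⁻¹ * ⁅a, t⁆ := by
        simp only [commutatorElement_def]; group
      rw [this]; exact mul_mem (hnorm a ha _ ihb) iha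
    | inv a ha iha =>
      have : ⁅a⁻¹, t⁆ = a⁻¹ * ⁅a, t⁆⁻¹ * a⁻¹⁻¹ := by
        simp only [commutatorElement_def]; group
      rw [this]; exact hnorm _ (inv_mem ha) _ (inv_mem iha)
  -- the Sylow subgroup
  let ES : Sylow p G := Sylow.ofCard (U 0) (by
    rw [hU0eq, hcard, Nat.factorization_mul (pow_ne_zero _ hp.ne_zero)
      (fun h0 => hM (by rw [h0]; exact dvd_zero _)), Finsupp.add_apply, hp.factorization_pow,
      Finsupp.single_eq_same, Nat.factorization_eq_zero_of_not_dvd hM, add_zero])
  have hkerT : σ.ker ≤ σ.ker ⊓ T top := by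
    intro x hx
    refine ⟨hx, ?_⟩
    have hxp : IsPGroup p (Subgroup.zpowers x) := by
      obtain ⟨k, -, hk⟩ := (Nat.dvd_prime_pow hp).1 (orderOf_dvd_of_pow_eq_one (hq ▸ hexp x hx))
      exact IsPGroup.of_card (n := k) (by rw [Nat.card_zpowers, hk])
    obtain ⟨P, hP⟩ := hxp.exists_le_sylow
    have hxP : x ∈ P := hP (Subgroup.mem_zpowers x)
    have hxcomm := mem_commutator_sylow P (hcen hx) (hder hx) hxP
    obtain ⟨g, hg⟩ := MulAction.exists_smul_eq G (P.mapSurjective hs) ES
    obtain ⟨g, rfl⟩ := hs g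
    have hsplit : ∀ a ∈ P, ∃ s ∈ S0, ∃ k ∈ σ.ker, g * a * g⁻¹ = s * k := fun a ha => by
      have : σ (g * a * g⁻¹) ∈ ((σ g • P.mapSurjective hs : Sylow p G) : Subgroup G) := by
        rw [Sylow.coe_subgroup_smul]
        refine ⟨σ a, ?_, by simp [MulAut.conj_apply]⟩
        show σ a ∈ (P : Subgroup Γ).map σ
        exact Subgroup.mem_map_of_mem σ ha
      rw [hg] at this
      have hmap : U 0 = S0.map σ := by
        simp only [U, S0, MonoidHom.map_closure, Set.union_empty, Nat.zero_le, true_and,
          Set.image_image, hL]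
      have h' : σ (g * a * g⁻¹) ∈ S0.map σ := hmap ▸ this
      obtain ⟨s, hs0, hs1⟩ := h'
      exact ⟨s, hs0, s⁻¹ * (g * a * g⁻¹), by
        rw [MonoidHom.mem_ker, map_mul, map_inv, hs1, inv_mul_cancel],
        (mul_inv_cancel_left _ _).symm⟩
    have h1 : x ∈ ⁅(P : Subgroup Γ), (P : Subgroup Γ)⁆ := by
      rw [← Subgroup.map_subtype_commutator]
      exact ⟨⟨x, hxP⟩, hxcomm, rfl⟩
    have hle : ⁅(P : Subgroup Γ), (P : Subgroup Γ)⁆ ≤ (T top).comap (MulAut.conj g).toMonoidHom := by
      rw [Subgroup.commutator_le]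
      intro a ha b hb
      obtain ⟨s, hs0, k, hk, ea⟩ := hsplit a ha
      obtain ⟨t, ht0, l, hl, eb⟩ := hsplit b hb
      show MulAut.conj g ⁅a, b⁆ ∈ T top
      have hk' := fun y : Γ => Subgroup.mem_center_iff.1 (hcen hk) y
      have hl' := fun y : Γ => Subgroup.mem_center_iff.1 (hcen hl) y
      have hst : ⁅s * k, t * l⁆ = ⁅s, t⁆ := by
        simp only [commutatorElement_def]
        have e1 : s * k * (t * l) = s * t * (k * l) := by
          rw [mul_assoc s k, ← mul_assoc k t l, ← hk' t, mul_assoc t k l, ← mul_assoc]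
        have e2 : t * l * (s * k) = t * s * (k * l) := by
          rw [mul_assoc t l, ← mul_assoc l s k, ← hl' s, mul_assoc s l k, ← hl' k, ← mul_assoc]
        calc s * k * (t * l) * (s * k)⁻¹ * (t * l)⁻¹
            = (s * k * (t * l)) * (t * l * (s * k))⁻¹ := by group
          _ = s * t * s⁻¹ * t⁻¹ := by rw [e1, e2]; group
      have e : MulAut.conj g ⁅a, b⁆ = ⁅s * k, t * l⁆ := by
        rw [← ea, ← eb, map_commutatorElement, MulAut.conj_apply, MulAut.conj_apply]
      rw [e, hst]
      exact hder2 s hs0 t ht0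
    have h2 : g * x * g⁻¹ ∈ T top := hle h1
    rwa [Subgroup.mem_center_iff.1 (hcen hx) g, mul_inv_cancel_right] at h2
  exact (Subgroup.card_le_of_le hkerT).trans hKT

/-- The `p`-part of the kernel of a stem extension is at most `ord` when `ord < p ^ e`. -/
theorem pow_dvd_card_ker_le [Finite Γ] (C : Coding G op one) (D : Data) (p e : ℕ)
    [Fact p.Prime] (hq : D.p = p ^ e) {top z0 ord : ℕ} (coef : List ℕ) (htop : top ≤ D.n)
    (hord : 0 < ord) (hlt : ord < p ^ e) (hmem : ∀ v ∈ D.syms, ∃ g : G, C.code g = v)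
    (hrules : rulesOK op one D = true) (hdefs : defsOK D = true)
    (hpc : pcCyclicOK D p top = true) (hsize : sizeCyclicOK op one D p = true)
    (hcomb : combosCyclicOK D z0 ord coef = true) {M : ℕ} (hcard : Nat.card G = p ^ D.n * M)
    (hM : ¬ p ∣ M) (σ : Γ →* G) (hσ : Cfsg.IsStemExtension σ) {k : ℕ}
    (hk : p ^ k ∣ Nat.card σ.ker) : p ^ k ≤ ord := by
  have hp : p.Prime := Fact.out
  letI : CommGroup σ.ker :=
    { (inferInstance : Group σ.ker) with
      mul_comm := fun a b => Subtype.ext (Subgroup.mem_center_iff.1 (hσ.2.1 b.2) a.1) }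
  let φ : σ.ker →* σ.ker := powMonoidHom (p ^ e)
  let K : Subgroup Γ := φ.range.map σ.ker.subtype
  haveI hKn : K.Normal := ⟨fun x hx g => by
    obtain ⟨y, hy, rfl⟩ := hx
    have hc := Subgroup.mem_center_iff.1 (hσ.2.1 y.2) g
    rw [Subgroup.coe_subtype, hc, mul_inv_cancel_right]
    exact ⟨y, hy, rfl⟩⟩
  let τ : Γ ⧸ K →* G := QuotientGroup.lift K σ (Subgroup.map_subtype_le _)
  have hkmem : ∀ x : Γ, (x : Γ ⧸ K) ∈ τ.ker → x ∈ σ.ker := fun x hx => hx
  have hτ : Cfsg.IsStemExtension τ := by
    refine ⟨fun g => ?_, ?_, ?_⟩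
    · obtain ⟨x, rfl⟩ := hσ.1 g
      exact ⟨x, rfl⟩
    · intro q hq
      induction q using QuotientGroup.induction_on with
      | _ x =>
        refine Subgroup.mem_center_iff.2 fun y => ?_
        induction y using QuotientGroup.induction_on with
        | _ y =>
          rw [← QuotientGroup.mk_mul, ← QuotientGroup.mk_mul,
            Subgroup.mem_center_iff.1 (hσ.2.1 (hkmem x hq)) y]
    · intro q hq
      induction q using QuotientGroup.induction_on with
      | _ x =>
        have := Subgroup.mem_map_of_mem (QuotientGroup.mk' K) (hσ.2.2 (hkmem x hq))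
        rw [commutator_def, Subgroup.map_commutator,
          Subgroup.map_top_of_surjective _ (QuotientGroup.mk'_surjective K)] at this
        exact this
  have hexp : ∀ q ∈ τ.ker, q ^ D.p = 1 := by
    intro q hq'
    induction q using QuotientGroup.induction_on with
    | _ x =>
      rw [hq, ← QuotientGroup.mk_pow, QuotientGroup.eq_one_iff]
      exact ⟨φ ⟨x, hq'⟩, ⟨⟨x, hq'⟩, rfl⟩, rfl⟩
  have hb := card_ker_le_of_exponent C D p e hq coef htop hord hmem hrules hdefs hpc hsize hcomb
    hcard hM τ hτ hexp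
  -- transfer the bound to the elements killed by `p ^ e`
  let π : σ.ker →* τ.ker :=
    { toFun := fun x => ⟨(x.1 : Γ ⧸ K), x.2⟩
      map_one' := rfl
      map_mul' := fun _ _ => rfl }
  have hπs : Function.Surjective π := by
    rintro ⟨q, hq⟩
    induction q using QuotientGroup.induction_on with
    | _ x => exact ⟨⟨x, hkmem x hq⟩, rfl⟩
  have hπk : π.ker = φ.range := by
    ext x
    constructor
    · intro h
      have : (x.1 : Γ ⧸ K) = 1 := congrArg Subtype.val h
      obtain ⟨y, hy, e⟩ := (QuotientGroup.eq_one_iff x.1).1 this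
      exact (Subtype.ext e : y = x) ▸ hy
    · intro h
      exact Subtype.ext ((QuotientGroup.eq_one_iff x.1).2 ⟨x, h, rfl⟩)
  have hcardφ : Nat.card φ.ker = Nat.card τ.ker := by
    rw [← Nat.card_congr (QuotientGroup.quotientKerEquivOfSurjective π hπs).toEquiv,
      ← Subgroup.index, hπk]
    have h1 := φ.range.card_mul_index
    have h2 := φ.ker.card_mul_index
    rw [Subgroup.index_ker, mul_comm] at h2
    exact Nat.eq_of_mul_eq_mul_left (Nat.card_pos (α := φ.range)) (h2.trans h1.symm)
  obtain ⟨P, hP⟩ := Sylow.exists_subgroup_card_pow_prime p hk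
  by_contra hcon
  have hcon' : ord < p ^ k := not_le.1 hcon
  obtain ⟨Q, hQ⟩ : ∃ Q : Subgroup σ.ker, Nat.card Q = p ^ min k e :=
    Sylow.exists_subgroup_card_pow_prime p ((pow_dvd_pow p (min_le_left k e)).trans hk)
  have hQle : Q ≤ φ.ker := fun x hx => by
    show x ^ p ^ e = 1
    have : orderOf (⟨x, hx⟩ : Q) ∣ p ^ e :=
      (orderOf_dvd_natCard _).trans (hQ ▸ pow_dvd_pow p (min_le_right k e))
    rw [Subgroup.orderOf_mk] at this
    exact orderOf_dvd_iff_pow_eq_one.1 this
  have := (Subgroup.card_le_of_le hQle).trans (hcardφ.le.trans hb)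
  rw [hQ] at this
  rcases le_total k e with h | h
  · rw [min_eq_left h] at this; omega
  · rw [min_eq_right h] at this; omega

end H97.SchurCert
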