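import Mathlib

/-!
Packed 24-bit lanes: kernel-cheap arithmetic for 7 × 7 matrices over the integers modulo 11.
A matrix is one natural number with 49 lanes; a product is seven big multiplications.
-/

namespace H97

/-- `pk f n` packs `f 0, …, f (n-1)` into lanes of 24 bits. -/
def pk (f : ℕ → ℕ) : ℕ → ℕ
  | 0 => 0
  | n + 1 => pk f n + f n * 2 ^ (24 * n)

/-- The lane `k` of `N`. -/
def dig (N k : ℕ) : ℕ := N / 2 ^ (24 * k) % 2 ^ 24

theorem pk_lt (f : ℕ → ℕ) (n : ℕ) (h : ∀ k < n, f k < 2 ^ 24) : pk f n < 2 ^ (24 * n) := by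
  induction n with
  | zero => simp [pk]
  | succ n ih =>
    have h1 := ih fun k hk => h k (by omega)
    have h2 : f n + 1 ≤ 2 ^ 24 := h n (by omega)
    simp only [pk, Nat.mul_succ, pow_add]
    calc pk f n + f n * 2 ^ (24 * n) < (f n + 1) * 2 ^ (24 * n) := by rw [add_one_mul]; omega
      _ ≤ 2 ^ 24 * 2 ^ (24 * n) := Nat.mul_le_mul_right _ h2
      _ = 2 ^ (24 * n) * 2 ^ 24 := mul_comm _ _

theorem pk_congr {f g : ℕ → ℕ} (n : ℕ) (h : ∀ k < n, f k = g k) : pk f n = pk g n := by
  induction n with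
  | zero => rfl
  | succ n ih => simp only [pk, ih fun k hk => h k (by omega), h n (by omega)]

theorem pk_smul (c : ℕ) (f : ℕ → ℕ) (n : ℕ) : c * pk f n = pk (fun k => c * f k) n := by
  induction n with
  | zero => rfl
  | succ n ih => simp only [pk, mul_add, ih, mul_assoc]

theorem pk_add (f g : ℕ → ℕ) (n : ℕ) : pk f n + pk g n = pk (fun k => f k + g k) n := by
  induction n with
  | zero => rfl
  | succ n ih => simp only [pk, ← ih]; ring

theorem pk_succ' (f : ℕ → ℕ) (n : ℕ) :
    pk f (n + 1) = f 0 + 2 ^ 24 * pk (fun k => f (k + 1)) n := by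
  induction n with
  | zero => simp [pk]
  | succ n ih =>
    rw [pk, ih, pk]
    ring

theorem dig_pk (f : ℕ → ℕ) (n k : ℕ) (h : ∀ k < n, f k < 2 ^ 24) :
    dig (pk f n) k = if k < n then f k else 0 := by
  induction k generalizing f n with
  | zero =>
    rcases n with _ | n
    · simp [pk, dig]
    · have := h 0 (by omega)
      rw [dig, mul_zero, pow_zero, Nat.div_one, pk_succ', Nat.add_mul_mod_self_left,
        Nat.mod_eq_of_lt this, if_pos (by omega)]
  | succ k ih =>
    rcases n with _ | n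
    · simp [pk, dig]
    · have h0 := h 0 (by omega)
      have hd : pk f (n + 1) / 2 ^ 24 = pk (fun k => f (k + 1)) n := by
        rw [pk_succ', Nat.add_mul_div_left _ _ (by positivity), Nat.div_eq_of_lt h0, zero_add]
      have hs := ih (fun k => f (k + 1)) n fun j hj => h _ (by omega)
      unfold dig at hs ⊢
      rw [show 24 * (k + 1) = 24 + 24 * k by ring, pow_add, ← Nat.div_div_eq_div_mul, hd, hs]
      simp

theorem pk_dig (n N : ℕ) (h : N < 2 ^ (24 * n)) : pk (dig N) n = N := by
  induction n generalizing N with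
  | zero => simp [pk] at h ⊢; omega
  | succ n ih =>
    rw [pk_succ']
    have h1 : N / 2 ^ 24 < 2 ^ (24 * n) := by
      rw [Nat.div_lt_iff_lt_mul (by positivity), ← pow_add]
      rwa [show 24 * n + 24 = 24 * (n + 1) by ring]
    have h2 : pk (fun k => dig N (k + 1)) n = N / 2 ^ 24 := by
      refine (pk_congr n fun k _ => ?_).trans (ih _ h1)
      rw [dig, dig, Nat.div_div_eq_div_mul, ← pow_add, show 24 * (k + 1) = 24 + 24 * k by ring]
    have h3 : dig N 0 = N % 2 ^ 24 := by rw [dig, mul_zero, pow_zero, Nat.div_one]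
    rw [h2, h3, Nat.mod_add_div]

theorem lanes_ext {n A B : ℕ} (hA : A < 2 ^ (24 * n)) (hB : B < 2 ^ (24 * n))
    (h : ∀ k < n, dig A k = dig B k) : A = B := by
  rw [← pk_dig n A hA, ← pk_dig n B hB]
  exact pk_congr n h

theorem pk_append (f : ℕ → ℕ) (a b : ℕ) :
    pk f (a + b) = pk f a + 2 ^ (24 * a) * pk (fun k => f (a + k)) b := by
  induction b with
  | zero => simp [pk]
  | succ b ih =>
    rw [← add_assoc, pk, ih, pk]
    ring

theorem dig_and (A B k : ℕ) : dig (A &&& B) k = dig A k &&& dig B k := by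
  simp only [dig, ← Nat.shiftRight_eq_div_pow, Nat.shiftRight_and_distrib]
  exact Nat.and_mod_two_pow

theorem dig_shift (A j k : ℕ) : dig (A >>> (24 * j)) k = dig A (j + k) := by
  simp only [dig, Nat.shiftRight_eq_div_pow, Nat.div_div_eq_div_mul, ← pow_add]
  congr 3; ring

end H97
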