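import Cfsg.Agent.H97.Mat24
import Cfsg.Agent.H97.SchurCert
import Cfsg.Agent.H95.Co0Centre
import Cfsg.Agent.H95.MatElt

/-!
Elements of the lattice group coded by their matrices modulo 3, which is faithful.
-/

set_option autoImplicit false

namespace H97.Co0Code

open Cfsg Finset H95 M24x

/-- The coordinates of the images of the vectors `8 eⱼ`. -/
def img8 (g : Co0) (p q : GolayPt) : ℤ := ((g • eight q : leechLattice) : GolayPt → ℤ) p

theorem eight_expand (y : leechLattice) :
    (8 : ℤ) • y = ∑ q, (y : GolayPt → ℤ) q • eight q := by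
  refine Subtype.ext (funext fun p => ?_)
  rw [AddSubgroup.coe_zsmul, AddSubmonoidClass.coe_finset_sum, Pi.smul_apply, Finset.sum_apply]
  simp only [AddSubgroup.coe_zsmul, Pi.smul_apply, eight, smul_eq_mul]
  rw [Finset.sum_eq_single p (fun q _ hq => by rw [Pi.single_eq_of_ne hq.symm, mul_zero])
    (fun h => absurd (mem_univ p) h), Pi.single_eq_same, mul_comm]

theorem img8_apply (g : Co0) (y : leechLattice) (p : GolayPt) :
    8 * ((g • y : leechLattice) : GolayPt → ℤ) p = ∑ q, img8 g p q * (y : GolayPt → ℤ) q := by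
  have h := congrArg (fun v : leechLattice => (v : GolayPt → ℤ) p)
    (congrArg (co0Hom g) (eight_expand y))
  simp only [map_zsmul, map_sum, AddSubgroup.coe_zsmul, AddSubmonoidClass.coe_finset_sum,
    Pi.smul_apply, Finset.sum_apply, smul_eq_mul] at h
  exact h.trans (Finset.sum_congr rfl fun q _ => mul_comm _ _)

theorem img8_apply' (g : Co0) (y : leechLattice) (i : Fin 24) :
    8 * ((g • y : leechLattice) : GolayPt → ℤ) (H90.pt i) =
      ∑ k : Fin 24, img8 g (H90.pt i) (H90.pt k) * (y : GolayPt → ℤ) (H90.pt k) := by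
  rw [img8_apply, ← Equiv.sum_comp H90.ptEquiv]
  rfl

/-- The matrix modulo 3. -/
def red (g : Co0) : Mat24 :=
  Matrix.of fun i j => 2 * (img8 g (H90.pt i) (H90.pt j) : ZMod 3)

theorem eight_two : ((8 : ℤ) : ZMod 3) = 2 := by decide

theorem red_mul (g h : Co0) : red (g * h) = red g * red h := by
  ext i j
  rw [Matrix.mul_apply]
  simp only [red, Matrix.of_apply]
  have e := congrArg (fun z : ℤ => (z : ZMod 3)) (img8_apply' g (h • eight (H90.pt j)) i)
  simp only [Int.cast_mul, eight_two, Int.cast_sum] at e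
  rw [← mul_smul] at e
  refine e.trans (Finset.sum_congr rfl fun k _ => ?_)
  show (img8 g (H90.pt i) (H90.pt k) : ZMod 3) * (img8 h (H90.pt k) (H90.pt j) : ZMod 3) = _
  linear_combination (norm := ring_nf) (0 : ZMod 3)
  simp [show (3 : ZMod 3) = 0 from by decide]

theorem red_one : red 1 = 1 := by
  ext i j
  simp only [red, Matrix.of_apply, img8, one_smul, Matrix.one_apply]
  show 2 * (((Pi.single (H90.pt j) 8 : GolayPt → ℤ) (H90.pt i) : ℤ) : ZMod 3) = _
  by_cases h : i = j
  · subst h; rw [Pi.single_eq_same, if_pos rfl]; decide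
  · rw [Pi.single_eq_of_ne (show H90.pt i ≠ H90.pt j from fun e => h (H90.ptEquiv.injective e)), if_neg h]; simp

theorem eq_one_of_red {g : Co0} (h : red g = 1) : g = 1 := by
  refine co0_ext_min fun x hx => ?_
  rw [one_smul]
  set w : leechLattice := g • x - x with hwdef
  have hw : ∀ p, (3 : ℤ) ∣ (w : GolayPt → ℤ) p := by
    intro p
    obtain ⟨i, rfl⟩ := H90.ptEquiv.surjective p
    rw [show (3 : ℤ) = ((3 : ℕ) : ℤ) from rfl, ← ZMod.intCast_zmod_eq_zero_iff_dvd]
    show (((w : GolayPt → ℤ) (H90.pt i) : ℤ) : ZMod 3) = 0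
    have e := congrArg (fun z : ℤ => (z : ZMod 3)) (img8_apply' g x i)
    simp only [Int.cast_mul, eight_two, Int.cast_sum] at e
    have hk : ∀ k, (img8 g (H90.pt i) (H90.pt k) : ZMod 3) = if i = k then 2 else 0 := by
      intro k
      have h1 : 2 * (img8 g (H90.pt i) (H90.pt k) : ZMod 3) = if i = k then 1 else 0 := by
        rw [← Matrix.one_apply, ← h]; rfl
      revert h1
      generalize (img8 g (H90.pt i) (H90.pt k) : ZMod 3) = z
      split <;> revert z <;> decide
    simp only [hk, ite_mul, zero_mul, Finset.sum_ite_eq, mem_univ, if_true] at e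
    have : ((w : GolayPt → ℤ) (H90.pt i) : ℤ) =
        ((g • x : leechLattice) : GolayPt → ℤ) (H90.pt i) - (x : GolayPt → ℤ) (H90.pt i) := rfl
    rw [this, Int.cast_sub]
    have h2 : (2 : ZMod 3) ≠ 0 := by decide
    rw [mul_left_cancel₀ h2 e, sub_self]
  choose z hz using hw
  have h8 : (8 : ℤ) • z ∈ leechLattice := by
    have : (8 : ℤ) • z = ∑ q, z q • ((eight q : leechLattice) : GolayPt → ℤ) := by
      funext p
      simp only [Pi.smul_apply, Finset.sum_apply, smul_eq_mul, eight]
      rw [Finset.sum_eq_single p (fun q _ hq => by rw [Pi.single_eq_of_ne hq.symm, mul_zero])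
        (fun h => absurd (mem_univ p) h), Pi.single_eq_same, mul_comm]
    rw [this]
    exact sum_mem fun q _ => zsmul_mem (eight q).2 _
  have h3 : (3 : ℤ) • z ∈ leechLattice := by
    rw [show (3 : ℤ) • z = (w : GolayPt → ℤ) from funext fun p => by
      rw [Pi.smul_apply, hz p, smul_eq_mul]]
    exact w.2
  have hzm : z ∈ leechLattice := by
    have := sub_mem (zsmul_mem h3 3) h8
    rwa [smul_smul, ← sub_smul, show (3 : ℤ) * 3 - 8 = 1 by norm_num, one_smul] at this
  have hwz : w = (3 : ℤ) • (⟨z, hzm⟩ : leechLattice) :=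
    Subtype.ext (funext fun p => by rw [hz p]; rfl)
  have hn : ldot w w ≤ 128 := by
    rw [hwdef, leechLike.norm_sub, co0_dot, hx]
    have := leechLike.norm_nonneg (g • x + x)
    rw [leechLike.norm_add, co0_dot, hx] at this
    linarith
  by_contra hne
  have hz0 : (⟨z, hzm⟩ : leechLattice) ≠ 0 := fun e => hne (by
    have : w = 0 := by rw [hwz, e, smul_zero]
    exact sub_eq_zero.1 this)
  have h32 := leechLike.min32 _ hz0
  rw [hwz, leechLike.zsmul_left, leechLike.zsmul_right] at hn
  omega

/-- The code of an element. -/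
def code (g : Co0) : ℕ := enc (red g)

theorem code_mul (g h : Co0) : code (g * h) = cm (code g) (code h) := by
  rw [code, red_mul, ← cm_enc]; rfl

theorem code_inj : Function.Injective code := by
  intro g h e
  have e' := enc_inj e
  refine inv_mul_eq_one.1 (eq_one_of_red ?_)
  rw [red_mul, ← e', ← red_mul, inv_mul_cancel, red_one]

/-- The identity code. -/
def one24 : ℕ := pk (flat fun i k => if i = k then 1 else 0) 576

theorem code_one : code 1 = one24 := by
  rw [code, red_one, enc, one24]
  refine pk_congr _ fun l _ => ?_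
  simp only [flat, Matrix.one_apply]
  split <;> decide

/-- Matrices modulo 3 code any group of lattice automorphisms. -/
def coding {G : Type*} [Group G] (φ : G →* Co0) (hφ : Function.Injective φ) :
    SchurCert.Coding G cm one24 where
  code g := code (φ g)
  inj := code_inj.comp hφ
  map_one := by rw [map_one, code_one]
  map_mul a b := by rw [map_mul, code_mul]

end H97.Co0Code
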