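import Cfsg.Agent.H97.SchurCertGen

/-!
Linear algebra modulo 2 on bit masks, for multiplier certificates.
-/

set_option autoImplicit false

namespace H97.SchurCert

/-- The parity of the occurrences, as a mask. -/
def maskOf : List ℕ → ℕ
  | [] => 0
  | i :: l => Nat.xor (1 <<< i) (maskOf l)

/-- The sum of the masks of a combination. -/
def comboMask (masks : List ℕ) : List (ℕ × ℕ) → ℕ
  | [] => 0
  | (e, _) :: c => Nat.xor (masks.getD e 0) (comboMask masks c)

/-- The masks are the parities of the paths and each combination isolates its target. -/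
def combos2OK (D : Data) (masks : List ℕ) : Bool :=
  D.p == 2 && D.combos.length == D.targets.length &&
  ((List.range masks.length).all fun e =>
    ((pathVec D e).all fun i => decide (i < D.rules.length)) && maskOf (pathVec D e) == masks.getD e 0) &&
  let dm := maskOf (D.defs.map Prod.fst)
  ((List.range D.targets.length).all fun k =>
    decide (D.targets.getD k 0 < D.rules.length) &&
    comboMask masks (D.combos.getD k []) ||| dm == (1 <<< D.targets.getD k 0) ||| dm)

theorem testBit_maskOf (i : ℕ) : ∀ l : List ℕ, (maskOf l).testBit i = true → i ∈ l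
  | [], h => by simp [maskOf] at h
  | a :: l, h => by
    have h' : ((1 <<< a) ^^^ maskOf l).testBit i = true := h
    rw [Nat.testBit_xor, Nat.one_shiftLeft, Nat.testBit_two_pow] at h'
    by_cases ha : a = i
    · exact List.mem_cons.2 (Or.inl ha.symm)
    · simp only [ha, decide_false, Bool.false_bne] at h'
      exact List.mem_cons_of_mem _ (testBit_maskOf i l h')

theorem kill_of_masks {D : Data} {masks : List ℕ} (h : combos2OK D masks = true) :
    ∀ (K : Type) [CommGroup K] (Z : ℕ → K), (∀ i, Z i ^ D.p = 1) →
      (∀ d ∈ D.defs, Z d.1 = 1) → (∀ e, evG Z (pathVec D e) = 1) → ∀ t ∈ D.targets, Z t = 1 := by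
  intro K _ Z hexp hdef hpath
  simp only [combos2OK, Bool.and_eq_true, beq_iff_eq, List.all_eq_true, List.mem_range,
    decide_eq_true_eq] at h
  obtain ⟨⟨⟨hp, -⟩, hm⟩, hc⟩ := h
  rw [hp] at hexp
  let F : ℕ → K := fun a => ∏ i ∈ Finset.range D.rules.length, if a.testBit i then Z i else 1
  have hFx : ∀ a b, F (Nat.xor a b) = F a * F b := fun a b => by
    simp only [F, ← Finset.prod_mul_distrib]
    refine Finset.prod_congr rfl fun i _ => ?_
    rw [show Nat.xor a b = a ^^^ b from rfl, Nat.testBit_xor]
    have := hexp i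
    rw [pow_two] at this
    cases a.testBit i <;> cases b.testBit i <;> simp [this]
  have hF1 : ∀ i < D.rules.length, F (1 <<< i) = Z i := fun i hi => by
    simp only [F, Nat.one_shiftLeft, Nat.testBit_two_pow, decide_eq_true_eq]
    rw [Finset.prod_ite_eq, if_pos (Finset.mem_range.2 hi)]
  have hF0 : F 0 = 1 := Finset.prod_eq_one fun i _ => by rw [Nat.zero_testBit]; simp
  have hFv : ∀ v : List ℕ, (∀ i ∈ v, i < D.rules.length) → F (maskOf v) = evG Z v := by
    intro v
    induction v with
    | nil => intro _; rw [maskOf, hF0]; rfl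
    | cons a v ih =>
      intro hv
      rw [maskOf, hFx, hF1 a (hv a List.mem_cons_self), ih fun i hi => hv i (List.mem_cons_of_mem _ hi)]
      rfl
  have hFm : ∀ e, F (masks.getD e 0) = 1 := fun e => by
    by_cases he : e < masks.length
    · obtain ⟨h1, h2⟩ := hm e he
      rw [← h2, hFv _ h1, hpath]
    · rw [List.getD_eq_default _ _ (Nat.le_of_not_lt he), hF0]
  have hFc : ∀ c : List (ℕ × ℕ), F (comboMask masks c) = 1 := by
    intro c
    induction c with
    | nil => exact hF0
    | cons q c ih => rw [comboMask, hFx, hFm, ih, one_mul]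
  intro t ht
  obtain ⟨k, hk, rfl⟩ := List.getElem_of_mem ht
  obtain ⟨hlt, hor⟩ := hc k hk
  rw [List.getD_eq_getElem _ _ hk] at hlt hor
  refine Eq.trans ?_ (hFc (D.combos.getD k []))
  rw [← hF1 _ hlt]
  refine Finset.prod_congr rfl fun i _ => ?_
  by_cases hd : (maskOf (D.defs.map Prod.fst)).testBit i
  · obtain ⟨d, hd', rfl⟩ := List.mem_map.1 (testBit_maskOf _ _ hd)
    rw [hdef d hd']
    simp
  · have := congrArg (fun a : ℕ => a.testBit i) hor
    simp only [Nat.testBit_or, Bool.eq_false_iff.2 hd, Bool.or_false] at this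
    rw [this]

end H97.SchurCert
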