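import Cfsg.Agent.H97.SchurSporadic
import Cfsg.Agent.H97.SchurMasks

/-!
Lower bounds for orders of monomial subgroups from supports of matrices.
-/

set_option autoImplicit false

namespace H97.Co0Code

open Cfsg M24x SchurCert

/-- Entrywise squares. -/
def sqMat (A : Mat24) : Mat24 := Matrix.of fun i j => A i j * A i j

/-- Entrywise squares of codes. -/
def supp (N : ℕ) : ℕ := pk (fun l => dig N l * dig N l % 3) 576

theorem supp_enc (A : Mat24) : supp (enc A) = enc (sqMat A) := by
  refine pk_congr _ fun l hl => ?_
  rw [enc, dig_pk (flat fun i k => (A i k).val) _ _ (fun k _ => val_lt A _ _), if_pos hl]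
  simp only [flat, sqMat, Matrix.of_apply]
  rw [ZMod.val_mul]

theorem sqMat_mul (A D : Mat24) (hD : sqMat D = 1) : sqMat (A * D) = sqMat A := by
  ext i j
  have h : ∀ k l, D k l * D k l = if k = l then 1 else 0 := fun k l => by
    have := congrFun (congrFun hD k) l
    rwa [Matrix.one_apply] at this
  have h0 : ∀ k, k ≠ j → D k j = 0 := fun k hk => mul_self_eq_zero.1 (by rw [h, if_neg hk])
  simp only [sqMat, Matrix.of_apply, Matrix.mul_apply]
  rw [Finset.sum_eq_single j (fun k _ hk => by rw [h0 k hk, mul_zero])
    (fun hj => absurd (Finset.mem_univ j) hj)]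
  rw [mul_mul_mul_comm, h, if_pos rfl, mul_one]

/-- The tests: diagonal letters, words of distinct supports, words of distinct values. -/
def monoOK (D : Data) (ns : ℕ) (aW dW : List (List ℕ)) : Bool :=
  aW.length * dW.length == D.p ^ D.n &&
  ((List.range D.n).all fun i => decide (i < ns) || supp (D.syms.getD i one24) == one24) &&
  (aW.all fun w => w.all fun i => decide (i < D.n)) &&
  (dW.all fun w => w.all fun i => decide (ns ≤ i) && decide (i < D.n)) &&
  increasing (aW.map fun w => supp (evW cm one24 D.syms w)) &&
  increasing (dW.map fun w => evW cm one24 D.syms w)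

theorem big_of_mono {G : Type} [Group G] [Finite G] (φ : G →* Co0) (hφ : Function.Injective φ)
    (D : Data) {ns : ℕ} {aW dW : List (List ℕ)} (h : monoOK D ns aW dW = true) :
    ∀ val : ℕ → G, (∀ i, (coding φ hφ).code (val i) = D.syms.getD i one24) →
      D.p ^ D.n ≤ Nat.card (Subgroup.closure (val '' {k | k < D.n})) := by
  intro val hval
  simp only [monoOK, Bool.and_eq_true, beq_iff_eq, List.all_eq_true, List.mem_range,
    Bool.or_eq_true, decide_eq_true_eq] at h
  obtain ⟨⟨⟨⟨⟨hlen, hdiag⟩, haW⟩, hdW⟩, hA⟩, hB⟩ := h
  set C := coding φ hφ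
  set H := Subgroup.closure (val '' {k | k < D.n}) with hH
  have hev : ∀ w, code (φ (evG val w)) = evW cm one24 D.syms w := fun w =>
    evG_code C val D.syms w hval
  have hmem : ∀ w : List ℕ, (∀ i ∈ w, i < D.n) → evG val w ∈ H := fun w hw =>
    evG_mem (S := H.toSubmonoid) fun s hs => Subgroup.subset_closure ⟨s, hw s hs, rfl⟩
  have hred : ∀ g : G, supp (code (φ g)) = enc (sqMat (red (φ g))) := fun g => supp_enc _
  have hsq1 : sqMat (1 : Mat24) = 1 := by
    ext i j
    simp only [sqMat, Matrix.of_apply, Matrix.one_apply]
    split <;> simp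
  have hd : ∀ w : List ℕ, (∀ i ∈ w, ns ≤ i ∧ i < D.n) → sqMat (red (φ (evG val w))) = 1 := by
    intro w
    induction w with
    | nil => intro _; simp [evG, red_one, hsq1]
    | cons a w ih =>
      intro hw
      have ha := hw a List.mem_cons_self
      have ha' : sqMat (red (φ (val a))) = 1 := by
        refine enc_inj ?_
        rw [← hred, show code (φ (val a)) = D.syms.getD a one24 from hval a]
        rw [((hdiag a ha.2).resolve_left (by omega))]
        exact (code_one.symm.trans (by rw [code, red_one]))
      rw [show evG val (a :: w) = val a * evG val w by simp [evG], map_mul, red_mul,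
        sqMat_mul _ _ (ih fun i hi => hw i (List.mem_cons_of_mem _ hi)), ha']
  let f : Fin aW.length × Fin dW.length → H := fun q =>
    ⟨evG val aW[q.1.val] * evG val dW[q.2.val],
      mul_mem (hmem _ (haW _ (List.getElem_mem _)))
        (hmem _ fun i hi => (hdW _ (List.getElem_mem _) i hi).2)⟩
  have hf : Function.Injective f := by
    rintro ⟨a, b⟩ ⟨a', b'⟩ he
    have he' := congrArg Subtype.val he
    simp only [f] at he'
    have hs := congrArg (fun g : G => enc (sqMat (red (φ g)))) he'
    simp only [map_mul, red_mul, sqMat_mul _ _ (hd _ (hdW _ (List.getElem_mem _)))] at hs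
    rw [← hred, ← hred, hev, hev] at hs
    have haa : a = a' := by
      have hn := List.pairwise_iff_getElem.1 ((increasing_nodup _ hA).imp fun h => ne_of_lt h)
      by_contra hne
      rcases Nat.lt_or_gt_of_ne (fun e => hne (Fin.ext e)) with hl | hl
      · have := hn a.val a'.val (by simp) (by simp) hl
        simp only [List.getElem_map] at this
        exact this hs
      · have := hn a'.val a.val (by simp) (by simp) hl
        simp only [List.getElem_map] at this
        exact this hs.symm
    subst haa
    have hb := congrArg (fun g : G => code (φ g)) (mul_left_cancel he')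
    simp only [hev] at hb
    have hbb : b = b' := by
      have hn := List.pairwise_iff_getElem.1 ((increasing_nodup _ hB).imp fun h => ne_of_lt h)
      by_contra hne
      rcases Nat.lt_or_gt_of_ne (fun e => hne (Fin.ext e)) with hl | hl
      · have := hn b.val b'.val (by simp) (by simp) hl
        simp only [List.getElem_map] at this
        exact this hb
      · have := hn b'.val b.val (by simp) (by simp) hl
        simp only [List.getElem_map] at this
        exact this hb.symm
    rw [hbb]
  have := Nat.card_le_card_of_injective f hf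
  rwa [Nat.card_prod, Nat.card_fin, Nat.card_fin, hlen] at this

theorem not_dvd_of_cert2 {G Γ : Type} [Group G] [Finite G] [Group Γ] [Finite Γ]
    (φ : G →* Co0) (hφ : Function.Injective φ) {gens : List (List (List ℤ))}
    (hgens : ∀ E ∈ gens, ∃ g : G, code (φ g) = codeE E) {prog : List (ℕ × ℕ)} (D : Data)
    [Fact D.p.Prime]
    (h1 : (let S := slp (gens.map codeE) prog; D.syms.all fun v => S.contains v) = true)
    (h2 : rulesOK cm one24 D = true) (h3 : defsOK D = true) (h4 : pcOK D = true)
    {masks : List ℕ} (h5 : combos2OK D masks = true)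
    {ns : ℕ} {aW dW : List (List ℕ)} (h6 : monoOK D ns aW dW = true) {M : ℕ}
    (hcard : Nat.card G = D.p ^ D.n * M) (hM : ¬ D.p ∣ M) (σ : Γ →* G) (hσ : IsStemExtension σ) :
    ¬ D.p ∣ Nat.card σ.ker := by
  simp only [List.all_eq_true, List.contains_iff_mem] at h1
  refine not_dvd_card_ker_gen (coding φ hφ) D (fun v hv => ?_) h2 h3 h4 (kill_of_masks h5)
    (big_of_mono φ hφ D h6) hcard hM σ hσ
  exact slp_mem (coding φ hφ) (seeds := gens.map codeE) (fun w hw => by
    obtain ⟨E, hE, rfl⟩ := List.mem_map.1 hw
    exact hgens E hE) prog v (h1 v hv)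

end H97.Co0Code
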