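import Cfsg.Agent.H97.Co0Mono

/-!
Lower bounds for orders of monomial subgroups from four lists of elements.
-/

set_option autoImplicit false

namespace H97.Co0Code

open Cfsg M24x SchurCert

attribute [local irreducible] one24 cm supp

/-- The product of the `e`-th pair from two lists of codes. -/
def pairCode (xC yC : List ℕ) (e : ℕ) : ℕ :=
  cm (xC.getD (e / yC.length) one24) (yC.getD (e % yC.length) one24)

/-- The tests for a complement and a diagonal part, each the product of two lists. -/
def mono4OK (D : Data) (ns : ℕ) (a1 a2 d1 d2 : List (List ℕ)) (a1C a2C d1C d2C oA oD : List ℕ) :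
    Bool :=
  oA.length * oD.length == D.p ^ D.n &&
  ((List.range D.n).all fun i => decide (i < ns) || supp (D.syms.getD i one24) == one24) &&
  ((a1 ++ a2).all fun w => w.all fun i => decide (i < D.n)) &&
  ((d1 ++ d2).all fun w => w.all fun i => decide (ns ≤ i) && decide (i < D.n)) &&
  (a1.map fun w => evW cm one24 D.syms w) == a1C &&
  (a2.map fun w => evW cm one24 D.syms w) == a2C &&
  (d1.map fun w => evW cm one24 D.syms w) == d1C &&
  (d2.map fun w => evW cm one24 D.syms w) == d2C &&
  increasing (oA.map fun e => supp (pairCode a1C a2C e)) &&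
  increasing (oD.map fun e => pairCode d1C d2C e)

theorem inj_of_increasing {o : List ℕ} {c : ℕ → ℕ} (h : increasing (o.map c) = true)
    {a b : Fin o.length} (he : c o[a.val] = c o[b.val]) : a = b := by
  have hn := List.pairwise_iff_getElem.1 ((increasing_nodup _ h).imp fun h => ne_of_lt h)
  by_contra hne
  rcases Nat.lt_or_gt_of_ne (fun e => hne (Fin.ext e)) with hl | hl
  · have := hn a.val b.val (by simp) (by simp) hl
    simp only [List.getElem_map] at this
    exact this he
  · have := hn b.val a.val (by simp) (by simp) hl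
    simp only [List.getElem_map] at this
    exact this he.symm

theorem big_of_mono4 {G : Type} [Group G] [Finite G] (φ : G →* Co0) (hφ : Function.Injective φ)
    (D : Data) {ns : ℕ} {a1 a2 d1 d2 : List (List ℕ)} {a1C a2C d1C d2C oA oD : List ℕ}
    (h : mono4OK D ns a1 a2 d1 d2 a1C a2C d1C d2C oA oD = true) :
    ∀ val : ℕ → G, (∀ i, (coding φ hφ).code (val i) = D.syms.getD i one24) →
      D.p ^ D.n ≤ Nat.card (Subgroup.closure (val '' {k | k < D.n})) := by
  intro val hval
  simp only [mono4OK, Bool.and_eq_true, beq_iff_eq, List.all_eq_true, List.mem_range,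
    Bool.or_eq_true, decide_eq_true_eq, List.mem_append] at h
  obtain ⟨⟨⟨⟨⟨⟨⟨⟨⟨hlen, hdiag⟩, haW⟩, hdW⟩, hA1⟩, hA2⟩, hD1⟩, hD2⟩, hA⟩, hB⟩ := h
  set C := coding φ hφ
  set H := Subgroup.closure (val '' {k | k < D.n}) with hH
  have hev : ∀ w, code (φ (evG val w)) = evW cm one24 D.syms w := fun w =>
    evG_code C val D.syms w hval
  have hget : ∀ (W : List (List ℕ)) (Cs : List ℕ), (W.map fun w => evW cm one24 D.syms w) = Cs →
      ∀ k, code (φ (evG val (W.getD k []))) = Cs.getD k one24 := by
    rintro W Cs rfl k
    rw [hev]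
    by_cases hk : k < W.length
    · rw [List.getD_eq_getElem _ _ hk, List.getD_eq_getElem _ _ (by simpa using hk), List.getElem_map]
    · rw [List.getD_eq_default _ _ (Nat.le_of_not_lt hk),
        List.getD_eq_default _ _ (by simpa using Nat.le_of_not_lt hk), evW, List.foldl_nil]
  have hl : ∀ (W : List (List ℕ)) (P : ℕ → Prop), (∀ w ∈ W, ∀ i ∈ w, P i) →
      ∀ k, ∀ i ∈ W.getD k [], P i := by
    intro W P hW k i hi
    by_cases hk : k < W.length
    · rw [List.getD_eq_getElem _ _ hk] at hi; exact hW _ (List.getElem_mem hk) i hi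
    · rw [List.getD_eq_default _ _ (Nat.le_of_not_lt hk)] at hi; simp at hi
  have hmem : ∀ w : List ℕ, (∀ i ∈ w, i < D.n) → evG val w ∈ H := fun w hw =>
    evG_mem (S := H.toSubmonoid) fun s hs => Subgroup.subset_closure ⟨s, hw s hs, rfl⟩
  have hred : ∀ g : G, supp (code (φ g)) = enc (sqMat (red (φ g))) := fun g => supp_enc _
  have hsq1 : sqMat (1 : Mat24) = 1 := by
    ext i j
    simp only [sqMat, Matrix.of_apply, Matrix.one_apply]
    split <;> simp
  have hd : ∀ w : List ℕ, (∀ i ∈ w, ns ≤ i ∧ i < D.n) → sqMat (red (φ (evG val w))) = 1 := by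
    intro w
    induction w with
    | nil => intro _; simp [evG, red_one, hsq1]
    | cons a w ih =>
      intro hw
      have ha := hw a List.mem_cons_self
      have ha' : sqMat (red (φ (val a))) = 1 := by
        refine enc_inj ?_
        rw [← hred, show code (φ (val a)) = D.syms.getD a one24 from hval a]
        rw [((hdiag a ha.2).resolve_left (by omega))]
        exact (code_one.symm.trans (by rw [code, red_one]))
      rw [show evG val (a :: w) = val a * evG val w by simp [evG], map_mul, red_mul,
        sqMat_mul _ _ (ih fun i hi => hw i (List.mem_cons_of_mem _ hi)), ha']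
  let gA : ℕ → G := fun e => evG val (a1.getD (e / a2C.length) []) * evG val (a2.getD (e % a2C.length) [])
  let gD : ℕ → G := fun e => evG val (d1.getD (e / d2C.length) []) * evG val (d2.getD (e % d2C.length) [])
  have hgA : ∀ e, code (φ (gA e)) = pairCode a1C a2C e := fun e => by
    simp only [gA, map_mul, code_mul, hget a1 a1C hA1, hget a2 a2C hA2, pairCode]
  have hgD : ∀ e, code (φ (gD e)) = pairCode d1C d2C e := fun e => by
    simp only [gD, map_mul, code_mul, hget d1 d1C hD1, hget d2 d2C hD2, pairCode]
  have hdD : ∀ e, sqMat (red (φ (gD e))) = 1 := fun e => by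
    simp only [gD, map_mul, red_mul]
    rw [sqMat_mul _ _ (hd _ (hl d2 _ (fun w hw => hdW w (Or.inr hw)) _)),
      hd _ (hl d1 _ (fun w hw => hdW w (Or.inl hw)) _)]
  let f : Fin oA.length × Fin oD.length → H := fun q =>
    ⟨gA oA[q.1.val] * gD oD[q.2.val],
      mul_mem (mul_mem (hmem _ (hl a1 _ (fun w hw => haW w (Or.inl hw)) _))
          (hmem _ (hl a2 _ (fun w hw => haW w (Or.inr hw)) _)))
        (mul_mem (hmem _ fun i hi => (hl d1 _ (fun w hw => hdW w (Or.inl hw)) _ i hi).2)
          (hmem _ fun i hi => (hl d2 _ (fun w hw => hdW w (Or.inr hw)) _ i hi).2))⟩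
  have hf : Function.Injective f := by
    rintro ⟨a, b⟩ ⟨a', b'⟩ he
    have he' := congrArg Subtype.val he
    simp only [f] at he'
    have hs := congrArg (fun g : G => enc (sqMat (red (φ g)))) he'
    simp only [map_mul φ (gA _) (gD _), red_mul, sqMat_mul _ _ (hdD _)] at hs
    rw [← hred, ← hred, hgA, hgA] at hs
    have haa : a = a' := inj_of_increasing (c := fun e => supp (pairCode a1C a2C e)) hA hs
    subst haa
    have hb := congrArg (fun g : G => code (φ g)) (mul_left_cancel he')
    simp only [hgD] at hb
    rw [inj_of_increasing (c := fun e => pairCode d1C d2C e) hB hb]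
  have := Nat.card_le_card_of_injective f hf
  rwa [Nat.card_prod, Nat.card_fin, Nat.card_fin, hlen] at this

end H97.Co0Code
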