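import Cfsg.Agent.H97.Co0Mono

/-!
Lower bounds for orders of subgroups from products of two lists of elements.
-/

set_option autoImplicit false

namespace H97.Co0Code

open Cfsg M24x SchurCert

attribute [local irreducible] one24 cm

/-- The tests: the two lists are values of words, and the products are pairwise distinct. -/
def pairOK (D : Data) (aW bW : List (List ℕ)) (aC bC order : List ℕ) : Bool :=
  order.length == D.p ^ D.n &&
  (aW.all fun w => w.all fun i => decide (i < D.n)) &&
  (bW.all fun w => w.all fun i => decide (i < D.n)) &&
  (aW.map fun w => evW cm one24 D.syms w) == aC &&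
  (bW.map fun w => evW cm one24 D.syms w) == bC &&
  increasing (order.map fun e => cm (aC.getD (e / bC.length) one24) (bC.getD (e % bC.length) one24))

theorem big_of_pair {G : Type} [Group G] [Finite G] (φ : G →* Co0) (hφ : Function.Injective φ)
    (D : Data) {aW bW : List (List ℕ)} {aC bC order : List ℕ}
    (h : pairOK D aW bW aC bC order = true) :
    ∀ val : ℕ → G, (∀ i, (coding φ hφ).code (val i) = D.syms.getD i one24) →
      D.p ^ D.n ≤ Nat.card (Subgroup.closure (val '' {k | k < D.n})) := by
  intro val hval
  simp only [pairOK, Bool.and_eq_true, beq_iff_eq, List.all_eq_true, decide_eq_true_eq] at h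
  obtain ⟨⟨⟨⟨⟨hlen, haW⟩, hbW⟩, hA⟩, hB⟩, hinc⟩ := h
  set C := coding φ hφ
  set H := Subgroup.closure (val '' {k | k < D.n}) with hH
  have hev : ∀ w, C.code (evG val w) = evW cm one24 D.syms w := fun w =>
    evG_code C val D.syms w hval
  have hmem : ∀ (W : List (List ℕ)), (∀ w ∈ W, ∀ i ∈ w, i < D.n) → ∀ k, evG val (W.getD k []) ∈ H := by
    intro W hW k
    refine evG_mem (S := H.toSubmonoid) fun s hs => Subgroup.subset_closure ⟨s, ?_, rfl⟩
    by_cases hk : k < W.length
    · rw [List.getD_eq_getElem _ _ hk] at hs; exact hW _ (List.getElem_mem hk) s hs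
    · rw [List.getD_eq_default _ _ (Nat.le_of_not_lt hk)] at hs; simp at hs
  have hget : ∀ (W : List (List ℕ)) (Cs : List ℕ), (W.map fun w => evW cm one24 D.syms w) = Cs →
      ∀ k, C.code (evG val (W.getD k [])) = Cs.getD k one24 := by
    rintro W Cs rfl k
    rw [hev]
    by_cases hk : k < W.length
    · rw [List.getD_eq_getElem _ _ hk, List.getD_eq_getElem _ _ (by simpa using hk), List.getElem_map]
    · rw [List.getD_eq_default _ _ (Nat.le_of_not_lt hk),
        List.getD_eq_default _ _ (by simpa using Nat.le_of_not_lt hk), evW, List.foldl_nil]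
  let f : Fin order.length → H := fun q =>
    ⟨evG val (aW.getD (order[q.val] / bC.length) []) * evG val (bW.getD (order[q.val] % bC.length) []),
      mul_mem (hmem _ haW _) (hmem _ hbW _)⟩
  have hf : Function.Injective f := by
    intro a b he
    have he' := congrArg (fun x : H => C.code x.1) he
    simp only [f, C.map_mul, hget aW aC hA, hget bW bC hB] at he'
    have hn := List.pairwise_iff_getElem.1 ((increasing_nodup _ hinc).imp fun h => ne_of_lt h)
    by_contra hne
    rcases Nat.lt_or_gt_of_ne (fun e => hne (Fin.ext e)) with hl | hl
    · have := hn a.val b.val (by simp) (by simp) hl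
      simp only [List.getElem_map] at this
      exact this he'
    · have := hn b.val a.val (by simp) (by simp) hl
      simp only [List.getElem_map] at this
      exact this he'.symm
  have := Nat.card_le_card_of_injective f hf
  rwa [Nat.card_fin, hlen] at this

end H97.Co0Code
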