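import Cfsg.Agent.H95.Co1Simple
import Cfsg.Agent.H95.Co0Centre

/-! The automorphism group of the lattice is perfect. -/

set_option autoImplicit false

namespace H97.Co0Code

open Cfsg H95
open scoped commutatorElement

theorem co0_perfect : commutator Co0 = ⊤ := by
  rcases normal_cases (N := commutator Co0) inferInstance with h | h
  · exact h
  exfalso
  haveI : Finite Co0 := co0_finite
  obtain ⟨hs, hc⟩ := isCo1_quot
  haveI := hs
  have hcomm : ∀ a b : Co0 ⧸ Subgroup.center Co0, a * b = b * a := by
    intro a b
    induction a using QuotientGroup.induction_on with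
    | _ x =>
      induction b using QuotientGroup.induction_on with
      | _ y =>
        rw [← QuotientGroup.mk_mul, ← QuotientGroup.mk_mul, QuotientGroup.eq]
        refine h ?_
        rw [show (x * y)⁻¹ * (y * x) = ⁅y⁻¹, x⁻¹⁆ by rw [commutatorElement_def]; group]
        exact Subgroup.commutator_mem_commutator (Subgroup.mem_top _) (Subgroup.mem_top _)
  letI : CommGroup (Co0 ⧸ Subgroup.center Co0) :=
    { (inferInstance : Group (Co0 ⧸ Subgroup.center Co0)) with mul_comm := hcomm }
  have hp := IsSimpleGroup.prime_card (α := Co0 ⧸ Subgroup.center Co0)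
  rw [hc] at hp
  exact absurd hp (fun hp => by
    have := (Nat.prime_dvd_prime_iff_eq Nat.prime_two hp).1 (by norm_num)
    norm_num at this)

end H97.Co0Code
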