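import Cfsg.Agent.H97.Co0Code
import Cfsg.Agent.H97.SchurMathieu

/-!
Straight-line programs over coded lattice automorphisms, and stabilisers.
-/

set_option autoImplicit false

namespace H97.Co0Code

open Cfsg H95 M24x SchurCert

/-- Values of a straight-line program: each step multiplies two earlier values. -/
def slp (seeds : List ℕ) (prog : List (ℕ × ℕ)) : List ℕ :=
  (prog.foldl (fun acc q => cm (acc.getD (acc.length - 1 - q.1) one24)
    (acc.getD (acc.length - 1 - q.2) one24) :: acc) seeds.reverse).reverse

theorem slp_mem {G : Type*} [Group G] (C : Coding G cm one24) {seeds : List ℕ}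
    (hs : ∀ v ∈ seeds, ∃ g : G, C.code g = v) (prog : List (ℕ × ℕ)) :
    ∀ v ∈ slp seeds prog, ∃ g : G, C.code g = v := by
  have get : ∀ (acc : List ℕ), (∀ v ∈ acc, ∃ g : G, C.code g = v) →
      ∀ k, ∃ g : G, C.code g = acc.getD k one24 := by
    intro acc h k
    by_cases hk : k < acc.length
    · rw [List.getD_eq_getElem _ _ hk]; exact h _ (List.getElem_mem hk)
    · rw [List.getD_eq_default _ _ (Nat.le_of_not_lt hk)]; exact ⟨1, C.map_one⟩
  have key : ∀ (prog : List (ℕ × ℕ)) (acc : List ℕ), (∀ v ∈ acc, ∃ g : G, C.code g = v) →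
      ∀ v ∈ prog.foldl (fun acc q => cm (acc.getD (acc.length - 1 - q.1) one24)
        (acc.getD (acc.length - 1 - q.2) one24) :: acc) acc, ∃ g : G, C.code g = v := by
    intro prog
    induction prog with
    | nil => intro acc h; exact h
    | cons q prog ih =>
      intro acc h
      rw [List.foldl_cons]
      refine ih _ fun v hv => ?_
      rcases List.mem_cons.1 hv with rfl | hv
      · obtain ⟨a, ha⟩ := get acc h (acc.length - 1 - q.1)
        obtain ⟨b, hb⟩ := get acc h (acc.length - 1 - q.2)
        exact ⟨a * b, by rw [C.map_mul, ha, hb]⟩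
      · exact h v hv
  intro v hv
  rw [slp, List.mem_reverse] at hv
  exact key prog seeds.reverse (fun w hw => hs w (List.mem_reverse.1 hw)) v hv

/-- The code of an element given by a matrix. -/
def codeE (E : List (List ℤ)) : ℕ :=
  pk (flat fun i k => (2 * (E.getD i.val []).getD k.val 0 % 3).toNat) 576

theorem code_elt (D : MatData) : code D.elt = codeE D.E := by
  rw [code, enc, codeE]
  refine pk_congr _ fun l _ => ?_
  simp only [flat]
  generalize Fin.ofNat 24 (l / 24) = i
  generalize Fin.ofNat 24 l = k
  have h : img8 D.elt (H90.pt i) (H90.pt k) = (D.E.getD i.val []).getD k.val 0 := by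
    unfold img8
    rw [MatData.elt_apply, mulE_eq, Finset.sum_eq_single (H90.pt k)
      (fun q _ hq => by simp only [eight]; rw [Pi.single_eq_of_ne hq, mul_zero])
      (fun h => absurd (Finset.mem_univ _) h)]
    simp only [eight, Pi.single_eq_same, entryL, H90.idx_pt]
    exact Int.mul_ediv_cancel _ (by norm_num)
  simp only [red, Matrix.of_apply, h]
  generalize (D.E.getD i.val []).getD k.val 0 = a
  have h2 : 2 * (a : ZMod 3) = ((2 * a : ℤ) : ZMod 3) := by push_cast; rfl
  rw [h2]
  have := ZMod.val_intCast (n := 3) (2 * a)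
  omega

/-- A matrix fixing a vector. -/
def fixesL (E : List (List ℤ)) (v : List ℤ) : Bool := applyL E v == v

theorem smul_elt_eq (D : MatData) {v : leechLattice}
    (h : fixesL D.E (vecL (v : GolayPt → ℤ)) = true) : D.elt • v = v :=
  eq_of_vecL ((D.vecL_elt v).trans (beq_iff_eq.1 h))

end H97.Co0Code
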