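import Cfsg.Agent.H97.SchurMasks

/-!
An evaluation of certificate paths that keeps the intermediate words in normal form, and linear
algebra modulo `p` on vectors, for use in kernel computations.
-/

set_option autoImplicit false

namespace H97.SchurCert

/-- Rebuild the spine of a list before continuing. -/
def forceL {β : Type} : List ℕ → (List ℕ → β) → β
  | [], k => k []
  | a :: l, k => forceL l fun l' => k (a :: l')

theorem forceL_eq {β : Type} : ∀ (l : List ℕ) (k : List ℕ → β), forceL l k = k l
  | [], _ => rfl
  | a :: l, k => forceL_eq l _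

/-- `runPath` with forced words. -/
def runPathF (D : Data) : List (ℕ × ℕ × Bool) → List ℕ → Option (List ℕ × List ℕ)
  | [], w => some (w, [])
  | (t, r, fwd) :: rest, w =>
    if (w.drop t).take (if fwd then (ruleAt D r).1 else (ruleAt D r).2).length ==
        (if fwd then (ruleAt D r).1 else (ruleAt D r).2) then
      forceL (w.take t ++ (if fwd then (ruleAt D r).2 else (ruleAt D r).1) ++
          w.drop (t + (if fwd then (ruleAt D r).1 else (ruleAt D r).2).length)) fun w' =>
        (runPathF D rest w').map fun q => (q.1, List.replicate (if fwd then 1 else D.p - 1) r ++ q.2)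
    else none

theorem runPathF_eq (D : Data) : ∀ (s : List (ℕ × ℕ × Bool)) (w : List ℕ),
    runPathF D s w = runPath D s w
  | [], _ => rfl
  | (t, r, fwd) :: rest, w => by simp only [runPathF, runPath, forceL_eq, runPathF_eq D rest]

/-- `pathVec` with forced words. -/
def pathVecF (D : Data) (e : ℕ) : List ℕ :=
  match D.paths.getD e ([], []) with
  | (w, steps) => match runPathF D steps w with
    | some (w', v) => if w' == w then v else []
    | none => []

theorem pathVecF_eq (D : Data) (e : ℕ) : pathVecF D e = pathVec D e := by
  unfold pathVecF pathVec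
  rcases D.paths.getD e ([], []) with ⟨w, steps⟩
  simp only [runPathF_eq]
  cases runPath D steps w <;> rfl

/-- The vector of multiplicities modulo `p`. -/
def vecOf (D : Data) (v : List ℕ) : List ℕ :=
  (List.range D.rules.length).map fun i => v.count i % D.p

/-- The given vectors are those of the paths. -/
def vecsOK (D : Data) (vecs : List (List ℕ)) (es : List ℕ) : Bool :=
  es.all fun e => forceL (pathVecF D e) fun v =>
    (v.all fun i => decide (i < D.rules.length)) && vecOf D v == vecs.getD e []

/-- A coordinate of a combination. -/
def coordOf (vecs : List (List ℕ)) (c : List (ℕ × ℕ)) (i : ℕ) : ℕ :=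
  c.foldr (fun q acc => q.2 * (vecs.getD q.1 []).getD i 0 + acc) 0

/-- Each combination isolates its target. -/
def combosVOK (D : Data) (vecs : List (List ℕ)) : Bool :=
  D.combos.length == D.targets.length && (List.range D.targets.length).all fun k =>
    decide (D.targets.getD k 0 < D.rules.length) &&
    (List.range D.rules.length).all fun i => D.defs.any (fun d => d.1 == i) ||
      coordOf vecs (D.combos.getD k []) i % D.p == if i == D.targets.getD k 0 then 1 else 0

theorem kill_of_vecs {D : Data} {vecs : List (List ℕ)} (hc : combosVOK D vecs = true)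
    (hv : ∀ e < vecs.length, vecsOK D vecs [e] = true) :
    ∀ (K : Type) [CommGroup K] (Z : ℕ → K), (∀ i, Z i ^ D.p = 1) →
      (∀ d ∈ D.defs, Z d.1 = 1) → (∀ e, evG Z (pathVec D e) = 1) → ∀ t ∈ D.targets, Z t = 1 := by
  classical
  intro K _ Z hexp hdef hpath
  let nr := D.rules.length
  let F : (ℕ → ℕ) → K := fun a => ∏ i ∈ Finset.range nr, Z i ^ a i
  have hF1 : ∀ e, F (fun i => (vecs.getD e []).getD i 0) = 1 := by
    intro e
    by_cases he : e < vecs.length
    · have h := hv e he
      simp only [vecsOK, forceL_eq, pathVecF_eq, List.all_cons, List.all_nil, Bool.and_true,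
        Bool.and_eq_true, beq_iff_eq, List.all_eq_true, decide_eq_true_eq] at h
      obtain ⟨h1, h2⟩ := h
      refine Eq.trans ?_ (hpath e)
      rw [evG, Finset.prod_list_map_count,
        Finset.prod_subset (s₂ := Finset.range nr)
          (fun i hi => Finset.mem_range.2 (h1 i (List.mem_toFinset.1 hi)))
          (fun i _ hi => by
            rw [List.count_eq_zero.2 (fun h => hi (List.mem_toFinset.2 h)), pow_zero])]
      refine Finset.prod_congr rfl fun i hi => ?_
      simp only []
      rw [← h2, List.getD_eq_getElem _ _ (by simpa [vecOf] using Finset.mem_range.1 hi)]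
      simp only [vecOf, List.getElem_map, List.getElem_range]
      exact (pow_eq_pow_mod _ (hexp i)).symm
    · simp only [F]
      rw [List.getD_eq_default _ _ (Nat.le_of_not_lt he)]
      simp
  have hFc : ∀ c, F (coordOf vecs c) = 1 := by
    intro c
    induction c with
    | nil => simp [F, coordOf]
    | cons q c ih =>
      have e : F (coordOf vecs (q :: c)) =
          F (fun i => (vecs.getD q.1 []).getD i 0) ^ q.2 * F (coordOf vecs c) := by
        simp only [F, ← Finset.prod_pow, ← Finset.prod_mul_distrib, ← pow_mul, ← pow_add]
        refine Finset.prod_congr rfl fun i _ => ?_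
        congr 1
        simp only [coordOf, List.foldr_cons]
        ring
      rw [e, hF1, ih, one_pow, one_mul]
  intro t ht
  obtain ⟨k, hk, rfl⟩ := List.getElem_of_mem ht
  simp only [combosVOK, Bool.and_eq_true, beq_iff_eq, List.all_eq_true, List.mem_range,
    decide_eq_true_eq, Bool.or_eq_true, List.any_eq_true] at hc
  obtain ⟨hlt, hco⟩ := hc.2 k hk
  rw [List.getD_eq_getElem _ _ hk] at hlt
  simp only [List.getD_eq_getElem D.targets 0 hk] at hco
  refine Eq.trans ?_ (hFc (D.combos.getD k []))
  have key : ∀ i < nr, Z i ^ coordOf vecs (D.combos.getD k []) i =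
      if i = D.targets[k] then Z i else 1 := by
    intro i hi
    rcases hco i hi with ⟨d, hd, rfl⟩ | h
    · rw [hdef d hd, one_pow]; simp
    · rw [pow_eq_pow_mod _ (hexp i), h]
      split <;> simp
  simp only [F]
  rw [Finset.prod_congr rfl fun i hi => key i (Finset.mem_range.1 hi), Finset.prod_ite_eq',
    if_pos (Finset.mem_range.2 hlt)]

/-- The given masks are those of the paths. -/
def masksOKF (D : Data) (masks es : List ℕ) : Bool :=
  es.all fun e => forceL (pathVecF D e) fun v =>
    (v.all fun i => decide (i < D.rules.length)) && maskOf v == masks.getD e 0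

/-- The combinations of masks isolate their targets. -/
def combosMOK (D : Data) (masks : List ℕ) : Bool :=
  D.p == 2 && D.combos.length == D.targets.length &&
  let dm := maskOf (D.defs.map Prod.fst)
  ((List.range D.targets.length).all fun k =>
    decide (D.targets.getD k 0 < D.rules.length) &&
    comboMask masks (D.combos.getD k []) ||| dm == (1 <<< D.targets.getD k 0) ||| dm)

theorem combos2OK_of_parts {D : Data} {masks : List ℕ} (hc : combosMOK D masks = true)
    (hv : ∀ e < masks.length, ∃ es, e ∈ es ∧ masksOKF D masks es = true) :
    combos2OK D masks = true := by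
  simp only [combosMOK, Bool.and_eq_true] at hc
  simp only [combos2OK, Bool.and_eq_true]
  refine ⟨⟨hc.1, ?_⟩, hc.2⟩
  rw [List.all_eq_true]
  intro e he
  obtain ⟨es, hes, h⟩ := hv e (List.mem_range.1 he)
  simp only [masksOKF, List.all_eq_true, forceL_eq, pathVecF_eq] at h
  exact h e hes

theorem vecsOK_of_all {D : Data} {vecs : List (List ℕ)} {es : List ℕ}
    (h : vecsOK D vecs es = true) {e : ℕ} (he : e ∈ es) : vecsOK D vecs [e] = true := by
  simp only [vecsOK, List.all_eq_true, List.mem_singleton] at h ⊢
  rintro x rfl
  exact h x he

end H97.SchurCert
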