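import Cfsg.Agent.H97.Co0Mono
import Cfsg.Agent.H97.SchurRun
import Cfsg.Agent.H97.Co0Zdata2

/-! The certificate of Co0 at the prime 2. -/

set_option autoImplicit false
set_option maxRecDepth 100000
set_option Elab.async false

namespace H97.Co0Code.Z2

open Cfsg M24x SchurCert

theorem gens_ok : mats.all (fun E => genOK E []) = true := by decide +kernel
theorem syms_ok : (let S := slp (mats.map codeE) []; data.syms.all fun v => S.contains v) = true := by
  decide +kernel
theorem rules_ok : rulesOK cm one24 data = true := by decide +kernel
theorem defs_ok : defsOK data = true := by decide +kernel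
theorem pc_ok : pcOK data = true := by decide +kernel
theorem paths0 : masksOKF data masks (List.range' 0 24) = true := by decide +kernel
theorem paths24 : masksOKF data masks (List.range' 24 24) = true := by decide +kernel
theorem paths48 : masksOKF data masks (List.range' 48 24) = true := by decide +kernel
theorem paths72 : masksOKF data masks (List.range' 72 24) = true := by decide +kernel
theorem paths96 : masksOKF data masks (List.range' 96 24) = true := by decide +kernel
theorem paths120 : masksOKF data masks (List.range' 120 24) = true := by decide +kernel
theorem paths144 : masksOKF data masks (List.range' 144 24) = true := by decide +kernel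
theorem paths168 : masksOKF data masks (List.range' 168 24) = true := by decide +kernel
theorem paths192 : masksOKF data masks (List.range' 192 24) = true := by decide +kernel
theorem paths216 : masksOKF data masks (List.range' 216 24) = true := by decide +kernel
theorem paths240 : masksOKF data masks (List.range' 240 24) = true := by decide +kernel
theorem len_ok : masks.length = 264 := by decide +kernel
theorem combos_ok : combosMOK data masks = true := by decide +kernel

/-- the paths are split in blocks of 24 -/
theorem paths_ok : ∀ e < masks.length, ∃ es, e ∈ es ∧ masksOKF data masks es = true := by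
  intro e he
  rw [len_ok] at he
  by_cases h0 : e < 24
  · exact ⟨_, List.mem_range'_1.2 (by omega), paths0⟩
  by_cases h24 : e < 48
  · exact ⟨_, List.mem_range'_1.2 (by omega), paths24⟩
  by_cases h48 : e < 72
  · exact ⟨_, List.mem_range'_1.2 (by omega), paths48⟩
  by_cases h72 : e < 96
  · exact ⟨_, List.mem_range'_1.2 (by omega), paths72⟩
  by_cases h96 : e < 120
  · exact ⟨_, List.mem_range'_1.2 (by omega), paths96⟩
  by_cases h120 : e < 144
  · exact ⟨_, List.mem_range'_1.2 (by omega), paths120⟩
  by_cases h144 : e < 168
  · exact ⟨_, List.mem_range'_1.2 (by omega), paths144⟩
  by_cases h168 : e < 192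
  · exact ⟨_, List.mem_range'_1.2 (by omega), paths168⟩
  by_cases h192 : e < 216
  · exact ⟨_, List.mem_range'_1.2 (by omega), paths192⟩
  by_cases h216 : e < 240
  · exact ⟨_, List.mem_range'_1.2 (by omega), paths216⟩
  exact ⟨_, List.mem_range'_1.2 (by omega), paths240⟩

end H97.Co0Code.Z2
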