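import Cfsg.Agent.H97.Co0Pair
import Cfsg.Agent.H97.SchurRun
import Cfsg.Agent.H97.Co0Zdata3

/-! The certificate of Co0 at the prime 3. -/

set_option autoImplicit false
set_option maxRecDepth 100000
set_option Elab.async false

namespace H97.Co0Code.Z3

open Cfsg M24x SchurCert

theorem gens_ok : mats.all (fun E => genOK E []) = true := by decide +kernel
theorem syms_ok : (let S := slp (mats.map codeE) []; data.syms.all fun v => S.contains v) = true := by
  decide +kernel
theorem rules_ok : rulesOK cm one24 data = true := by decide +kernel
theorem defs_ok : defsOK data = true := by decide +kernel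
theorem pc_ok : pcOK data = true := by decide +kernel
theorem paths0 : vecsOK data vecs (List.range' 0 4) = true := by decide +kernel
theorem paths4 : vecsOK data vecs (List.range' 4 4) = true := by decide +kernel
theorem paths8 : vecsOK data vecs (List.range' 8 4) = true := by decide +kernel
theorem paths12 : vecsOK data vecs (List.range' 12 4) = true := by decide +kernel
theorem paths16 : vecsOK data vecs (List.range' 16 4) = true := by decide +kernel
theorem paths20 : vecsOK data vecs (List.range' 20 4) = true := by decide +kernel
theorem paths24 : vecsOK data vecs (List.range' 24 4) = true := by decide +kernel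
theorem paths28 : vecsOK data vecs (List.range' 28 4) = true := by decide +kernel
theorem paths32 : vecsOK data vecs (List.range' 32 4) = true := by decide +kernel
theorem paths36 : vecsOK data vecs (List.range' 36 4) = true := by decide +kernel
theorem paths40 : vecsOK data vecs (List.range' 40 3) = true := by decide +kernel
theorem len_ok : vecs.length = 43 := by decide +kernel
theorem combos_ok : combosVOK data vecs = true := by decide +kernel

/-- the paths are split in blocks of 4 -/
theorem paths_ok : ∀ e < vecs.length, ∃ es, e ∈ es ∧ vecsOK data vecs es = true := by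
  intro e he
  rw [len_ok] at he
  by_cases h0 : e < 4
  · exact ⟨_, List.mem_range'_1.2 (by omega), paths0⟩
  by_cases h4 : e < 8
  · exact ⟨_, List.mem_range'_1.2 (by omega), paths4⟩
  by_cases h8 : e < 12
  · exact ⟨_, List.mem_range'_1.2 (by omega), paths8⟩
  by_cases h12 : e < 16
  · exact ⟨_, List.mem_range'_1.2 (by omega), paths12⟩
  by_cases h16 : e < 20
  · exact ⟨_, List.mem_range'_1.2 (by omega), paths16⟩
  by_cases h20 : e < 24
  · exact ⟨_, List.mem_range'_1.2 (by omega), paths20⟩
  by_cases h24 : e < 28
  · exact ⟨_, List.mem_range'_1.2 (by omega), paths24⟩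
  by_cases h28 : e < 32
  · exact ⟨_, List.mem_range'_1.2 (by omega), paths28⟩
  by_cases h32 : e < 36
  · exact ⟨_, List.mem_range'_1.2 (by omega), paths32⟩
  by_cases h36 : e < 40
  · exact ⟨_, List.mem_range'_1.2 (by omega), paths36⟩
  exact ⟨_, List.mem_range'_1.2 (by omega), paths40⟩

end H97.Co0Code.Z3
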