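import Cfsg.Agent.H97.SchurSporadic
import Cfsg.Agent.H97.Co0Zdata5
import Cfsg.Agent.H97.Co0Zdata7

/-! The certificates of Co0 at the primes 5 and 7. -/

set_option autoImplicit false
set_option maxRecDepth 100000

namespace H97.Co0Code

open Cfsg M24x SchurCert

theorem Z5.gens_ok : Z5.mats.all (fun E => genOK E []) = true := by decide +kernel
theorem Z5.cert : certOK Z5.mats [] Z5.data = true := by decide +kernel
theorem Z7.gens_ok : Z7.mats.all (fun E => genOK E []) = true := by decide +kernel
theorem Z7.cert : certOK Z7.mats [] Z7.data = true := by decide +kernel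

end H97.Co0Code
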