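import Cfsg.Agent.H97.Co0Mono4
import Cfsg.Agent.H97.Co0Zdata2

/-! The Sylow 2-subgroup of Co0 has order at least 2^22. -/

set_option autoImplicit false
set_option maxRecDepth 100000

namespace H97.Co0Code.Z2

open Cfsg M24x SchurCert

theorem mono_ok :
    mono4OK data 10 a1W a2W d1W d2W a1C a2C d1C d2C aOrder dOrder = true := by
  decide +kernel

end H97.Co0Code.Z2
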