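import Cfsg.Agent.H97.Co0Pair
import Cfsg.Agent.H97.Co0Zdata3

/-! The Sylow 3-subgroup of Co0 has order at least 3^9. -/

set_option autoImplicit false
set_option maxRecDepth 100000

namespace H97.Co0Code.Z3

open Cfsg M24x SchurCert

theorem pair_ok : pairOK data aWords bWords aCodes bCodes order = true := by decide +kernel

end H97.Co0Code.Z3
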