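import Cfsg.Agent.H97.Co0Mono
import Cfsg.Agent.H97.Co0DataCo2

/-! The certificate of Co2 at the prime 2. -/

set_option autoImplicit false
set_option maxRecDepth 100000

namespace H97.Co0Code.Co2

open Cfsg M24x SchurCert

/-- the generators -/
def gens : List (List (List ℤ)) := [gen0, gen1, gen2, gen3]

theorem syms2 : (let S := slp (gens.map codeE) prog; data2.syms.all fun v => S.contains v) = true := by
  decide +kernel

theorem rules2 : rulesOK cm one24 data2 = true := by decide +kernel
theorem defs2 : defsOK data2 = true := by decide +kernel
theorem pc2 : pcOK data2 = true := by decide +kernel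
theorem combos2 : combos2OK data2 masks2 = true := by decide +kernel
theorem mono2 : monoOK data2 8 aWords2 dWords2 = true := by decide +kernel

end H97.Co0Code.Co2
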