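import Cfsg.Agent.H97.SchurSporadic
import Cfsg.Agent.H97.Co0DataCo2

/-! The certificates of Co2 at the primes 3 and 5. -/

set_option autoImplicit false
set_option maxRecDepth 100000

namespace H97.Co0Code.Co2

open Cfsg M24x SchurCert

theorem cert3 : certOK [gen0, gen1, gen2, gen3] prog data3 = true := by decide +kernel
theorem cert5 : certOK [gen0, gen1, gen2, gen3] prog data5 = true := by decide +kernel

end H97.Co0Code.Co2
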