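import Cfsg.Agent.H97.J1Enum
import Cfsg.Agent.H97.J1ClassData

/-!
Every element of J₁ is conjugate to one of fifteen explicit representatives; element orders.
-/

set_option maxRecDepth 100000

namespace H97

namespace J1

open Cfsg.Spor

/-- Class representative `c`. -/
def cc (c : ℕ) : ℕ := cm (hc (look 5 classTab c / 1596)) (rc (look 5 classTab c % 1596))

def dcRep (d : ℕ) : ℕ := look 10 dcRepTab d

def dcOK (i : ℕ) : Bool :=
  decide (look 40 dcTab i / 19 / 110 < 110) &&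
    cm (hc (look 40 dcTab i / 19 / 110)) (rc i) ==
      cm (rc (dcRep (look 40 dcTab i % 19))) (hc (look 40 dcTab i / 19 % 110))

def conjOK (e : ℕ) : Bool :=
  decide (look 40 conjTab e / 1596 / 110 < 15) && decide (dcRep (e / 110) < 1596) &&
    cm (cm (hc (e % 110)) (rc (dcRep (e / 110))))
        (cm (hc (look 40 conjTab e / 1596 % 110)) (rc (look 40 conjTab e % 1596))) ==
      cm (cm (hc (look 40 conjTab e / 1596 % 110)) (rc (look 40 conjTab e % 1596)))
        (cc (look 40 conjTab e / 1596 / 110))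

/-- The orders of the representatives. -/
def classOrd : List ℕ := [1, 2, 5, 10, 5, 10, 11, 7, 19, 19, 15, 6, 3, 19, 15]

/-- `pw c n` is the code of the `n`-th power. -/
def pw (c : ℕ) : ℕ → ℕ
  | 0 => cOne
  | n + 1 => cm (pw c n) c

def ordOK (c : ℕ) : Bool :=
  decide (look 5 classTab c / 1596 < 110) && decide (0 < classOrd.getD c 0) &&
    pw (cc c) (classOrd.getD c 0) == cOne &&
    allB (classOrd.getD c 0) fun m => m == 0 || !(pw (cc c) m == cOne)

theorem dcOK_all : allB 1596 dcOK = true := by decide +kernel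
theorem conjOK_all : allB 2090 conjOK = true := by decide +kernel
theorem ordOK_all : allB 15 ordOK = true := by decide +kernel

theorem inJ_cc (c : ℕ) (hc' : c < 15) : InJ (cc c) := by
  have h := allB_spec ordOK_all c hc'
  simp only [ordOK, Bool.and_eq_true, decide_eq_true_eq] at h
  exact (inJ_hc _ h.1.1.1).mul (inJ_rc _ (Nat.mod_lt _ (by norm_num)))

/-- The representative of class `c` as an element of J₁. -/
noncomputable def classRep (c : Fin 15) : J1 :=
  ⟨(inJ_cc c c.isLt).choose, (inJ_cc c c.isLt).choose_spec.1⟩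

theorem encG_classRep (c : Fin 15) : encG (classRep c : GL (Fin 7) (ZMod 11)) = cc c :=
  (inJ_cc c c.isLt).choose_spec.2

theorem inv_mem_table (x : GL (Fin 7) (ZMod 11)) (h : ∃ a < 110, encG x = hc a) :
    ∃ a < 110, encG x⁻¹ = hc a := by
  obtain ⟨a, ha, hx⟩ := h
  have hp : ∀ n : ℕ, ∃ b < 110, encG (x ^ n) = hc b := by
    intro n
    induction n with
    | zero => exact ⟨0, by norm_num, by rw [pow_zero, encG_one, hc_zero]⟩
    | succ n ih =>
      obtain ⟨b, hb, e⟩ := ih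
      obtain ⟨m, hm, e'⟩ := hc_mul_hc b hb a ha
      exact ⟨m, hm, by rw [pow_succ, encG_mul, e, hx, e']⟩
  have : x ^ (orderOf x - 1) = x⁻¹ := by
    apply eq_inv_of_mul_eq_one_left
    rw [← pow_succ, Nat.sub_add_cancel (orderOf_pos x), pow_orderOf_eq_one]
  exact this ▸ hp _

/-- Every element of J₁ is conjugate to a representative. -/
theorem exists_class (g : J1) : ∃ c : Fin 15, ∃ x : J1, g * x = x * classRep c := by
  obtain ⟨g, hg⟩ := g
  obtain ⟨k, hk, i, hi, eg⟩ := inS_of_mem hg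
  have hd := allB_spec dcOK_all i hi
  simp only [dcOK, Bool.and_eq_true, beq_iff_eq, decide_eq_true_eq] at hd
  obtain ⟨ha, hd⟩ := hd
  set v := look 40 dcTab i
  have hb : v / 19 % 110 < 110 := Nat.mod_lt _ (by norm_num)
  set d := v % 19 with hdd
  have hd19 : d < 19 := Nat.mod_lt _ (by norm_num)
  obtain ⟨A, hA, eA⟩ := inJ_hc _ ha
  obtain ⟨B, hB, eB⟩ := inJ_hc _ hb
  obtain ⟨K, hK, eK⟩ := inJ_hc k hk
  obtain ⟨R, hR, eR⟩ := inJ_rc i hi
  obtain ⟨m₁, hm₁, e₁⟩ := inv_mem_table A ⟨_, ha, eA⟩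
  obtain ⟨m₂, hm₂, e₂⟩ := hc_mul_hc _ hb k hk
  obtain ⟨m₃, hm₃, e₃⟩ := hc_mul_hc m₂ hm₂ m₁ hm₁
  have hce := allB_spec conjOK_all (d * 110 + m₃) (by omega)
  simp only [conjOK, Bool.and_eq_true, beq_iff_eq, decide_eq_true_eq] at hce
  rw [show (d * 110 + m₃) / 110 = d by omega, show (d * 110 + m₃) % 110 = m₃ by omega] at hce
  set w := look 40 conjTab (d * 110 + m₃)
  obtain ⟨⟨hc15, hdr⟩, hce⟩ := hce
  obtain ⟨D, hD, eD⟩ := inJ_rc _ hdr
  obtain ⟨C, hC, eC⟩ := (inJ_hc _ (Nat.mod_lt (w / 1596) (by norm_num : 0 < 110))).mul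
    (inJ_rc _ (Nat.mod_lt w (by norm_num : 0 < 1596)))
  have q1 : A * R = D * B := encG_inj (by rw [encG_mul, encG_mul, eA, eB, eD, eR]; exact hd)
  have q2 : B * K * A⁻¹ * D * C = C * (classRep ⟨_, hc15⟩ : GL (Fin 7) (ZMod 11)) := encG_inj (by
    rw [encG_mul, encG_mul, encG_mul, encG_mul, encG_mul, eB, eK, e₁, e₂, e₃, eD, eC,
      encG_classRep]
    exact hce)
  have q3 : g = K * R := encG_inj (by rw [encG_mul, eK, eR, eg])
  have q4 : D = A * R * B⁻¹ := by rw [q1, mul_inv_cancel_right]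
  refine ⟨⟨_, hc15⟩, ⟨B⁻¹ * C, mul_mem (inv_mem hB) hC⟩, Subtype.ext ?_⟩
  simp only [Subgroup.coe_mul]
  rw [mul_assoc B⁻¹ C, ← q2, q3, q4]
  group

theorem orderOf_classRep (c : Fin 15) : orderOf (classRep c) = classOrd.getD c 0 := by
  have h := allB_spec ordOK_all c c.isLt
  simp only [ordOK, Bool.and_eq_true, beq_iff_eq, decide_eq_true_eq] at h
  obtain ⟨⟨⟨-, h0⟩, h1⟩, h2⟩ := h
  have hp : ∀ n, encG ((classRep c : GL (Fin 7) (ZMod 11)) ^ n) = pw (cc c) n := fun n => by
    induction n with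
    | zero => rw [pow_zero, encG_one, pw]
    | succ n ih => rw [pow_succ, encG_mul, ih, encG_classRep, pw]
  rw [orderOf_eq_iff h0]
  refine ⟨Subtype.ext (encG_inj ?_), fun m hm hm0 he => ?_⟩
  · simp only [SubgroupClass.coe_pow, OneMemClass.coe_one]
    rw [hp, h1, encG_one]
  · have := allB_spec h2 m hm
    have he' := congrArg (fun x : J1 => encG (x : GL (Fin 7) (ZMod 11))) he
    simp only [SubgroupClass.coe_pow, OneMemClass.coe_one, hp, encG_one] at he'
    simp [he', Nat.ne_of_gt hm0] at this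

theorem orderOf_conj' {G : Type*} [Group G] (x y : G) : orderOf (x * y * x⁻¹) = orderOf y := by
  simpa using MulEquiv.orderOf_eq (MulAut.conj x) y

theorem exists_isConj_classRep (g : J1) : ∃ c : Fin 15, IsConj (classRep c) g := by
  obtain ⟨c, x, h⟩ := exists_class g
  exact ⟨c, isConj_iff.2 ⟨x, by rw [← h, mul_inv_cancel_right]⟩⟩

theorem orderOf_mem (g : J1) : orderOf g ∈ classOrd := by
  obtain ⟨c, hc'⟩ := exists_isConj_classRep g
  obtain ⟨x, hx⟩ := isConj_iff.1 hc'
  rw [← hx, orderOf_conj', orderOf_classRep, List.getD_eq_getElem _ _ (by exact c.isLt)]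
  exact List.getElem_mem _

theorem exists_orderOf_eq {n : ℕ} (hn : n ∈ classOrd) : ∃ g : J1, orderOf g = n := by
  obtain ⟨i, hi, e⟩ := List.mem_iff_getElem.1 hn
  exact ⟨classRep ⟨i, hi⟩, by rw [orderOf_classRep, List.getD_eq_getElem _ _ hi, e]⟩

/-- The element orders of J₁ are exactly 1, 2, 3, 5, 6, 7, 10, 11, 15 and 19. -/
theorem range_orderOf :
    Set.range (orderOf : J1 → ℕ) = {n | n ∈ [1, 2, 3, 5, 6, 7, 10, 11, 15, 19]} := by
  ext n
  constructor
  · rintro ⟨g, rfl⟩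
    exact (by decide : ∀ m ∈ classOrd, m ∈ [1, 2, 3, 5, 6, 7, 10, 11, 15, 19]) _ (orderOf_mem g)
  · intro hn
    exact exists_orderOf_eq ((by decide : ∀ m ∈ [1, 2, 3, 5, 6, 7, 10, 11, 15, 19], m ∈ classOrd) _ hn)

/-- All involutions of J₁ are conjugate. -/
theorem isConj_of_orderOf_two {x y : J1} (hx : orderOf x = 2) (hy : orderOf y = 2) :
    IsConj x y := by
  have key : ∀ g : J1, orderOf g = 2 → IsConj (classRep 1) g := by
    intro g hg
    obtain ⟨c, hc'⟩ := exists_isConj_classRep g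
    obtain ⟨z, hz⟩ := isConj_iff.1 hc'
    rw [← hz, orderOf_conj', orderOf_classRep] at hg
    obtain rfl : c = 1 := (by decide : ∀ c : Fin 15, classOrd.getD c 0 = 2 → c = 1) c hg
    exact hc'
  exact (key x hx).symm.trans (key y hy)

end J1

end H97
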