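import Cfsg.Agent.H97.Lanes

/-!
7 × 7 matrices over the integers modulo 11 as single natural numbers, with a product that the kernel
evaluates with about fifty big-number operations.
-/

namespace H97

/-- 49 lanes, each 127. -/
def mask127 : ℕ := 7768886054653271411042313364278162021733673598669583023610940460687651451664019329770000368126774362131136667576069921967529544269559474905887945076330941576658699630840035963771225478126579247263154178542402922644214037938811461789935587041294665890457685121219207694230072702653041373377710088018776744926582786124527074563795716112871088063512703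

/-- lanes 0, 7, 14, … full -/
def colMask : ℕ := 46020941509413252841025871256230907587015575623726853298980457297184009035488907697114291585164035403391980064512035376029516749332937826880083957596468348988040671065906439228263224548809436074938152415378845120127327048390362082130522656928546948506050699287139321170901154171991676726301918491109822306451455

/-- seven full lanes -/
def rowMask : ℕ := 374144419156711147060143317175368453031918731001855

/-- Reduce every lane modulo 11 (valid for lanes up to 700), with the masks as arguments. -/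
def redW (m N : ℕ) : ℕ := N - 11 * (((N * 745) >>> 13) &&& m)

/-- The unreduced product, with the masks as arguments. -/
def mulW (c r A B : ℕ) : ℕ :=
  (A &&& c) * (B &&& r) + ((A >>> 24) &&& c) * ((B >>> 168) &&& r) +
  ((A >>> 48) &&& c) * ((B >>> 336) &&& r) + ((A >>> 72) &&& c) * ((B >>> 504) &&& r) +
  ((A >>> 96) &&& c) * ((B >>> 672) &&& r) + ((A >>> 120) &&& c) * ((B >>> 840) &&& r) +
  ((A >>> 144) &&& c) * ((B >>> 1008) &&& r)

/-- Product of encoded matrices. -/
def cm (A B : ℕ) : ℕ := redW mask127 (mulW colMask rowMask A B)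

/-- Scalar multiple of an encoded matrix. -/
def cs (k A : ℕ) : ℕ := redW mask127 (k * A)

abbrev Mat7 : Type := Matrix (Fin 7) (Fin 7) (ZMod 11)

/-- Lane function of a matrix of natural numbers. -/
def flat (f : Fin 7 → Fin 7 → ℕ) (l : ℕ) : ℕ := f (Fin.ofNat 7 (l / 7)) (Fin.ofNat 7 l)

/-- The code of a matrix. -/
def enc (M : Mat7) : ℕ := pk (flat fun i k => (M i k).val) 49

theorem mask127_eq : mask127 = pk (fun _ => 127) 49 := by decide +kernel

theorem colMask_eq : colMask = pk (fun l => if l % 7 = 0 then 16777215 else 0) 49 := by decide +kernel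

theorem rowMask_eq : rowMask = pk (fun _ => 16777215) 7 := by decide +kernel

theorem dig_mask127 {k : ℕ} (hk : k < 49) : dig mask127 k = 127 := by
  rw [mask127_eq, dig_pk _ _ _ fun _ _ => by norm_num, if_pos hk]

theorem lane_div : ∀ x ≤ 700, 745 * x / 8192 % 128 = x / 11 := by decide +kernel

theorem redW_pk (x : ℕ → ℕ) (hx : ∀ k < 49, x k ≤ 700) :
    redW mask127 (pk x 49) = pk (fun k => x k % 11) 49 := by
  have hq : ((pk x 49 * 745) >>> 13) &&& mask127 = pk (fun k => x k / 11) 49 := by
    refine lanes_ext (n := 49) ?_ (pk_lt _ _ fun k hk => by have := hx k hk; omega) fun k hk => ?_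
    · exact lt_of_le_of_lt Nat.and_le_right (mask127_eq ▸ pk_lt _ _ fun _ _ => by norm_num)
    · rw [dig_and, dig_mask127 hk, dig_pk _ _ _ (fun j hj => by have := hx j hj; omega), if_pos hk]
      have h1 : dig (pk x 49 * 745) k = 745 * x k := by
        rw [mul_comm, pk_smul, dig_pk _ _ _ (fun j hj => by have := hx j hj; omega), if_pos hk]
      have h2 : dig ((pk x 49 * 745) >>> 13) k % 128 = dig (pk x 49 * 745) k / 2 ^ 13 % 128 := by
        unfold dig
        rw [Nat.shiftRight_eq_div_pow, Nat.div_div_eq_div_mul, mul_comm (2 ^ 13),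
          ← Nat.div_div_eq_div_mul]
        generalize pk x 49 * 745 / 2 ^ (24 * k) = X
        norm_num
        omega
      rw [show (127 : ℕ) = 2 ^ 7 - 1 by norm_num, Nat.and_two_pow_sub_one_eq_mod]
      norm_num at h2 ⊢
      rw [h2, h1]
      exact lane_div _ (hx k hk)
  rw [redW, hq, pk_smul]
  have : pk x 49 = pk (fun k => x k % 11) 49 + pk (fun k => 11 * (x k / 11)) 49 := by
    rw [pk_add]; exact pk_congr _ fun k _ => by omega
  rw [this, Nat.add_sub_cancel]

theorem val_lt (M : Mat7) (i k : Fin 7) : (M i k).val < 2 ^ 24 :=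
  lt_trans (ZMod.val_lt _) (by norm_num)

theorem pk_sum (f : ℕ → ℕ) (n : ℕ) : pk f n = ∑ k : Fin n, f k * 2 ^ (24 * (k : ℕ)) := by
  induction n with
  | zero => simp [pk]
  | succ n ih => rw [pk, ih, Fin.sum_univ_castSucc]; simp

theorem pk_block (f : ℕ → ℕ) (m : ℕ) :
    pk f (7 * m) = ∑ i : Fin m, pk (fun k => f (7 * i + k)) 7 * 2 ^ (168 * (i : ℕ)) := by
  induction m with
  | zero => simp [pk]
  | succ m ih =>
    rw [show 7 * (m + 1) = 7 * m + 7 by ring, pk_append, ih, Fin.sum_univ_castSucc]
    simp only [Fin.val_last, Fin.val_castSucc]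
    rw [show 24 * (7 * m) = 168 * m by ring]
    ring

theorem flat_apply (f : Fin 7 → Fin 7 → ℕ) (i k : Fin 7) :
    flat f (7 * (i : ℕ) + k) = f i k := by
  have hi := i.isLt
  have hk := k.isLt
  unfold flat
  congr 1
  · ext; simp [Fin.ofNat] <;> omega
  · ext; simp [Fin.ofNat] <;> omega

theorem pk_flat (f : Fin 7 → Fin 7 → ℕ) :
    pk (flat f) 49 = ∑ i : Fin 7, (∑ k : Fin 7, f i k * 2 ^ (24 * (k : ℕ))) * 2 ^ (168 * (i : ℕ)) := by
  rw [show (49 : ℕ) = 7 * 7 by norm_num, pk_block]
  refine Finset.sum_congr rfl fun i _ => ?_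
  rw [pk_sum]
  simp only [flat_apply]

theorem dig_colMask {k : ℕ} (hk : k < 49) :
    dig colMask k = if k % 7 = 0 then 16777215 else 0 := by
  rw [colMask_eq, dig_pk _ _ _ fun _ _ => by split <;> norm_num, if_pos hk]

theorem and_full {x : ℕ} (hx : x < 2 ^ 24) : x &&& 16777215 = x := by
  rw [show (16777215 : ℕ) = 2 ^ 24 - 1 by norm_num, Nat.and_two_pow_sub_one_eq_mod,
    Nat.mod_eq_of_lt hx]

theorem col_extract (a : Fin 7 → Fin 7 → ℕ) (ha : ∀ i k, a i k < 2 ^ 24) (j : Fin 7) :
    (pk (flat a) 49 >>> (24 * (j : ℕ))) &&& colMask = ∑ i : Fin 7, a i j * 2 ^ (168 * (i : ℕ)) := by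
  have h : pk (flat fun i k => if (k : ℕ) = 0 then a i j else 0) 49 =
      ∑ i : Fin 7, a i j * 2 ^ (168 * (i : ℕ)) := by
    rw [pk_flat]
    refine Finset.sum_congr rfl fun i _ => ?_
    rw [Finset.sum_eq_single (0 : Fin 7)] <;> simp +contextual
  have hb : ∀ l, flat (fun i k => if (k : ℕ) = 0 then a i j else 0) l < 2 ^ 24 := by
    intro l; simp only [flat]; split
    · exact ha _ _
    · norm_num
  have ha' : ∀ l, flat a l < 2 ^ 24 := fun l => ha _ _
  rw [← h]
  refine lanes_ext (n := 49) ?_ (pk_lt _ _ fun k _ => hb k) fun l hl => ?_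
  · exact lt_of_le_of_lt Nat.and_le_right (colMask_eq ▸ pk_lt _ _ fun _ _ => by split <;> norm_num)
  rw [dig_and, dig_shift, dig_colMask hl, dig_pk _ _ _ (fun k _ => ha' k),
    dig_pk _ _ _ (fun k _ => hb k), if_pos hl]
  have hj := j.isLt
  by_cases h7 : l % 7 = 0
  · rw [if_pos h7, if_pos (by omega), and_full (ha' _)]
    simp only [flat]
    rw [if_pos (by simp [Fin.ofNat, h7])]
    have e1 : Fin.ofNat 7 (((j : ℕ) + l) / 7) = Fin.ofNat 7 (l / 7) := by
      ext; simp [Fin.ofNat]; omega
    have e2 : Fin.ofNat 7 ((j : ℕ) + l) = j := by ext; simp [Fin.ofNat]; omega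
    rw [e1, e2]
  · rw [if_neg h7, Nat.and_zero]
    simp only [flat]
    rw [if_neg (by simp [Fin.ofNat, h7])]

theorem row_extract (b : Fin 7 → Fin 7 → ℕ) (hb : ∀ i k, b i k < 2 ^ 24) (j : Fin 7) :
    (pk (flat b) 49 >>> (168 * (j : ℕ))) &&& rowMask =
      ∑ k : Fin 7, b j k * 2 ^ (24 * (k : ℕ)) := by
  have h : pk (fun l => b j (Fin.ofNat 7 l)) 7 = ∑ k : Fin 7, b j k * 2 ^ (24 * (k : ℕ)) := by
    rw [pk_sum]
    refine Finset.sum_congr rfl fun k _ => ?_
    congr 2
    ext; simp [Fin.ofNat] <;> omega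
  have hb' : ∀ l, flat b l < 2 ^ 24 := fun l => hb _ _
  rw [← h]
  refine lanes_ext (n := 7) ?_ (pk_lt _ _ fun k _ => hb _ _) fun l hl => ?_
  · exact lt_of_le_of_lt Nat.and_le_right (rowMask_eq ▸ pk_lt _ _ fun _ _ => by norm_num)
  have hj := j.isLt
  rw [dig_and, show 168 * (j : ℕ) = 24 * (7 * j) by ring, dig_shift, rowMask_eq,
    dig_pk _ _ _ (fun k _ => hb' k), dig_pk _ _ _ (fun k _ => hb _ _),
    dig_pk _ _ _ (fun _ _ => by norm_num), if_pos hl, if_pos hl, if_pos (by omega),
    and_full (hb' _)]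
  have := flat_apply b j ⟨l, hl⟩
  simp only at this
  rw [this]
  congr 1
  ext; simp [Fin.ofNat] <;> omega

theorem mulW_flat (a b : Fin 7 → Fin 7 → ℕ) (ha : ∀ i k, a i k < 2 ^ 24)
    (hb : ∀ i k, b i k < 2 ^ 24) :
    mulW colMask rowMask (pk (flat a) 49) (pk (flat b) 49) =
      pk (flat fun i k => ∑ j, a i j * b j k) 49 := by
  have h : mulW colMask rowMask (pk (flat a) 49) (pk (flat b) 49) = ∑ j : Fin 7,
      ((pk (flat a) 49 >>> (24 * (j : ℕ))) &&& colMask) *
      ((pk (flat b) 49 >>> (168 * (j : ℕ))) &&& rowMask) := by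
    simp only [Fin.sum_univ_seven, mulW, Fin.isValue, Fin.coe_ofNat_eq_mod, Fin.val_zero, Nat.zero_mod,
      Nat.mul_zero, Nat.shiftRight_zero, Nat.reduceMod, Nat.reduceMul]
  refine h.trans (Eq.trans ?_ (pk_flat _).symm)
  simp only [col_extract a ha, row_extract b hb, Finset.sum_mul, Finset.mul_sum]
  refine Eq.trans (Eq.trans Finset.sum_comm
    (Finset.sum_congr rfl fun i _ => Finset.sum_comm)) ?_
  rw [Finset.sum_comm]
  refine Finset.sum_congr rfl fun i _ => ?_
  refine Finset.sum_congr rfl fun k _ => ?_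
  refine Finset.sum_congr rfl fun j _ => ?_
  ring

theorem redW_flat (f : Fin 7 → Fin 7 → ℕ) (hf : ∀ i k, f i k ≤ 700) :
    redW mask127 (pk (flat f) 49) = enc (Matrix.of fun i k => (f i k : ZMod 11)) := by
  rw [redW_pk (flat f) fun l _ => hf _ _]
  unfold enc
  refine pk_congr _ fun l _ => ?_
  simp [flat, ZMod.val_natCast, Matrix.of_apply]

theorem cm_enc (A B : Mat7) : cm (enc A) (enc B) = enc (A * B) := by
  unfold cm enc
  rw [mulW_flat _ _ (val_lt A) (val_lt B), redW_flat]
  · unfold enc
    congr 2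
    funext i k
    simp [Matrix.mul_apply, ZMod.natCast_zmod_val]
  · intro i k
    calc ∑ j, (A i j).val * (B j k).val ≤ ∑ _j : Fin 7, 100 :=
          Finset.sum_le_sum fun j _ => by
            have h1 := ZMod.val_lt (A i j)
            have h2 := ZMod.val_lt (B j k)
            calc (A i j).val * (B j k).val ≤ 10 * 10 := Nat.mul_le_mul (by omega) (by omega)
              _ = 100 := by norm_num
      _ = 700 := by simp

theorem cs_enc (c : ZMod 11) (A : Mat7) : cs c.val (enc A) = enc (c • A) := by
  unfold cs enc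
  rw [pk_smul,
    show (fun l => c.val * flat (fun i k => (A i k).val) l) = flat fun i k => c.val * (A i k).val from rfl,
    redW_flat]
  · unfold enc
    congr 2
    first | done | simp [ZMod.natCast_zmod_val]
  · intro i k
    have h1 := ZMod.val_lt c
    have h2 := ZMod.val_lt (A i k)
    calc c.val * (A i k).val ≤ 10 * 10 := Nat.mul_le_mul (by omega) (by omega)
      _ ≤ 700 := by norm_num

theorem enc_inj {A B : Mat7} (h : enc A = enc B) : A = B := by
  ext i k
  have h1 := congrArg (fun N => dig N (7 * (i : ℕ) + k)) h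
  have hi := i.isLt
  have hk := k.isLt
  simp only [enc] at h1
  rw [dig_pk (flat fun i k => (A i k).val) _ _ (fun _ _ => val_lt A _ _),
    dig_pk (flat fun i k => (B i k).val) _ _ (fun _ _ => val_lt B _ _),
    if_pos (by omega), if_pos (by omega), flat_apply, flat_apply] at h1
  exact ZMod.val_injective _ h1

end H97
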