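import Cfsg.Prelude.Def_Spor_J1
import Cfsg.Agent.H97.Mat7
import Cfsg.Agent.H97.J1Data

/-!
The Janko group `Cfsg.Spor.J1` enumerated: its elements are exactly the 110 · 1596 products of a table of
110 matrices (the stabiliser of a projective point) with 1596 orbit representatives. Hence its order is 175560.
-/

set_option maxRecDepth 100000

namespace H97

/-- `allB n f`: `f` holds below `n` (structural, for the kernel). -/
def allB : ℕ → (ℕ → Bool) → Bool
  | 0, _ => true
  | n + 1, f => f n && allB n f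

theorem allB_spec {n : ℕ} {f : ℕ → Bool} (h : allB n f = true) : ∀ i < n, f i = true := by
  induction n with
  | zero => omega
  | succ n ih =>
    simp only [allB, Bool.and_eq_true] at h
    intro i hi
    rcases Nat.lt_succ_iff_lt_or_eq.1 hi with h' | h'
    · exact ih h.2 i h'
    · exact h' ▸ h.1

/-- Two-level table lookup. -/
def look (n : ℕ) (L : List (List ℕ)) (i : ℕ) : ℕ := (L.getD (i / n) []).getD (i % n) 0

namespace J1

open Cfsg.Spor

/-- Representative of the orbit point `i`. -/
def rc (i : ℕ) : ℕ := look 40 repTab i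

/-- Element `k` of the point stabiliser. -/
def hc (k : ℕ) : ℕ := look 10 hTab k

/-- The two generators. -/
def gc (s : ℕ) : ℕ := if s = 0 then cX else cY

/-- The two generators of the point stabiliser. -/
def uc (t : ℕ) : ℕ := if t = 0 then cU else cV

def evalW (w : List ℕ) : ℕ := w.foldl (fun c s => cm c (gc s)) cOne

def repOK (i : ℕ) : Bool :=
  i == 0 || (decide (look 40 parTab i / 2 < i) &&
    rc i == cm (rc (look 40 parTab i / 2)) (gc (look 40 parTab i % 2)))

def edgeOK (T : List (List ℕ)) (g i : ℕ) : Bool :=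
  decide (look 40 T i / 1596 < 110) &&
    cm (rc i) g == cm (hc (look 40 T i / 1596)) (rc (look 40 T i % 1596))

def hRepOK (k : ℕ) : Bool :=
  k == 0 || (decide (look 10 hParTab k / 2 < k) &&
    hc k == cm (hc (look 10 hParTab k / 2)) (uc (look 10 hParTab k % 2)))

def hMulOK (T : List (List ℕ)) (u k : ℕ) : Bool :=
  decide (look 10 T k < 110) && cm (hc k) u == hc (look 10 T k)

/-- The code of the scaled image of the base point under representative `i`. -/
def zc (i : ℕ) : ℕ := cs (look 40 scaleTab i) (cm cP (rc i))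

def normd (z : ℕ) : Bool :=
  (List.range 7).any fun l => allB l (fun m => dig z m == 0) && dig z l == 1

def pointOK (i : ℕ) : Bool :=
  decide (0 < look 40 scaleTab i) && decide (look 40 scaleTab i < 11) && normd (zc i) &&
    decide (look 40 rankTab i < 1596) && look 40 sortTab (look 40 rankTab i) == i

def sortOK (m : ℕ) : Bool := decide (zc (look 40 sortTab m) < zc (look 40 sortTab (m + 1)))

def hFixOK (k : ℕ) : Bool :=
  decide (0 < look 10 hScaleTab k) && decide (look 10 hScaleTab k < 11) &&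
    cm cP (hc k) == cs (look 10 hScaleTab k) cP

def hDistinctOK (k : ℕ) : Bool := allB k fun l => !(hc k == hc l)

theorem repOK_all : allB 1596 repOK = true := by decide +kernel
theorem edgeX_all : allB 1596 (edgeOK edgeXTab cX) = true := by decide +kernel
theorem edgeY_all : allB 1596 (edgeOK edgeYTab cY) = true := by decide +kernel
theorem hRepOK_all : allB 110 hRepOK = true := by decide +kernel
theorem hMulU_all : allB 110 (hMulOK hMulUTab cU) = true := by decide +kernel
theorem hMulV_all : allB 110 (hMulOK hMulVTab cV) = true := by decide +kernel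
theorem pointOK_all : allB 1596 pointOK = true := by decide +kernel
theorem sortOK_all : allB 1595 sortOK = true := by decide +kernel
theorem hFixOK_all : allB 110 hFixOK = true := by decide +kernel
theorem hDistinctOK_all : allB 110 hDistinctOK = true := by decide +kernel
theorem rc_zero : rc 0 = cOne := by decide +kernel
theorem hc_zero : hc 0 = cOne := by decide +kernel
theorem evalW_U : evalW wordU = cU := by decide +kernel
theorem evalW_V : evalW wordV = cV := by decide +kernel
theorem enc_X : enc Cfsg.jankoMatrixX = cX := by decide +kernel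
theorem enc_Y : enc Cfsg.jankoMatrixY = cY := by decide +kernel
theorem enc_one : enc 1 = cOne := by decide +kernel

/-- The base point, as a matrix with one nonzero row. -/
def pointMat : Mat7 := Matrix.of fun i k => (dig cP (7 * (i : ℕ) + k) : ZMod 11)

theorem enc_pointMat : enc pointMat = cP := by decide +kernel

/-- The code of a group element. -/
def encG (g : GL (Fin 7) (ZMod 11)) : ℕ := enc (g : Mat7)

theorem encG_mul (a b : GL (Fin 7) (ZMod 11)) : encG (a * b) = cm (encG a) (encG b) :=
  (cm_enc _ _).symm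

theorem encG_one : encG 1 = cOne := enc_one

theorem encG_inj {a b : GL (Fin 7) (ZMod 11)} (h : encG a = encG b) : a = b :=
  Units.ext (enc_inj h)

theorem encG_X : encG jankoX = cX := enc_X

theorem encG_Y : encG jankoY = cY := enc_Y

theorem jankoX_pow : jankoX ^ 7 = 1 := encG_inj (by
  simp only [pow_succ, pow_zero, one_mul, encG_mul, encG_X, encG_one]; decide +kernel)

theorem jankoY_pow : jankoY ^ 5 = 1 := encG_inj (by
  simp only [pow_succ, pow_zero, one_mul, encG_mul, encG_Y, encG_one]; decide +kernel)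

/-- The code `c` is that of an element of J₁. -/
def InJ (c : ℕ) : Prop := ∃ g ∈ J1, encG g = c

theorem InJ.mul {a b : ℕ} (ha : InJ a) (hb : InJ b) : InJ (cm a b) := by
  obtain ⟨x, hx, rfl⟩ := ha
  obtain ⟨y, hy, rfl⟩ := hb
  exact ⟨x * y, mul_mem hx hy, encG_mul x y⟩

theorem inJ_one : InJ cOne := ⟨1, one_mem _, encG_one⟩

theorem jankoX_mem : jankoX ∈ J1 := Subgroup.subset_closure (by simp)

theorem jankoY_mem : jankoY ∈ J1 := Subgroup.subset_closure (by simp)

theorem inJ_gc (s : ℕ) : InJ (gc s) := by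
  unfold gc
  split
  · exact ⟨_, jankoX_mem, encG_X⟩
  · exact ⟨_, jankoY_mem, encG_Y⟩

theorem inJ_evalW (w : List ℕ) : InJ (evalW w) := by
  have : ∀ c, InJ c → InJ (w.foldl (fun c s => cm c (gc s)) c) := by
    induction w with
    | nil => exact fun c hc => hc
    | cons a w ih => exact fun c hc => ih _ (hc.mul (inJ_gc a))
  exact this _ inJ_one

theorem inJ_uc (t : ℕ) : InJ (uc t) := by
  unfold uc
  split
  · exact evalW_U ▸ inJ_evalW _
  · exact evalW_V ▸ inJ_evalW _

theorem inJ_hc : ∀ k < 110, InJ (hc k) := by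
  intro k
  induction k using Nat.strong_induction_on with
  | _ k ih =>
    intro hk
    have h := allB_spec hRepOK_all k hk
    simp only [hRepOK, Bool.or_eq_true, Bool.and_eq_true, beq_iff_eq, decide_eq_true_eq] at h
    rcases h with rfl | ⟨h1, h2⟩
    · rw [hc_zero]; exact inJ_one
    · rw [h2]; exact (ih _ h1 (by omega)).mul (inJ_uc _)

theorem inJ_rc : ∀ i < 1596, InJ (rc i) := by
  intro i
  induction i using Nat.strong_induction_on with
  | _ i ih =>
    intro hi
    have h := allB_spec repOK_all i hi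
    simp only [repOK, Bool.or_eq_true, Bool.and_eq_true, beq_iff_eq, decide_eq_true_eq] at h
    rcases h with rfl | ⟨h1, h2⟩
    · rw [rc_zero]; exact inJ_one
    · rw [h2]; exact (ih _ h1 (by omega)).mul (inJ_gc _)

theorem cm_assoc {a b c : ℕ} (ha : InJ a) (hb : InJ b) (hc' : InJ c) :
    cm (cm a b) c = cm a (cm b c) := by
  obtain ⟨x, -, rfl⟩ := ha
  obtain ⟨y, -, rfl⟩ := hb
  obtain ⟨z, -, rfl⟩ := hc'
  simp only [← encG_mul, mul_assoc]

theorem cm_cOne {a : ℕ} (ha : InJ a) : cm a cOne = a := by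
  obtain ⟨x, -, rfl⟩ := ha
  rw [← encG_one, ← encG_mul, mul_one]

theorem cOne_cm {a : ℕ} (ha : InJ a) : cm cOne a = a := by
  obtain ⟨x, -, rfl⟩ := ha
  rw [← encG_one, ← encG_mul, one_mul]

theorem hc_mul_uc (k : ℕ) (hk : k < 110) (t : ℕ) : ∃ m < 110, cm (hc k) (uc t) = hc m := by
  unfold uc
  split
  · have h := allB_spec hMulU_all k hk
    simp only [hMulOK, Bool.and_eq_true, beq_iff_eq, decide_eq_true_eq] at h
    exact ⟨_, h.1, h.2⟩
  · have h := allB_spec hMulV_all k hk
    simp only [hMulOK, Bool.and_eq_true, beq_iff_eq, decide_eq_true_eq] at h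
    exact ⟨_, h.1, h.2⟩

theorem hc_mul_hc (k : ℕ) (hk : k < 110) : ∀ l < 110, ∃ m < 110, cm (hc k) (hc l) = hc m := by
  intro l
  induction l using Nat.strong_induction_on with
  | _ l ih =>
    intro hl
    have h := allB_spec hRepOK_all l hl
    simp only [hRepOK, Bool.or_eq_true, Bool.and_eq_true, beq_iff_eq, decide_eq_true_eq] at h
    rcases h with rfl | ⟨h1, h2⟩
    · exact ⟨k, hk, by rw [hc_zero, cm_cOne (inJ_hc k hk)]⟩
    · obtain ⟨m, hm, e⟩ := ih _ h1 (by omega)
      obtain ⟨n, hn, e'⟩ := hc_mul_uc m hm (look 10 hParTab l % 2)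
      refine ⟨n, hn, ?_⟩
      rw [h2, ← cm_assoc (inJ_hc k hk) (inJ_hc _ (by omega)) (inJ_uc _), e, e']

theorem edge (i : ℕ) (hi : i < 1596) (s : ℕ) :
    ∃ a < 110, ∃ j < 1596, cm (rc i) (gc s) = cm (hc a) (rc j) := by
  unfold gc
  split
  · have h := allB_spec edgeX_all i hi
    simp only [edgeOK, Bool.and_eq_true, beq_iff_eq, decide_eq_true_eq] at h
    exact ⟨_, h.1, _, Nat.mod_lt _ (by norm_num), h.2⟩
  · have h := allB_spec edgeY_all i hi
    simp only [edgeOK, Bool.and_eq_true, beq_iff_eq, decide_eq_true_eq] at h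
    exact ⟨_, h.1, _, Nat.mod_lt _ (by norm_num), h.2⟩

/-- `c` is one of the 110 · 1596 listed codes. -/
def InS (c : ℕ) : Prop := ∃ k < 110, ∃ i < 1596, c = cm (hc k) (rc i)

theorem inS_one : InS cOne :=
  ⟨0, by norm_num, 0, by norm_num, by rw [hc_zero, rc_zero, cm_cOne inJ_one]⟩

theorem InS.inJ {c : ℕ} (h : InS c) : InJ c := by
  obtain ⟨k, hk, i, hi, rfl⟩ := h
  exact (inJ_hc k hk).mul (inJ_rc i hi)

theorem InS.mul_gc {c : ℕ} (h : InS c) (s : ℕ) : InS (cm c (gc s)) := by
  obtain ⟨k, hk, i, hi, rfl⟩ := h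
  obtain ⟨a, ha, j, hj, e⟩ := edge i hi s
  obtain ⟨m, hm, e'⟩ := hc_mul_hc k hk a ha
  refine ⟨m, hm, j, hj, ?_⟩
  rw [cm_assoc (inJ_hc k hk) (inJ_rc i hi) (inJ_gc s), e,
    ← cm_assoc (inJ_hc k hk) (inJ_hc a ha) (inJ_rc j hj), e']

theorem inS_of_mem {g : GL (Fin 7) (ZMod 11)} (hg : g ∈ J1) : InS (encG g) := by
  have hX : ∀ x : GL (Fin 7) (ZMod 11), InS (encG x) → InS (encG (x * jankoX)) := fun x hx => by
    rw [encG_mul, encG_X]; simpa [gc] using hx.mul_gc 0
  have hY : ∀ x : GL (Fin 7) (ZMod 11), InS (encG x) → InS (encG (x * jankoY)) := fun x hx => by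
    rw [encG_mul, encG_Y]; simpa [gc] using hx.mul_gc 1
  induction hg using Subgroup.closure_induction_right with
  | one => rw [encG_one]; exact inS_one
  | mul_right x hx y hy ih =>
    rcases hy with rfl | rfl
    · exact hX _ ih
    · exact hY _ ih
  | mul_inv_cancel x hx y hy ih =>
    rcases hy with rfl | rfl
    · rw [inv_eq_of_mul_eq_one_left (a := jankoX ^ 6) (by rw [← pow_succ, jankoX_pow])]
      simp only [pow_succ, pow_zero, one_mul, ← mul_assoc]
      exact hX _ (hX _ (hX _ (hX _ (hX _ (hX _ ih)))))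
    · rw [inv_eq_of_mul_eq_one_left (a := jankoY ^ 4) (by rw [← pow_succ, jankoY_pow])]
      simp only [pow_succ, pow_zero, one_mul, ← mul_assoc]
      exact hY _ (hY _ (hY _ (hY _ ih)))

/-- Membership in J₁ is membership in the table of codes. -/
theorem mem_J1_iff {g : GL (Fin 7) (ZMod 11)} : g ∈ J1 ↔ InS (encG g) := by
  refine ⟨inS_of_mem, fun h => ?_⟩
  obtain ⟨x, hx, e⟩ := h.inJ
  exact encG_inj e ▸ hx

theorem normd_spec {M : Mat7} (h : normd (enc M) = true) :
    ∃ l : Fin 7, M 0 l = 1 ∧ ∀ m < l, M 0 m = 0 := by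
  simp only [normd, List.any_eq_true, List.mem_range, Bool.and_eq_true, beq_iff_eq] at h
  obtain ⟨l, hl, h1, h2⟩ := h
  have hd : ∀ m : Fin 7, dig (enc M) m = (M 0 m).val := fun m => by
    have := m.isLt
    unfold enc
    rw [dig_pk (flat fun i k => (M i k).val) _ _ (fun _ _ => val_lt M _ _), if_pos (by omega)]
    simpa using flat_apply (fun i k => (M i k).val) 0 m
  refine ⟨⟨l, hl⟩, ?_, fun m hm => ?_⟩
  · exact ZMod.val_injective _ (((hd ⟨l, hl⟩).symm.trans h2).trans rfl)
  · have := allB_spec h1 (m : ℕ) hm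
    rw [beq_iff_eq, hd] at this
    exact (ZMod.val_eq_zero _).1 this

theorem normd_unique [Fact (Nat.Prime 11)] {A B : Mat7} {a b : ZMod 11} (ha : a ≠ 0) (hb : b ≠ 0)
    (hA : normd (enc A) = true) (hB : normd (enc B) = true) (h : a • A = b • B) : A = B := by
  obtain ⟨l, hl1, hl0⟩ := normd_spec hA
  obtain ⟨m, hm1, hm0⟩ := normd_spec hB
  have e : ∀ k, a * A 0 k = b * B 0 k := fun k => by
    simpa using congrFun (congrFun h 0) k
  obtain rfl : l = m := by
    rcases lt_trichotomy l m with hlt | he | hgt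
    · exact absurd (by simpa [hl1, hm0 l hlt] using e l) ha
    · exact he
    · exact absurd (by simpa [hm1, hl0 m hgt] using (e m).symm) hb
  have hab : a = b := by simpa [hl1, hm1] using e l
  subst hab
  exact smul_right_injective _ ha h

theorem prime_eleven : Fact (Nat.Prime 11) := ⟨by norm_num⟩

theorem val_cast_scale {c : ℕ} (h : c < 11) : ((c : ZMod 11)).val = c :=
  ZMod.val_natCast_of_lt h

theorem zc_inj {i j : ℕ} (hi : i < 1596) (hj : j < 1596) (h : zc i = zc j) : i = j := by
  have mono : ∀ m n : ℕ, m < n → n < 1596 → zc (look 40 sortTab m) < zc (look 40 sortTab n) := by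
    intro m n hmn hn
    induction n with
    | zero => omega
    | succ n ih =>
      have hs := allB_spec sortOK_all n (by omega)
      simp only [sortOK, decide_eq_true_eq] at hs
      rcases Nat.lt_succ_iff_lt_or_eq.1 hmn with h' | h'
      · exact lt_trans (ih h' (by omega)) hs
      · exact h' ▸ hs
  have pi := allB_spec pointOK_all i hi
  have pj := allB_spec pointOK_all j hj
  simp only [pointOK, Bool.and_eq_true, beq_iff_eq, decide_eq_true_eq] at pi pj
  rcases lt_trichotomy (look 40 rankTab i) (look 40 rankTab j) with hlt | he | hgt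
  · have := mono _ _ hlt pj.1.2; rw [pi.2, pj.2] at this; omega
  · rw [← pi.2, he, pj.2]
  · have := mono _ _ hgt pi.1.2; rw [pi.2, pj.2] at this; omega

/-- The codes of the table are distinct. -/
theorem table_inj {k l i j : ℕ} (hk : k < 110) (hl : l < 110) (hi : i < 1596) (hj : j < 1596)
    (h : cm (hc k) (rc i) = cm (hc l) (rc j)) : k = l ∧ i = j := by
  obtain ⟨x, -, ex⟩ := inJ_hc k hk
  obtain ⟨y, -, ey⟩ := inJ_hc l hl
  obtain ⟨u, -, eu⟩ := inJ_rc i hi
  obtain ⟨v, -, ev⟩ := inJ_rc j hj
  rw [← ex, ← ey, ← eu, ← ev, ← encG_mul, ← encG_mul] at h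
  have hg := encG_inj h
  have fk := allB_spec hFixOK_all k hk
  have fl := allB_spec hFixOK_all l hl
  have pi := allB_spec pointOK_all i hi
  have pj := allB_spec pointOK_all j hj
  simp only [hFixOK, Bool.and_eq_true, beq_iff_eq, decide_eq_true_eq] at fk fl
  simp only [pointOK, Bool.and_eq_true, decide_eq_true_eq] at pi pj
  obtain ⟨⟨⟨⟨ci0, ci⟩, ni⟩, -⟩, -⟩ := pi
  obtain ⟨⟨⟨⟨cj0, cj⟩, nj⟩, -⟩, -⟩ := pj
  haveI := prime_eleven
  set a : ZMod 11 := ((look 10 hScaleTab k : ℕ) : ZMod 11)
  set b : ZMod 11 := ((look 10 hScaleTab l : ℕ) : ZMod 11)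
  set c : ZMod 11 := ((look 40 scaleTab i : ℕ) : ZMod 11)
  set d : ZMod 11 := ((look 40 scaleTab j : ℕ) : ZMod 11)
  have va : a.val = look 10 hScaleTab k := val_cast_scale fk.1.2
  have vb : b.val = look 10 hScaleTab l := val_cast_scale fl.1.2
  have vc : c.val = look 40 scaleTab i := val_cast_scale ci
  have vd : d.val = look 40 scaleTab j := val_cast_scale cj
  have ne : ∀ e : ZMod 11, 0 < e.val → e ≠ 0 := fun e he h0 => by simp [h0] at he
  have hx : pointMat * (x : Mat7) = a • pointMat := enc_inj (by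
    rw [← cm_enc, ← cs_enc, va, enc_pointMat, show enc (x : Mat7) = hc k from ex]; exact fk.2)
  have hy : pointMat * (y : Mat7) = b • pointMat := enc_inj (by
    rw [← cm_enc, ← cs_enc, vb, enc_pointMat, show enc (y : Mat7) = hc l from ey]; exact fl.2)
  have hzi : zc i = enc (c • (pointMat * (u : Mat7))) := by
    rw [← cs_enc, ← cm_enc, vc, enc_pointMat, show enc (u : Mat7) = rc i from eu, zc]
  have hzj : zc j = enc (d • (pointMat * (v : Mat7))) := by
    rw [← cs_enc, ← cm_enc, vd, enc_pointMat, show enc (v : Mat7) = rc j from ev, zc]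
  have hm : a • (pointMat * (u : Mat7)) = b • (pointMat * (v : Mat7)) := by
    rw [← Matrix.smul_mul, ← Matrix.smul_mul, ← hx, ← hy, Matrix.mul_assoc, Matrix.mul_assoc,
      ← Units.val_mul, ← Units.val_mul, hg]
  rw [hzi] at ni
  rw [hzj] at nj
  have e := normd_unique (a := a * d) (b := b * c)
    (mul_ne_zero (ne a (va.symm ▸ fk.1.1)) (ne d (vd.symm ▸ cj0)))
    (mul_ne_zero (ne b (vb.symm ▸ fl.1.1)) (ne c (vc.symm ▸ ci0))) ni nj (by
      rw [smul_smul, smul_smul, show a * d * c = (d * c) * a by ring,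
        show b * c * d = (d * c) * b by ring, ← smul_smul, ← smul_smul (d * c) b, hm])
  obtain rfl : i = j := zc_inj hi hj (by rw [hzi, hzj, e])
  obtain rfl : u = v := encG_inj (eu.trans ev.symm)
  refine ⟨?_, rfl⟩
  have hkl : hc k = hc l := by rw [← ex, ← ey, mul_right_cancel hg]
  by_contra hne
  rcases Nat.lt_or_gt_of_ne hne with hlt | hgt
  · have := allB_spec (allB_spec hDistinctOK_all l hl) k hlt
    simp [hkl] at this
  · have := allB_spec (allB_spec hDistinctOK_all k hk) l hgt
    simp [hkl] at this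

/-- The element with code `cm (hc k) (rc i)`. -/
noncomputable def elt (p : Fin 110 × Fin 1596) : J1 :=
  ⟨((inJ_hc p.1 p.1.isLt).mul (inJ_rc p.2 p.2.isLt)).choose,
    ((inJ_hc p.1 p.1.isLt).mul (inJ_rc p.2 p.2.isLt)).choose_spec.1⟩

theorem encG_elt (p : Fin 110 × Fin 1596) :
    encG (elt p : GL (Fin 7) (ZMod 11)) = cm (hc p.1) (rc p.2) :=
  ((inJ_hc p.1 p.1.isLt).mul (inJ_rc p.2 p.2.isLt)).choose_spec.2

theorem elt_bijective : Function.Bijective elt := by
  constructor
  · intro p q h
    have := congrArg (fun g : J1 => encG (g : GL (Fin 7) (ZMod 11))) h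
    simp only [encG_elt] at this
    obtain ⟨h1, h2⟩ := table_inj p.1.isLt q.1.isLt p.2.isLt q.2.isLt this
    exact Prod.ext (Fin.ext h1) (Fin.ext h2)
  · intro g
    obtain ⟨k, hk, i, hi, e⟩ := inS_of_mem g.2
    exact ⟨(⟨k, hk⟩, ⟨i, hi⟩), Subtype.ext (encG_inj ((encG_elt _).trans e.symm))⟩

theorem card_J1 : Nat.card J1 = 175560 := by
  rw [← Nat.card_congr (Equiv.ofBijective elt elt_bijective)]
  simp

end J1

end H97
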