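import Cfsg.Agent.H97.J1Invol
import Cfsg.Prelude.Def_KGroupFacts

/-!
Every automorphism of J₁ is inner.
-/

set_option maxRecDepth 100000

namespace H97

namespace J1

open Cfsg.Spor

/-- The code of a word in two given codes. -/
def ew (a b : ℕ) (w : List ℕ) : ℕ := w.foldl (fun c s => cm c (if s = 0 then a else b)) cOne

/-- A word evaluated in two given group elements. -/
def wordVal {G : Type*} [Group G] (a b : G) (w : List ℕ) : G :=
  w.foldl (fun c s => c * (if s = 0 then a else b)) 1

theorem code_wordVal (a b : J1) (w : List ℕ) :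
    code (wordVal a b w) = ew (code a) (code b) w := by
  have key : ∀ (w : List ℕ) (g : J1),
      code (w.foldl (fun c s => c * (if s = 0 then a else b)) g) =
        w.foldl (fun c s => cm c (if s = 0 then code a else code b)) (code g) := by
    intro w
    induction w with
    | nil => intro g; rw [List.foldl_nil, List.foldl_nil]
    | cons s w ih =>
      intro g
      rw [List.foldl_cons, List.foldl_cons, ih, code_mul, apply_ite code]
  show code (List.foldl _ 1 w) = List.foldl _ cOne w
  rw [key w 1, code_one]

theorem map_wordVal {G H : Type*} [Group G] [Group H] (f : G →* H) (a b : G) (w : List ℕ) :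
    f (wordVal a b w) = wordVal (f a) (f b) w := by
  have key : ∀ (w : List ℕ) (g : G),
      f (w.foldl (fun c s => c * (if s = 0 then a else b)) g) =
        w.foldl (fun c s => c * (if s = 0 then f a else f b)) (f g) := by
    intro w
    induction w with
    | nil => intro g; rfl
    | cons s w ih =>
      intro g
      rw [List.foldl_cons, List.foldl_cons, ih, map_mul, apply_ite f]
  rw [wordVal, wordVal, key, map_one]

theorem wordVal_mem {G : Type*} [Group G] {H : Subgroup G} {a b : G} (ha : a ∈ H) (hb : b ∈ H)
    (w : List ℕ) : wordVal a b w ∈ H := by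
  have key : ∀ (w : List ℕ) (g : G), g ∈ H →
      w.foldl (fun c s => c * (if s = 0 then a else b)) g ∈ H := by
    intro w
    induction w with
    | nil => intro g hg; exact hg
    | cons s w ih =>
      intro g hg
      rw [List.foldl_cons]
      exact ih _ (mul_mem hg (by split <;> assumption))
  exact key w 1 (one_mem H)

/-- The chosen element of order 19. -/
noncomputable def x19 : J1 := classRep 8

theorem code_x19 : code x19 = cc 8 := code_classRep 8

theorem genWords : ew (cc 8) (vc 0) genWordX = cX ∧ ew (cc 8) (vc 0) genWordY = cY := by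
  decide +kernel

theorem relations : allB 2 (fun r => ew (cc 8) (vc 0) (relLeft.getD r []) ==
    ew (cc 8) (vc 0) (relRight.getD r [])) = true := by decide +kernel

theorem closure_x19_tInv : Subgroup.closure ({x19, tInv} : Set J1) = ⊤ := by
  refine eq_top_of_gen_mem ?_ ?_
  · have : wordVal x19 tInv genWordX = genX := code_inj (by
      rw [code_wordVal, code_x19, tInv, code_inv2, code_genX]; exact genWords.1)
    rw [← this]
    exact wordVal_mem (Subgroup.subset_closure (by simp)) (Subgroup.subset_closure (by simp)) _
  · have : wordVal x19 tInv genWordY = genY := code_inj (by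
      rw [code_wordVal, code_x19, tInv, code_inv2, code_genY]; exact genWords.2)
    rw [← this]
    exact wordVal_mem (Subgroup.subset_closure (by simp)) (Subgroup.subset_closure (by simp)) _

/-- The classes of elements of order 19. -/
def cls19 (ci : ℕ) : ℕ := [8, 9, 13].getD ci 0

/-- Either the pair is an inner image of the standard pair, or it violates a relation. -/
def autOK (ci i : ℕ) : Bool :=
  if look 40 autTab (ci * 1463 + i) < 19 then
    ci == 0 && cm (cm (pw (cc 8) (look 40 autTab (ci * 1463 + i))) (vc 0))
      (pw (cc 8) (19 - look 40 autTab (ci * 1463 + i))) == vc i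
  else
    decide (look 40 autTab (ci * 1463 + i) - 19 < 2) &&
      !(ew (cc (cls19 ci)) (vc i) (relLeft.getD (look 40 autTab (ci * 1463 + i) - 19) []) ==
        ew (cc (cls19 ci)) (vc i) (relRight.getD (look 40 autTab (ci * 1463 + i) - 19) []))

theorem autOK_0 : allB 1463 (autOK 0) = true := by decide +kernel
theorem autOK_1 : allB 1463 (autOK 1) = true := by decide +kernel
theorem autOK_2 : allB 1463 (autOK 2) = true := by decide +kernel

theorem mulAut_eq_conj (φ : MulAut J1) : ∃ g : J1, MulAut.conj g = φ := by
  have hx : orderOf x19 = 19 := orderOf_classRep 8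
  obtain ⟨c, hc'⟩ := exists_isConj_classRep (φ x19)
  obtain ⟨z, hz⟩ := isConj_iff.1 hc'
  have hord : classOrd.getD c 0 = 19 := by
    rw [← orderOf_classRep, ← orderOf_conj' z, hz, ← hx]
    exact orderOf_injective φ.toMonoidHom φ.injective x19
  obtain ⟨ci, hci, rfl⟩ : ∃ ci, ∃ h : ci < 3, c = Fin.ofNat 15 (cls19 ci) :=
    (by decide : ∀ c : Fin 15, classOrd.getD c 0 = 19 →
      ∃ ci, ∃ _h : ci < 3, c = Fin.ofNat 15 (cls19 ci)) c hord
  set ψ : MulAut J1 := (MulAut.conj z)⁻¹ * φ with hψ
  have hψx : ψ x19 = classRep (Fin.ofNat 15 (cls19 ci)) := by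
    rw [hψ, MulAut.mul_apply, ← hz]
    simp [mul_assoc]
  have hψt : orderOf (ψ tInv) = 2 :=
    (orderOf_injective ψ.toMonoidHom ψ.injective tInv).trans orderOf_tInv
  obtain ⟨i, hi, ei⟩ := exists_inv2 hψt
  have hok : autOK ci i = true := by
    interval_cases ci
    · exact allB_spec autOK_0 i hi
    · exact allB_spec autOK_1 i hi
    · exact allB_spec autOK_2 i hi
  have hlt : cls19 ci < 15 := by interval_cases ci <;> decide
  have hcode : code (classRep (Fin.ofNat 15 (cls19 ci))) = cc (cls19 ci) := by
    rw [code_classRep, Fin.val_ofNat, Nat.mod_eq_of_lt hlt]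
  unfold autOK at hok
  set v := look 40 autTab (ci * 1463 + i)
  split at hok
  · rename_i hv
    simp only [Bool.and_eq_true, beq_iff_eq] at hok
    obtain ⟨h0, he⟩ := hok
    subst h0
    refine ⟨z * x19 ^ v, ?_⟩
    have hinv : x19 ^ (19 - v) = (x19 ^ v)⁻¹ := by
      apply eq_inv_of_mul_eq_one_left
      rw [← pow_add, Nat.sub_add_cancel hv.le, ← hx, pow_orderOf_eq_one]
    have e1 : ψ x19 = MulAut.conj (x19 ^ v) x19 := by
      rw [hψx, MulAut.conj_apply, (Commute.pow_self x19 v).eq, mul_inv_cancel_right]
      rfl
    have e2 : ψ tInv = MulAut.conj (x19 ^ v) tInv := by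
      rw [ei, MulAut.conj_apply, ← hinv]
      exact code_inj (by
        rw [code_inv2, code_mul, code_mul, code_pow, code_pow, code_x19, tInv, code_inv2]
        exact he.symm)
    have : ψ.toMonoidHom = (MulAut.conj (x19 ^ v)).toMonoidHom := by
      refine MonoidHom.eq_of_eqOn_dense closure_x19_tInv ?_
      intro g hg
      rcases hg with rfl | rfl
      · exact e1
      · exact e2
    have hp : ψ = MulAut.conj (x19 ^ v) := MulEquiv.ext fun g => DFunLike.congr_fun this g
    rw [map_mul, ← hp, hψ, mul_inv_cancel_left]
  · simp only [Bool.and_eq_true, decide_eq_true_eq, Bool.not_eq_true', beq_eq_false_iff_ne] at hok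
    refine absurd ?_ hok.2
    have h := allB_spec relations _ hok.1
    simp only [beq_iff_eq] at h
    have h' : wordVal x19 tInv (relLeft.getD (v - 19) []) =
        wordVal x19 tInv (relRight.getD (v - 19) []) := code_inj (by
      rw [code_wordVal, code_wordVal, code_x19, tInv, code_inv2]; exact h)
    have h'' := congrArg (fun g => code (ψ.toMonoidHom g)) h'
    simp only [map_wordVal, code_wordVal] at h''
    rw [show ψ.toMonoidHom x19 = _ from hψx, show ψ.toMonoidHom tInv = _ from ei, hcode,
      code_inv2] at h''
    exact h''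

theorem card_out : Nat.card (Cfsg.Out J1) = 1 := by
  have : (Cfsg.Inn J1) = ⊤ := by
    rw [eq_top_iff]
    intro φ _
    exact mulAut_eq_conj φ
  show Nat.card (MulAut J1 ⧸ Cfsg.Inn J1) = 1
  rw [← Subgroup.index, this, Subgroup.index_top]

end J1

end H97
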