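import Cfsg.Agent.H97.J1Simple
import Cfsg.Agent.H97.Schur

/-!
The Schur multiplier of J₁ is trivial.
-/

set_option maxRecDepth 100000

namespace H97

namespace J1

open Cfsg.Spor Subgroup

def sv (n : ℕ) : ℕ := sylTab.getD n 0

/-- The generators of a Sylow 2-subgroup, and an element normalising it. -/
noncomputable def sg (n : ℕ) : J1 := el (sv n)

/-- The `k`-th element of the Sylow 2-subgroup. -/
def sylCode (k : ℕ) : ℕ :=
  cm (cm (pw (ec (sv 0)) (k % 2)) (pw (ec (sv 1)) (k / 2 % 2))) (pw (ec (sv 2)) (k / 4 % 2))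

noncomputable def sylEl (k : ℕ) : J1 := sg 0 ^ (k % 2) * sg 1 ^ (k / 2 % 2) * sg 2 ^ (k / 4 % 2)

theorem code_sylEl (k : ℕ) : code (sylEl k) = sylCode k := by
  rw [sylEl, code_mul, code_mul, code_pow, code_pow, code_pow, sylCode, sg, sg, sg, code_el,
    code_el, code_el]

def xorIdx (a b : ℕ) : ℕ :=
  (a % 2 + b % 2) % 2 + 2 * ((a / 2 % 2 + b / 2 % 2) % 2) + 4 * ((a / 4 % 2 + b / 4 % 2) % 2)

theorem sylTable : allB 8 (fun a => allB 8 fun b =>
    cm (sylCode a) (sylCode b) == sylCode (xorIdx a b) &&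
      (b == a || !(sylCode a == sylCode b))) = true := by
  decide +kernel

theorem conjRels : cm (ec (sv 3)) (ec (sv 0)) = cm (ec (sv 1)) (ec (sv 3)) ∧
    cm (ec (sv 3)) (ec (sv 1)) = cm (ec (sv 2)) (ec (sv 3)) ∧
    cm (ec (sv 3)) (ec (sv 2)) = cm (cm (ec (sv 0)) (ec (sv 1))) (ec (sv 3)) := by
  decide +kernel

theorem sylEl_mul {a b : ℕ} (ha : a < 8) (hb : b < 8) :
    sylEl a * sylEl b = sylEl (xorIdx a b) := by
  have h := allB_spec (allB_spec sylTable a ha) b hb
  simp only [Bool.and_eq_true, beq_iff_eq] at h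
  exact code_inj (by rw [code_mul, code_sylEl, code_sylEl, code_sylEl]; exact h.1)

/-- The elementary abelian Sylow 2-subgroup of J₁. -/
noncomputable def syl2 : Subgroup J1 where
  carrier := Set.range fun k : Fin 8 => sylEl k
  one_mem' := ⟨0, by simp [sylEl]⟩
  mul_mem' := by
    rintro _ _ ⟨a, rfl⟩ ⟨b, rfl⟩
    exact ⟨⟨xorIdx a b, by unfold xorIdx; omega⟩, (sylEl_mul a.isLt b.isLt).symm⟩
  inv_mem' := by
    rintro _ ⟨a, rfl⟩
    refine ⟨a, eq_inv_of_mul_eq_one_left ?_⟩
    show sylEl a * sylEl a = 1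
    rw [sylEl_mul a.isLt a.isLt, show xorIdx a a = 0 by unfold xorIdx; omega]
    simp [sylEl]

theorem card_syl2 : Nat.card syl2 = 8 := by
  show Nat.card (Set.range fun k : Fin 8 => sylEl k) = 8
  rw [Nat.card_range_of_injective, Nat.card_fin]
  intro a b h
  have h' := allB_spec (allB_spec sylTable a a.isLt) b b.isLt
  simp only [Bool.and_eq_true, Bool.or_eq_true, beq_iff_eq, Bool.not_eq_true',
    beq_eq_false_iff_ne] at h'
  exact Fin.ext (h'.2.resolve_right fun hn => hn (by
    rw [← code_sylEl, ← code_sylEl]; exact congrArg code h)).symm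

theorem ker_eq_bot_J1 (Γ : Type) [Group Γ] [Finite Γ] (σ : Γ →* J1)
    (hσ : Cfsg.IsStemExtension σ) : σ.ker = ⊥ := by
  refine ker_eq_bot_of_sylow hσ fun p hp P z hz _ hcomm => ?_
  suffices h : ∀ a b : P, Commute a b by
    exact congrArg Subtype.val (commutator_trivial_of_comm h hcomm)
  obtain ⟨hs, hc, -⟩ := hσ
  by_cases h2 : p = 2
  swap
  · refine commute_of_not_sq_dvd hs hc ?_ P
    rw [card_J1]
    intro hdvd
    have hle : p ^ 2 ≤ 175560 := Nat.le_of_dvd (by norm_num) hdvd
    have h1 : p ∣ 175560 := (dvd_pow_self p two_ne_zero).trans hdvd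
    have : p ∈ Nat.primeFactorsList 175560 :=
      (Nat.mem_primeFactorsList (by norm_num)).2 ⟨hp.out, h1⟩
    simp only [Nat.primeFactorsList_ofNat, List.mem_cons, List.not_mem_nil, or_false] at this
    rcases this with rfl | rfl | rfl | rfl | rfl | rfl | rfl | rfl <;> revert hdvd <;>
      first
        | exact absurd rfl h2
        | norm_num
  subst h2
  let E : Sylow 2 J1 := Sylow.ofCard syl2 (by
    rw [card_syl2, card_J1, show (175560 : ℕ) = 2 ^ 3 * 21945 by norm_num,
      Nat.factorization_mul (by norm_num) (by norm_num), Nat.Prime.factorization_pow Nat.prime_two,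
      Finsupp.add_apply, Finsupp.single_eq_same,
      Nat.factorization_eq_zero_of_not_dvd (by norm_num)]
    norm_num)
  refine commute_of_preimage_comm hs E ?_ P
  obtain ⟨A, hA⟩ := hs (sg 0)
  obtain ⟨S, hS⟩ := hs (sg 3)
  obtain ⟨r1, r2, r3⟩ := conjRels
  have g1 : sg 1 = sg 3 * sg 0 * (sg 3)⁻¹ := eq_mul_inv_of_mul_eq
    (code_inj (by rw [code_mul, code_mul, sg, sg, sg, code_el, code_el, code_el]; exact r1.symm))
  have g2 : sg 2 = sg 3 * sg 1 * (sg 3)⁻¹ := eq_mul_inv_of_mul_eq
    (code_inj (by rw [code_mul, code_mul, sg, sg, sg, code_el, code_el, code_el]; exact r2.symm))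
  have g3 : sg 3 * sg 2 * (sg 3)⁻¹ = sg 0 * sg 1 := mul_inv_eq_iff_eq_mul.2
    (code_inj (by
      rw [code_mul, code_mul, code_mul, sg, sg, sg, sg, code_el, code_el, code_el, code_el]
      exact r3))
  set B := MulAut.conj S A with hB'
  set C := MulAut.conj S B with hC'
  have hB : σ B = sg 1 := by rw [hB', MulAut.conj_apply, map_mul, map_mul, map_inv, hA, hS, g1]
  have hC : σ C = sg 2 := by rw [hC', MulAut.conj_apply, map_mul, map_mul, map_inv, hB, hS, g2]
  set D := MulAut.conj S C with hD'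
  have hD : σ D = sg 0 * sg 1 := by
    rw [hD', MulAut.conj_apply, map_mul, map_mul, map_inv, hC, hS, g3]
  have comm01 : Commute (sg 0) (sg 1) := by
    have e : sylEl 1 * sylEl 2 = sylEl 2 * sylEl 1 := by
      rw [sylEl_mul (by norm_num) (by norm_num), sylEl_mul (by norm_num) (by norm_num)]; rfl
    show _ = _
    simpa [sylEl] using e
  have comm02 : Commute (sg 0) (sg 2) := by
    have e : sylEl 1 * sylEl 4 = sylEl 4 * sylEl 1 := by
      rw [sylEl_mul (by norm_num) (by norm_num), sylEl_mul (by norm_num) (by norm_num)]; rfl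
    show _ = _
    simpa [sylEl] using e
  have kcomm : ∀ k ∈ σ.ker, ∀ x : Γ, x * k = k * x := fun k hk x => mem_center_iff.1 (hc hk) x
  obtain ⟨u, hu'⟩ : ∃ u, u = A * B * A⁻¹ * B⁻¹ := ⟨_, rfl⟩
  obtain ⟨v, hv'⟩ : ∃ v, v = A * C * A⁻¹ * C⁻¹ := ⟨_, rfl⟩
  have hu : u ∈ σ.ker := by
    simp only [hu', MonoidHom.mem_ker, map_mul, map_inv, hA, hB, comm01.eq, mul_inv_cancel_right,
      mul_inv_cancel]
  have hv : v ∈ σ.ker := by
    simp only [hv', MonoidHom.mem_ker, map_mul, map_inv, hA, hC, comm02.eq, mul_inv_cancel_right,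
      mul_inv_cancel]
  obtain ⟨w, hw'⟩ : ∃ w, w = (A * B)⁻¹ * D := ⟨_, rfl⟩
  have hw : w ∈ σ.ker := by
    simp only [hw', MonoidHom.mem_ker, map_mul, map_inv, hA, hB, hD, inv_mul_cancel]
  have hfix : ∀ k ∈ σ.ker, MulAut.conj S k = k := fun k hk => by
    rw [MulAut.conj_apply, kcomm k hk S, mul_inv_cancel_right]
  have hDe : D = A * B * w := by rw [hw']; group
  have eAB : A * B = u * (B * A) := by rw [hu']; group
  have eAC : A * C = v * (C * A) := by rw [hv']; group
  have eBC : B * C = u * (C * B) := by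
    have := congrArg (MulAut.conj S) eAB
    rwa [map_mul, map_mul, map_mul, hfix u hu] at this
  have eCD : C * D = u * (D * C) := by
    have := congrArg (MulAut.conj S) eBC
    rwa [map_mul, map_mul, map_mul, hfix u hu] at this
  have eBD : B * D = v * (D * B) := by
    have := congrArg (MulAut.conj S) eAC
    rwa [map_mul, map_mul, map_mul, hfix v hv] at this
  have hvu : v * u = 1 := by
    have h1 : B * D = B * A * B * w := by rw [hDe]; group
    have h2 : v * (D * B) = v * u * (B * A * B * w) := by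
      rw [hDe, mul_assoc (A * B) w B, ← kcomm w hw B, eAB]
      group
    have h3 := eBD
    rw [h2, h1] at h3
    exact mul_eq_right.1 h3.symm
  have hu1 : u = 1 := by
    have hl : C * D = v⁻¹ * u⁻¹ * (A * B * C * w) := by
      have hCA : C * A = v⁻¹ * (A * C) := by rw [eAC]; group
      have hCB : C * B = u⁻¹ * (B * C) := by rw [eBC]; group
      calc C * D = C * A * B * w := by rw [hDe]; group
        _ = v⁻¹ * (A * (C * B)) * w := by rw [hCA]; group
        _ = v⁻¹ * (A * u⁻¹) * (B * C) * w := by rw [hCB]; group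
        _ = v⁻¹ * u⁻¹ * (A * B * C * w) := by
          rw [kcomm u⁻¹ (inv_mem hu) A]; group
    have hr : D * C = A * B * C * w := by
      rw [hDe, mul_assoc (A * B) w C, ← kcomm w hw C]; group
    have hone : v⁻¹ * u⁻¹ = 1 := by
      have : v * u = u * v := (kcomm u hu v)
      rw [← mul_inv_rev, ← this, hvu, inv_one]
    rw [hone, one_mul] at hl
    have := eCD
    rw [hl, hr] at this
    exact mul_eq_right.1 this.symm
  have hv1 : v = 1 := by simpa [hu1] using hvu
  have cAB : Commute A B := by simpa [Commute, SemiconjBy, hu1] using eAB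
  have cAC : Commute A C := by simpa [Commute, SemiconjBy, hv1] using eAC
  have cBC : Commute B C := by simpa [Commute, SemiconjBy, hu1] using eBC
  have lift : ∀ a : Γ, σ a ∈ E →
      ∃ i j k : ℕ, ∃ n ∈ σ.ker, a = A ^ i * B ^ j * C ^ k * n := by
    rintro a ⟨e, he⟩
    refine ⟨(e : ℕ) % 2, (e : ℕ) / 2 % 2, (e : ℕ) / 4 % 2,
      (A ^ ((e : ℕ) % 2) * B ^ ((e : ℕ) / 2 % 2) * C ^ ((e : ℕ) / 4 % 2))⁻¹ * a, ?_, ?_⟩
    · rw [MonoidHom.mem_ker, map_mul, map_inv, map_mul, map_mul, map_pow, map_pow, map_pow,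
        hA, hB, hC, ← he]
      exact inv_mul_cancel _
    · group
  intro a b ha hb
  obtain ⟨i, j, k, n, hn, rfl⟩ := lift a ha
  obtain ⟨i', j', k', n', hn', rfl⟩ := lift b hb
  have cn : ∀ x : Γ, Commute x n := fun x => kcomm n hn x
  have cn' : ∀ x : Γ, Commute x n' := fun x => kcomm n' hn' x
  have cA : Commute A (A ^ i' * B ^ j' * C ^ k') :=
    ((Commute.self_pow A i').mul_right (cAB.pow_right j')).mul_right (cAC.pow_right k')
  have cB : Commute B (A ^ i' * B ^ j' * C ^ k') :=
    ((cAB.symm.pow_right i').mul_right (Commute.self_pow B j')).mul_right (cBC.pow_right k')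
  have cC : Commute C (A ^ i' * B ^ j' * C ^ k') :=
    ((cAC.symm.pow_right i').mul_right (cBC.symm.pow_right j')).mul_right (Commute.self_pow C k')
  exact ((((cA.pow_left i).mul_left (cB.pow_left j)).mul_left (cC.pow_left k)).mul_left
    (cn _).symm).mul_right (cn' _)

theorem hasTrivialMultiplier_J1 : Cfsg.HasCyclicSchurMultiplier J1 1 := by
  haveI : Finite J1 := Nat.finite_of_card_ne_zero (by rw [card_J1]; norm_num)
  exact hasTrivialMultiplier ker_eq_bot_J1

end J1

end H97
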