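import Mathlib.Data.List.Basic

/-! Data for the automorphisms of J3. -/

set_option autoImplicit false
set_option maxRecDepth 20000

namespace H97.J3Out

/-- element of order seventeen -/
def locX : Nat × Nat × Nat := (0, 1, 0)
/-- element of order eight normalizing it -/
def locH : Nat × Nat × Nat := (5624, 5, 26)
/-- involution normalizing the cyclic group of order eight -/
def locW : Nat × Nat × Nat := (518, 30, 2)
/-- fixed points of the first element -/
def fixX : List Nat := [0, 5624]
/-- fixed points of the square of the second -/
def fixQ : List Nat := [0, 518, 1993, 4265, 4739, 5136, 5244, 5318, 5427, 5624, 5652, 5686]
/-- witnesses of transitivity on them -/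
def witQ : List (Nat × Nat × Nat) := [(0, 0, 0), (518, 1, 74), (1993, 25, 13), (4265, 11, 49), (4739, 31, 36), (5136, 11, 109), (5244, 10, 14), (5318, 5, 4), (5427, 9, 35), (5624, 5, 26), (5652, 46, 55), (5686, 7, 24)]
/-- centraliser of the first element in the point stabiliser -/
def listX : List Nat := [1210107565283851686118401, 102961989726120444742257095103546345200641835417, 215253655380928579544973903616730182819704078262, 404409061570897946627292552335957260485121433072, 408443755145286636556594590292635106228154187601, 610112007623038154702801334575792220743332765614, 657142250521041159690397330331086325703397493342, 736852480674456730385507963730599453798866139173, 1082168312369881381533151015571156150447591131297, 1616373363357836568124218212669387842844021497006, 1651202146311985265949952539196445052626360071741, 1754157253955155437155926362938625070029581790999, 1956591387670632020222346602809943236812648187603, 2199260268321902850007757152475425766167439918842, 2307158316543224995614251761991364878985692142704, 2645148957344715274059479668971804904620739156086, 2712458921392832963945557172707145442369540743801]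
/-- centraliser of the square of the second element in the point stabiliser -/
def listQ : List Nat := [1210107565283851686118401, 138780538772787595632411742781970091688450493860, 435031049063802124997531398251862319802393192115, 459359064092204822979854262771218206554898794041, 1334002336637431836031632515406885235858887866832, 1356152447130516984855987803727073500329818586273, 2425110247338999365535151241346790185809163293084, 2620730595821522899025649901138565540462784865869]
/-- centraliser of the second element -/
def listH : List Nat := [1210107565283851686118401, 26901497443234149648775416637672818370669761622, 138780538772787595632411742781970091688450493860, 312492989144593527001917461051182429907700873039, 312612907739600844209659963507972450075811817962, 435031049063802124997531398251862319802393192115, 459359064092204822979854262771218206554898794041, 904990952746010968820324147880790190696835660148]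
/-- relations -/
def rels : List (Nat × Nat × Nat) := [(9, 1, 0), (9, 2, 0), (5, 3, 3)]
/-- the two possible images -/
def surv : List (Nat × Nat) := [(1, 91344245705849777599922050002798731581747909136), (1, 1247209454826227906826132107833664477323482466074)]
/-- words for the generators -/
def wordsS : List (List Nat) := [[0, 0, 1, 0, 1, 0, 1, 0, 0, 1, 0, 0, 0, 1, 0, 0, 1, 0, 1, 0, 0, 0, 0, 0, 1, 0, 1, 0, 0, 1, 0], [0, 0, 1, 0, 0, 0, 1, 0, 0, 0, 0, 1, 0, 0, 0, 0, 0, 0, 0, 1, 0, 1, 0, 1, 0, 0, 1, 0, 0, 0, 0, 0, 1, 0, 1, 0, 0, 1]]
/-- the permutation matrix -/
def permP : Nat := 606825246535404067751937
/-- images of the generators under the field automorphism -/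
def frobLoc : List (Nat × Nat × Nat) := [(5487, 11, 52), (2, 0, 0)]

end H97.J3Out
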