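import Cfsg.Agent.H97.J3Quot
import Cfsg.Agent.H97.J3OutData
import Cfsg.Agent.H97.J3ScanData

/-!
The computations for the automorphisms of J3.
-/

set_option autoImplicit false
set_option maxRecDepth 100000

namespace H97.J3Out

open H94.J3

/-- code of the element of order seventeen -/
def rawX : ℕ := triCode locX
/-- code of the element of order eight -/
def rawH : ℕ := triCode locH
/-- square of the element of order eight -/
def rawQ : ℕ := H94.J3.mul rawH rawH
/-- class codes -/
def xc : ℕ := canon rawX
/-- class of the element of order eight -/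
def hc : ℕ := canon rawH
/-- class of the involution -/
def wc : ℕ := canon (triCode locW)
/-- class of the square -/
def qc : ℕ := canon rawQ

/-- a relator value: `((X^a Y) (X^b Y))^o`, the second factor absent for `b = 0` -/
def relC (xk y : ℕ) (r : ℕ × ℕ × ℕ) : ℕ :=
  qpow (if r.2.2 = 0 then qop (qpow xk r.2.1) y
    else qop (qop (qop (qpow xk r.2.1) y) (qpow xk r.2.2)) y) r.1

/-- all relators vanish -/
def relsC (xk y : ℕ) : Bool := rels.all fun r => relC xk y r == qone

/-- value of a word in the two elements -/
def wordC (w : List ℕ) : ℕ := w.foldl (fun acc i => qop acc (if i = 0 then xc else wc)) qone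

theorem tri_ok : ([locX, locH, locW] ++ witQ ++ frobLoc).all triOK = true := by decide +kernel

theorem fixX_check : fixCheck rawX fixX = true := by decide +kernel
theorem fixQ_check : fixCheck rawQ fixQ = true := by decide +kernel
theorem scanX_check : fixX = [0, ptX1] ∧ scanAt rawX rawX 0 scanX0 listX = true ∧
    scanAt rawX rawX1 ptX1 scanX1 listX = true := by decide +kernel
theorem scanQ_check : scanAt rawQ rawQ 0 scanQ0 listQ = true := by decide +kernel

theorem small_checks :
    (fixTest rawX 0 && fixTest rawQ 0) = true ∧
    (fixQ.all fun i => witQ.any fun t => t.1 == i) = true ∧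
    (witQ.all fun t => qop (canon (triCode t)) qc == qop qc (canon (triCode t))) = true ∧
    (listX.all fun v => (List.range 17).any fun k => qpow xc k == v) = true ∧
    (witQ.all fun t => listQ.all fun s =>
      let g := qop (canon (triCode t)) s
      !(qop g hc == qop hc g) || listH.contains g) = true ∧
    qpow xc 17 = qone ∧ xc ≠ qone ∧ qop hc xc = qop (qpow xc 2) hc ∧
    qpow hc 8 = qone ∧ qop wc hc = qop (qpow hc 3) wc ∧ qop hc hc = qc ∧
    relsC xc wc = true ∧ surv.length = 2 := by
  decide +kernel

theorem survivors_check : (([1, 3] : List ℕ).all fun k => listH.all fun v =>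
    !(relsC (qpow xc k) (qop v wc)) || surv.contains (k, qop v wc)) = true := by decide +kernel

theorem words_check : wordsS.length = 2 ∧ wordC (wordsS.getD 0 []) = canon (D.sgen 0) ∧
    wordC (wordsS.getD 1 []) = canon (D.sgen 1) := by decide +kernel

/-- the field automorphism on codes -/
def frobCode (x : ℕ) : ℕ := mk2 (lo x ^^^ hi x) (hi x)

/-- the field automorphism followed by the permutation -/
def alphaCode (x : ℕ) : ℕ := H94.J3.mul permP (H94.J3.mul (frobCode x) permP)

theorem alpha_checks : H94.J3.mul permP permP = eye ∧
    (alphaCode (D.sgen 0) = triCode (frobLoc.getD 0 (0, 0, 0)) ∧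
      alphaCode (D.sgen 1) = triCode (frobLoc.getD 1 (0, 0, 0))) ∧
    alphaCode D.wScal = H94.J3.mul D.wScal D.wScal ∧
    H94.J3.mul D.wScal D.wScal ≠ D.wScal := by decide +kernel

end H97.J3Out
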