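import Cfsg.Agent.H97.J3OutChecks

/-!
The outer automorphism group of J3 has order two.
-/

set_option autoImplicit false

namespace H97.J3Out

open Cfsg Cfsg.Spor H94.J3 SchurCert H97.J3Schur
open scoped MatrixGroups

/-- Value of a relator. -/
def relG {M : Type*} [Monoid M] (A B : M) (r : ℕ × ℕ × ℕ) : M :=
  (if r.2.2 = 0 then A ^ r.2.1 * B else A ^ r.2.1 * B * A ^ r.2.2 * B) ^ r.1

theorem map_relG {M N : Type*} [Monoid M] [Monoid N] (φ : M →* N) (A B : M) (r : ℕ × ℕ × ℕ) :
    φ (relG A B r) = relG (φ A) (φ B) r := by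
  unfold relG
  split <;> simp [map_mul, map_pow]

theorem mult_two : (List.range 17).all (fun k => k == 0 ||
    (List.range 8).any fun i => ([1, 3] : List ℕ).contains (2 ^ i * k % 17)) = true := by decide

section
variable {F : Type*} [Field F] [Fintype F] [CharP F 2] {ω : F} (hω : ω ^ 2 + ω + 1 = 0)
  (C : Chain ω) (hF : Fintype.card F = 4)
include hω hF

/-- classes of the three elements, with what was computed about them -/
theorem exists_setting : ∃ x h w : C.G ⧸ Subgroup.center C.G,
    qcode hω C x = xc ∧ qcode hω C h = hc ∧ qcode hω C w = wc ∧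
    (∀ t, Commute t x → ∃ j : ℕ, t = x ^ j) ∧
    (∀ c, Commute c h → qcode hω C c ∈ listH) := by
  have hok := tri_ok
  rw [List.all_eq_true] at hok
  obtain ⟨gx, hgx, hx0⟩ := exists_tri hω C (hok locX (by simp))
  obtain ⟨gh, hgh, -⟩ := exists_tri hω C (hok locH (by simp))
  obtain ⟨gw, hgw, -⟩ := exists_tri hω C (hok locW (by simp))
  have hm : ∀ p q : C.G, code hω C (p * q) = H94.J3.mul (code hω C p) (code hω C q) :=
    (coding hω C).map_mul
  obtain ⟨hfix, hwit, hwc, hX, hH, -, -, -, -, -, hqq, -, -⟩ := small_checks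
  rw [Bool.and_eq_true] at hfix
  have fix0 : ∀ y : C.G, fixTest (code hω C y) 0 = true →
      rho hω C y ⟨0, by norm_num⟩ = ⟨0, by norm_num⟩ := by
    intro y hy
    refine rho_eq hω C ?_
    show tm ω (P 0) * ((y : GL F9 F) * tm ω (P 0)) = (y : GL F9 F) * tm ω (P 0)
    rw [show ((y : GL F9 F) : Matrix F9 F9 F) = tm ω (code hω C y) from (code_spec hω C y).2,
      ← tm_mul hω, ← tm_mul hω]
    simp only [fixTest, beq_iff_eq] at hy
    rw [hy]
  have ex : code hω C gx = rawX := hgx
  have eh : code hω C gh = rawH := hgh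
  have eq2 : code hω C (gh * gh) = rawQ := by rw [hm, eh]; rfl
  have hxfix := fix0 gx (by rw [ex]; exact hfix.1)
  have hqfix := fix0 (gh * gh) (by rw [eq2]; exact hfix.2)
  refine ⟨QuotientGroup.mk gx, QuotientGroup.mk gh, QuotientGroup.mk gw,
    by rw [qcode_mk hω C hF, ex]; rfl, by rw [qcode_mk hω C hF, eh]; rfl,
    by rw [qcode_mk hω C hF, hgw]; rfl, fun t ht => ?_, fun c hc => ?_⟩
  · induction t using QuotientGroup.induction_on with
    | _ g =>
      have hi := exists_lift_fix hω C (y := gx) (L := fixX) (by rw [ex]; exact fixX_check) hxfix ht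
      obtain ⟨hfixX, hs0, hs1⟩ := scanX_check
      rw [hfixX] at hi
      have hmem : qcode hω C (QuotientGroup.mk g) ∈ listX := by
        simp only [List.mem_cons, List.not_mem_nil, or_false] at hi
        rcases hi with hi | hi
        · exact qcode_mem_scan hω C hF (y := gx) hxfix (by rw [ex]; exact hs0) hi ht
        · exact qcode_mem_scan hω C hF (y := gx) hxfix (by rw [ex]; exact hs1) hi ht
      obtain ⟨j, -, hj⟩ := List.any_eq_true.1 (List.all_eq_true.1 hX _ hmem)
      refine ⟨j, qcode_inj hω C hF ?_⟩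
      rw [qcode_pow hω C hF, qcode_mk hω C hF (g := gx), ex]
      exact (beq_iff_eq.1 hj).symm
  · induction c using QuotientGroup.induction_on with
    | _ g =>
      have hcq : Commute (QuotientGroup.mk g : C.G ⧸ Subgroup.center C.G)
          (QuotientGroup.mk (gh * gh)) := by
        rw [QuotientGroup.mk_mul]; exact hc.mul_right hc
      have hi := exists_lift_fix hω C (y := gh * gh) (L := fixQ) (by rw [eq2]; exact fixQ_check)
        hqfix hcq
      obtain ⟨t, ht, hti⟩ := List.any_eq_true.1 (List.all_eq_true.1 hwit _ hi)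
      obtain ⟨gt, hgt, ht0⟩ := exists_tri hω C (hok t (by simp [ht]))
      have hqc : qcode hω C (QuotientGroup.mk (gh * gh)) = qc := by
        rw [qcode_mk hω C hF, eq2]; rfl
      have htq : qcode hω C (QuotientGroup.mk gt) = canon (triCode t) := by
        rw [qcode_mk hω C hF, hgt]
      have hct : Commute (QuotientGroup.mk gt : C.G ⧸ Subgroup.center C.G)
          (QuotientGroup.mk (gh * gh)) := qcode_inj hω C hF (by
        rw [qcode_mul hω C hF, qcode_mul hω C hF, htq, hqc]
        exact beq_iff_eq.1 (List.all_eq_true.1 hwc t ht))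
      have hs : Commute (QuotientGroup.mk (gt⁻¹ * g) : C.G ⧸ Subgroup.center C.G)
          (QuotientGroup.mk (gh * gh)) := by
        rw [QuotientGroup.mk_mul, QuotientGroup.mk_inv]; exact hct.inv_left.mul_left hcq
      have hs0 : ((rho hω C (gt⁻¹ * g) ⟨0, by norm_num⟩ : Fin 6156) : ℕ) = 0 := by
        have hgi : rho hω C g ⟨0, by norm_num⟩ = rho hω C gt ⟨0, by norm_num⟩ :=
          Fin.ext ((beq_iff_eq.1 hti).symm.trans ht0.symm)
        rw [map_mul, Equiv.Perm.mul_apply, hgi, ← Equiv.Perm.mul_apply, ← map_mul, inv_mul_cancel,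
          map_one]
        rfl
      have hsmem := qcode_mem_scan hω C hF (y := gh * gh) hqfix (by rw [eq2]; exact scanQ_check)
        hs0 hs
      have hgeq : qcode hω C (QuotientGroup.mk g) =
          qop (canon (triCode t)) (qcode hω C (QuotientGroup.mk (gt⁻¹ * g))) := by
        rw [← htq, ← qcode_mul hω C hF, ← QuotientGroup.mk_mul, mul_inv_cancel_left]
      have hlist := List.all_eq_true.1 (List.all_eq_true.1 hH t ht) _ hsmem
      simp only [← hgeq, Bool.or_eq_true, Bool.not_eq_true', List.contains_iff_mem] at hlist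
      refine hlist.resolve_left ?_
      rw [Bool.not_eq_false, beq_iff_eq]
      have hhc : qcode hω C (QuotientGroup.mk gh) = J3Out.hc := by
        rw [qcode_mk hω C hF, eh]; rfl
      rw [← hhc, ← qcode_mul hω C hF, ← qcode_mul hω C hF, hc.eq]

/-- The certified elements generate. -/
theorem closure_xw {x w : C.G ⧸ Subgroup.center C.G} (hx : qcode hω C x = xc)
    (hw : qcode hω C w = wc) : Subgroup.closure {x, w} = ⊤ := by
  obtain ⟨hlen, h0, h1⟩ := words_check
  have key : ∀ (l : List ℕ) (g : C.G ⧸ Subgroup.center C.G), g ∈ Subgroup.closure {x, w} →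
      ∃ r ∈ Subgroup.closure {x, w},
        qcode hω C r = l.foldl (fun acc i => qop acc (if i = 0 then xc else wc)) (qcode hω C g) := by
    intro l
    induction l with
    | nil => intro g hg; exact ⟨g, hg, rfl⟩
    | cons i l ih =>
      intro g hg
      obtain ⟨r, hr, e⟩ := ih (g * if i = 0 then x else w) (mul_mem hg (by
        split <;> exact Subgroup.subset_closure (by simp)))
      refine ⟨r, hr, e.trans ?_⟩
      rw [List.foldl_cons, qcode_mul hω C hF]
      split <;> rename_i h <;> simp [h, hx, hw]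
  have hgen : ∀ k : Fin 2, (QuotientGroup.mk ⟨C.s k, Subgroup.subset_closure ⟨k, rfl⟩⟩ :
      C.G ⧸ Subgroup.center C.G) ∈ Subgroup.closure {x, w} := by
    intro k
    obtain ⟨r, hr, e⟩ := key (wordsS.getD k.val []) 1 (one_mem _)
    rw [show qcode hω C (1 : C.G ⧸ Subgroup.center C.G) = qone from (qcoding hω C hF).map_one] at e
    have hk : qcode hω C r = canon (D.sgen k) := by
      refine e.trans ?_
      fin_cases k
      · exact h0
      · exact h1
    convert hr using 1
    refine qcode_inj hω C hF ?_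
    rw [hk, qcode_mk hω C hF]
    rw [code_eq hω C (of_decide_eq_true (List.all_eq_true.1 seeds_small _
      (Fin.forall_fin_two (p := fun j : Fin 2 => D.sgen j ∈ seeds).2 ⟨List.mem_append_left _ List.mem_cons_self,
        List.mem_append_left _ (List.mem_cons_of_mem _ List.mem_cons_self)⟩ k))) (C.rep_s k)]
  refine eq_top_iff.2 fun q _ => ?_
  induction q using QuotientGroup.induction_on with
  | _ g =>
    obtain ⟨g, hg⟩ := g
    have : ∀ v (hv : v ∈ C.G), (QuotientGroup.mk (⟨v, hv⟩ : C.G) : C.G ⧸ Subgroup.center C.G) ∈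
        Subgroup.closure {x, w} := by
      intro v hv
      induction hv using Subgroup.closure_induction with
      | mem u hu => obtain ⟨k, rfl⟩ := hu; exact hgen k
      | one => exact one_mem _
      | mul a b ha hb iha ihb => exact mul_mem iha ihb
      | inv a ha iha => exact inv_mem iha
    exact this g hg

theorem relsC_of_eq {x y : C.G ⧸ Subgroup.center C.G} :
    relsC (qcode hω C x) (qcode hω C y) = true ↔ ∀ r ∈ rels, relG x y r = 1 := by
  have key : ∀ r, qcode hω C (relG x y r) = relC (qcode hω C x) (qcode hω C y) r := fun r => by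
    unfold relG relC
    rw [qcode_pow hω C hF]
    split <;> simp only [qcode_mul hω C hF, qcode_pow hω C hF]
  simp only [relsC, List.all_eq_true, beq_iff_eq, ← key]
  rw [← (qcoding hω C hF).map_one]
  exact ⟨fun h r hr => qcode_inj hω C hF (h r hr), fun h r hr => congrArg (qcode hω C) (h r hr)⟩

theorem card_out_le : Nat.card (Out (C.G ⧸ Subgroup.center C.G)) ≤ 2 := by
  classical
  obtain ⟨x, h, w, hx, hh, hw, hCx, hCh⟩ := exists_setting hω C hF
  haveI : Finite C.G := Nat.finite_of_card_ne_zero (by rw [C.card_G hω]; norm_num)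
  haveI : Fact (Nat.Prime 17) := ⟨by norm_num⟩
  obtain ⟨-, -, -, -, -, hx17, hxne, hhx, hh8, hwh, -, hrel, hsurv⟩ := small_checks
  have one' : qcode hω C (1 : C.G ⧸ Subgroup.center C.G) = qone := (qcoding hω C hF).map_one
  have qeq := @qcode_inj F _ _ _ ω hω C hF
  have x17 : x ^ 17 = 1 := qeq (by rw [qcode_pow hω C hF, hx, hx17, one'])
  have xne : x ≠ 1 := fun e => hxne (by rw [← hx, e, one'])
  have ox : orderOf x = 17 := orderOf_eq_prime x17 xne
  have hconjx : h * x = x ^ 2 * h := qeq (by
    rw [qcode_mul hω C hF, qcode_mul hω C hF, qcode_pow hω C hF, hx, hh, hhx])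
  have h8 : h ^ 8 = 1 := qeq (by rw [qcode_pow hω C hF, hh, hh8, one'])
  have hwc : w * h = h ^ 3 * w := qeq (by
    rw [qcode_mul hω C hF, qcode_mul hω C hF, qcode_pow hω C hF, hw, hh, hwh])
  have hgen := closure_xw hω C hF hx hw
  have hnorm : ∀ (i k : ℕ), h ^ i * x ^ k * (h ^ i)⁻¹ = x ^ (2 ^ i * k) := by
    intro i
    induction i with
    | zero => intro k; simp
    | succ i ih =>
      intro k
      have h1 : ∀ n : ℕ, h * x ^ n * h⁻¹ = x ^ (2 * n) := fun n => by
        have : h * x * h⁻¹ = x ^ 2 := by rw [hconjx, mul_inv_cancel_right]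
        rw [← conj_pow, this, ← pow_mul]
      calc h ^ (i + 1) * x ^ k * (h ^ (i + 1))⁻¹ = h * (h ^ i * x ^ k * (h ^ i)⁻¹) * h⁻¹ := by
            rw [pow_succ']; group
        _ = x ^ (2 ^ (i + 1) * k) := by rw [ih, h1, pow_succ', mul_assoc]
  have hmodx : ∀ n, x ^ n = x ^ (n % 17) := fun n => ox ▸ (pow_mod_orderOf x n).symm
  have cardQ : Nat.card (C.G ⧸ Subgroup.center C.G) = 50232960 := (isJ3_quot hω C hF).2
  let P : Sylow 17 (C.G ⧸ Subgroup.center C.G) := Sylow.ofCard (Subgroup.zpowers x) (by
    rw [Nat.card_zpowers, ox, cardQ, show (50232960 : ℕ) = 17 * 2954880 by norm_num,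
      Nat.factorization_mul (by norm_num) (by norm_num), Finsupp.add_apply,
      Nat.Prime.factorization_self (by norm_num), Nat.factorization_eq_zero_of_not_dvd (by norm_num),
      add_zero, pow_one])
  -- every class has a normal form
  have normal : ∀ α : MulAut (C.G ⧸ Subgroup.center C.G),
      ∃ g, ∃ k, ((MulAut.conj g * α : MulAut (C.G ⧸ Subgroup.center C.G)) x = x ^ k) ∧
        (k, qcode hω C ((MulAut.conj g * α : MulAut (C.G ⧸ Subgroup.center C.G)) w)) ∈ surv := by
    intro α
    let R : Sylow 17 (C.G ⧸ Subgroup.center C.G) := Sylow.ofCard (Subgroup.zpowers (α x)) (by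
      rw [Nat.card_zpowers, MulEquiv.orderOf_eq, ox, cardQ,
        show (50232960 : ℕ) = 17 * 2954880 by norm_num,
        Nat.factorization_mul (by norm_num) (by norm_num), Finsupp.add_apply,
        Nat.Prime.factorization_self (by norm_num),
        Nat.factorization_eq_zero_of_not_dvd (by norm_num), add_zero, pow_one])
    obtain ⟨g₁, hg₁⟩ := MulAction.exists_smul_eq (C.G ⧸ Subgroup.center C.G) R P
    have hmem : g₁ * α x * g₁⁻¹ ∈ Subgroup.zpowers x := by
      have : g₁ * α x * g₁⁻¹ ∈ ((g₁ • R : Sylow 17 (C.G ⧸ Subgroup.center C.G)) : Subgroup _) := by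
        rw [Sylow.coe_subgroup_smul]
        exact ⟨α x, Subgroup.mem_zpowers _, by simp [MulAut.conj_apply]⟩
      rw [hg₁] at this
      exact this
    rw [mem_zpowers_iff_mem_range_orderOf, ox, Finset.mem_image] at hmem
    obtain ⟨k₁, hk₁, hk₁'⟩ := hmem
    rw [Finset.mem_range] at hk₁
    have hk0 : k₁ ≠ 0 := by
      rintro rfl
      rw [pow_zero, eq_comm, conj_eq_one_iff, EmbeddingLike.map_eq_one_iff] at hk₁'
      exact xne hk₁'
    have hi := List.all_eq_true.1 mult_two k₁ (List.mem_range.2 hk₁)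
    simp only [Bool.or_eq_true, beq_iff_eq, hk0, false_or, List.any_eq_true, List.mem_range,
      List.contains_iff_mem] at hi
    obtain ⟨i, -, hi⟩ := hi
    set k := 2 ^ i * k₁ % 17 with hk
    have hkk : (MulAut.conj (h ^ i * g₁) * α) x = x ^ k := by
      rw [MulAut.mul_apply, MulAut.conj_apply, hk, ← hmodx, ← hnorm, hk₁']
      group
    obtain ⟨β, hβdef⟩ : ∃ β : MulAut (C.G ⧸ Subgroup.center C.G),
        β = MulAut.conj (h ^ i * g₁) * α := ⟨_, rfl⟩
    rw [← hβdef] at hkk
    have hk13 : k = 1 ∨ k = 3 := by simpa using hi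
    obtain ⟨k', hk'⟩ : ∃ k', k * k' % 17 = 1 := by
      rcases hk13 with e | e <;> rw [e]
      · exact ⟨1, rfl⟩
      · exact ⟨6, rfl⟩
    have hxk : x = (x ^ k) ^ k' := by rw [← pow_mul, hmodx, hk', pow_one]
    have ht : Commute (h⁻¹ * β h) x := by
      have e1 : β h * x ^ k = x ^ (2 * k) * β h := by
        have := congrArg β hconjx
        rwa [map_mul, map_mul, map_pow, hkk, ← pow_mul, mul_comm k 2] at this
      have e2 : x ^ (2 * k) = h * x ^ k * h⁻¹ := by
        have := hnorm 1 k
        simpa using this.symm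
      have e3 : Commute (h⁻¹ * β h) (x ^ k) := by
        show h⁻¹ * β h * x ^ k = x ^ k * (h⁻¹ * β h)
        rw [mul_assoc, e1, e2]; group
      rw [hxk]; exact e3.pow_right k'
    obtain ⟨j, hj⟩ := hCx _ ht
    have hβh : β h = h * x ^ j := by rw [← hj, mul_inv_cancel_left]
    have hshift : x ^ (2 * j) * h = h * x ^ j := by
      have := hnorm 1 j
      rw [pow_one, pow_one] at this
      rw [← this]; group
    let γ : MulAut (C.G ⧸ Subgroup.center C.G) := MulAut.conj (x ^ (2 * j)) * β
    have hγx : γ x = x ^ k := by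
      show MulAut.conj (x ^ (2 * j)) (β x) = x ^ k
      rw [hkk, MulAut.conj_apply, ← pow_add, add_comm, pow_add, mul_inv_cancel_right]
    have hγh : γ h = h := by
      show MulAut.conj (x ^ (2 * j)) (β h) = h
      rw [hβh, MulAut.conj_apply, ← hshift, ← mul_assoc, ← pow_add, add_comm, pow_add,
        mul_assoc (x ^ (2 * j)) (x ^ (2 * j)) h, hshift, ← mul_assoc, hshift,
        mul_assoc h, ← pow_add, show j + j = 2 * j by ring, mul_inv_cancel_right]
    have hc : Commute (γ w * w⁻¹) h := by
      have e1 : γ w * h = h ^ 3 * γ w := by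
        have := congrArg γ hwc
        rwa [map_mul, map_mul, map_pow, hγh] at this
      have e2 : Commute (γ w * w⁻¹) (h ^ 3) := by
        show γ w * w⁻¹ * h ^ 3 = h ^ 3 * (γ w * w⁻¹)
        rw [← mul_assoc, ← e1, show h ^ 3 = w * h * w⁻¹ by rw [hwc, mul_inv_cancel_right]]
        group
      have : h = (h ^ 3) ^ 3 := by rw [← pow_mul, pow_succ h 8, h8, one_mul]
      rw [this]; exact e2.pow_right 3
    have hlist := hCh _ hc
    have hγw : qcode hω C (γ w) = qop (qcode hω C (γ w * w⁻¹)) wc := by
      rw [← hw, ← qcode_mul hω C hF, inv_mul_cancel_right]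
    have hrel0 : ∀ r ∈ rels, relG x w r = 1 := (relsC_of_eq hω C hF).1 (by rw [hx, hw]; exact hrel)
    have hrels : relsC (qpow xc k) (qop (qcode hω C (γ w * w⁻¹)) wc) = true := by
      rw [← hx, ← qcode_pow hω C hF, ← hγw, relsC_of_eq hω C hF]
      intro r hr
      have := congrArg γ (hrel0 r hr)
      rwa [map_one, ← MulEquiv.coe_toMonoidHom, map_relG, MulEquiv.coe_toMonoidHom, hγx] at this
    have hks : k ∈ ([1, 3] : List ℕ) := hi
    have hfin := List.all_eq_true.1 (List.all_eq_true.1 survivors_check k hks) _ hlist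
    simp only [hrels, Bool.not_true, Bool.false_or, List.contains_iff_mem] at hfin
    refine ⟨x ^ (2 * j) * (h ^ i * g₁), k, ?_, ?_⟩
    · rw [map_mul MulAut.conj, mul_assoc, ← hβdef]; exact hγx
    · rw [map_mul MulAut.conj, mul_assoc, ← hβdef]
      show (k, qcode hω C (γ w)) ∈ surv
      rw [hγw]; exact hfin
  choose gOf kOf hOf using normal
  let f : Out (C.G ⧸ Subgroup.center C.G) → {v // v ∈ surv} := fun q => ⟨_, (hOf q.out).2⟩
  have hf : Function.Injective f := by
    intro a b e
    have e' := congrArg Subtype.val e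
    simp only [f, Prod.mk.injEq] at e'
    obtain ⟨ek, ew⟩ := e'
    have same : MulAut.conj (gOf a.out) * a.out = MulAut.conj (gOf b.out) * b.out := by
      refine MulEquiv.toMonoidHom_injective (MonoidHom.eq_of_eqOn_dense hgen ?_)
      rintro v (rfl | rfl)
      · show (MulAut.conj (gOf a.out) * a.out) v = (MulAut.conj (gOf b.out) * b.out) v
        rw [(hOf a.out).1, (hOf b.out).1, ek]
      · exact qeq ew
    have hone : ∀ g, (QuotientGroup.mk (MulAut.conj g) : Out (C.G ⧸ Subgroup.center C.G)) = 1 :=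
      fun g => (QuotientGroup.eq_one_iff _).2 ⟨g, rfl⟩
    have := congrArg (QuotientGroup.mk (s := Inn (C.G ⧸ Subgroup.center C.G))) same
    rwa [QuotientGroup.mk_mul, QuotientGroup.mk_mul, hone, hone, one_mul, one_mul,
      QuotientGroup.out_eq', QuotientGroup.out_eq'] at this
  refine (Nat.card_le_card_of_injective f hf).trans ?_
  rw [Nat.card_eq_fintype_card]
  refine le_trans ?_ hsurv.le
  rw [show Fintype.card {v // v ∈ surv} = surv.toFinset.card from Fintype.card_of_subtype _ (by simp)]
  exact List.toFinset_card_le _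

omit hF in
theorem rep_frob {g : GL F9 F} {x : ℕ} (hg : Rep ω g x) :
    Rep ω (Units.map ((frobenius F 2).mapMatrix : Matrix F9 F9 F →+* _).toMonoidHom g)
      (frobCode x) := by
  show ((g : Matrix F9 F9 F)).map (frobenius F 2) = tm ω (frobCode x)
  rw [show (g : Matrix F9 F9 F) = tm ω x from hg]
  ext i j
  have ht : 9 * (e9 i : ℕ) + (e9 j : ℕ) < 81 := by
    have := (e9 i).isLt
    have := (e9 j).isLt
    omega
  have hb : ∀ b : Bool, frobenius F 2 (bcast b) = bcast b := fun b => by
    cases b <;> simp [bcast]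
  simp only [Matrix.map_apply, tm_apply, ent, frobCode, lo_mk2 _ _ ht, hi_mk2, Nat.testBit_xor,
    bcast_xor, map_add, map_mul, hb]
  rw [frobenius_def, om_sq hω]
  ring

theorem exists_outer : ∃ α : MulAut (C.G ⧸ Subgroup.center C.G),
    α ∉ Inn (C.G ⧸ Subgroup.center C.G) := by
  haveI : Finite C.G := Nat.finite_of_card_ne_zero (by rw [C.card_G hω]; norm_num)
  obtain ⟨hPP, ⟨ha0, ha1⟩, haW, hWW⟩ := alpha_checks
  obtain ⟨p, hp⟩ := exists_rep hω hPP hPP
  have hpinv : p⁻¹ = p := inv_eq_of_mul_eq_one_right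
    (Rep.eq ω ((hp.mul hω hp)) (by rw [hPP]; exact rep_one ω))
  let Ψ : GL F9 F →* GL F9 F := (MulAut.conj p).toMonoidHom.comp
    (Units.map ((frobenius F 2).mapMatrix : Matrix F9 F9 F →+* _).toMonoidHom)
  have hΨ : ∀ {g : GL F9 F} {x : ℕ}, Rep ω g x → Rep ω (Ψ g) (alphaCode x) := by
    intro g x hg
    show Rep ω (p * _ * p⁻¹) (alphaCode x)
    rw [hpinv, mul_assoc]
    exact hp.mul hω ((rep_frob hω hg).mul hω hp)
  have hinjΨ : Function.Injective Ψ := fun a b e => by
    have := (MulAut.conj p).injective e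
    refine Units.ext (Matrix.map_injective (frobenius_inj F 2) ?_)
    exact congrArg Units.val this
  have hmaps : ∀ v ∈ C.G, Ψ v ∈ C.G := by
    intro v hv
    induction hv using Subgroup.closure_induction with
    | mem u hu =>
      obtain ⟨k, rfl⟩ := hu
      have hok := tri_ok
      rw [List.all_eq_true] at hok
      obtain ⟨g, hg, -⟩ := exists_tri hω C (t := frobLoc.getD k.val (0, 0, 0))
        (hok _ (by fin_cases k <;> decide))
      have : Ψ (C.s k) = g.1 := Rep.eq ω (hΨ (C.rep_s k)) (by
        have h1 := (code_spec hω C g).2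
        rw [hg] at h1
        fin_cases k
        · rw [show alphaCode (D.sgen 0) = _ from ha0]; exact h1
        · rw [show alphaCode (D.sgen 1) = _ from ha1]; exact h1)
      rw [this]; exact g.2
    | one => rw [map_one]; exact one_mem _
    | mul a b _ _ iha ihb => rw [map_mul]; exact mul_mem iha ihb
    | inv a _ iha => rw [map_inv]; exact inv_mem iha
  let φ : C.G →* C.G := (Ψ.comp C.G.subtype).codRestrict C.G fun v => hmaps v.1 v.2
  have hφ : Function.Injective φ := fun a b e =>
    Subtype.ext (hinjΨ (congrArg Subtype.val e))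
  let e : C.G ≃* C.G := MulEquiv.ofBijective φ ⟨hφ, Finite.injective_iff_surjective.1 hφ⟩
  have hcen : (Subgroup.center C.G).map (e : C.G →* C.G) = Subgroup.center C.G := by
    refine le_antisymm ?_ ?_
    · rintro _ ⟨z, hz, rfl⟩
      exact Subgroup.mem_center_iff.2 fun v => by
        obtain ⟨v, rfl⟩ := e.surjective v
        show e v * e z = e z * e v
        rw [← map_mul, ← map_mul, Subgroup.mem_center_iff.1 hz v]
    · intro z hz
      refine ⟨e.symm z, Subgroup.mem_center_iff.2 fun v => e.injective ?_, e.apply_symm_apply z⟩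
      rw [map_mul, map_mul, e.apply_symm_apply, Subgroup.mem_center_iff.1 hz]
  refine ⟨QuotientGroup.congr _ _ e hcen, ?_⟩
  rintro ⟨q, hq⟩
  induction q using QuotientGroup.induction_on with
  | _ g =>
    have hχ : ∀ v : C.G, e v * (g * v * g⁻¹)⁻¹ ∈ Subgroup.center C.G := fun v => by
      have := DFunLike.congr_fun hq (QuotientGroup.mk v)
      rw [MulAut.conj_apply, QuotientGroup.congr_mk, ← QuotientGroup.mk_inv,
        ← QuotientGroup.mk_mul, ← QuotientGroup.mk_mul, eq_comm, ← inv_inj,
        ← QuotientGroup.mk_inv, ← QuotientGroup.mk_inv, QuotientGroup.eq, inv_inv] at this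
      exact this
    let χ : C.G →* Subgroup.center C.G :=
      { toFun := fun v => ⟨_, hχ v⟩
        map_one' := Subtype.ext (by simp)
        map_mul' := fun a b => Subtype.ext (by
          show e (a * b) * (g * (a * b) * g⁻¹)⁻¹ =
            e a * (g * a * g⁻¹)⁻¹ * (e b * (g * b * g⁻¹)⁻¹)
          rw [map_mul, show (g * (a * b) * g⁻¹)⁻¹ = (g * b * g⁻¹)⁻¹ * (g * a * g⁻¹)⁻¹ by group]
          calc e a * e b * ((g * b * g⁻¹)⁻¹ * (g * a * g⁻¹)⁻¹)
              = e a * ((e b * (g * b * g⁻¹)⁻¹) * (g * a * g⁻¹)⁻¹) := by group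
            _ = e a * ((g * a * g⁻¹)⁻¹ * (e b * (g * b * g⁻¹)⁻¹)) := by
                rw [Subgroup.mem_center_iff.1 (hχ b) (g * a * g⁻¹)⁻¹]
            _ = _ := by group) }
    have hz : χ (zel hω C) = 1 := by
      letI : CommGroup (Subgroup.center C.G) :=
        { (inferInstance : Group (Subgroup.center C.G)) with
          mul_comm := fun a b => Subtype.ext (Subgroup.mem_center_iff.1 b.2 a.1) }
      have : commutator C.G ≤ χ.ker := Abelianization.commutator_subset_ker χ
      rw [perfect hω C hF] at this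
      exact this (Subgroup.mem_top _)
    have hz' : e (zel hω C) = zel hω C := by
      have h1 : e (zel hω C) * (g * zel hω C * g⁻¹)⁻¹ = 1 := congrArg Subtype.val hz
      rw [mul_inv_eq_one, Subgroup.mem_center_iff.1 (zel_center hω C) g,
        mul_inv_cancel_right] at h1
      exact h1
    have hm : code hω C (e (zel hω C)) = alphaCode (code hω C (zel hω C)) :=
      code_eq hω C (mul_lt _ _) (hΨ (code_spec hω C (zel hω C)).2)
    rw [hz', code_zel, haW] at hm
    exact hWW hm.symm

theorem card_out : Nat.card (Out (C.G ⧸ Subgroup.center C.G)) = 2 := by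
  haveI : Finite C.G := Nat.finite_of_card_ne_zero (by rw [C.card_G hω]; norm_num)
  refine le_antisymm (card_out_le hω C hF) ?_
  obtain ⟨α, hα⟩ := exists_outer hω C hF
  haveI : Nontrivial (Out (C.G ⧸ Subgroup.center C.G)) :=
    ⟨⟨QuotientGroup.mk α, 1, fun e => hα ((QuotientGroup.eq_one_iff α).1 e)⟩⟩
  exact Finite.one_lt_card

end

theorem card_out_J3 {F : Type*} [Field F] [Fintype F] (hF : Fintype.card F = 4) {ω : F}
    (hω : ω ^ 2 + ω + 1 = 0) : Nat.card (Out (J3 F ω)) = 2 := by
  have := charP_two hF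
  obtain ⟨C⟩ := nonempty_chain (F := F) hω
  have key : ∀ G : Subgroup (GL F9 F), G = C.G →
      Nat.card (Out (↥G ⧸ Subgroup.center ↥G)) = 2 := by
    rintro G rfl
    exact card_out hω C hF
  exact key _ (G_eq_threeJ3 hω C).symm

end H97.J3Out
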