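import Cfsg.Agent.H97.SchurJ3

/-!
Codes for the central quotient of the triple cover of J3, and centralisers of fixed-point elements.
-/

set_option autoImplicit false

namespace H97.J3Out

open Cfsg Cfsg.Spor H94.J3 SchurCert H97.J3Schur
open scoped MatrixGroups

/-- times the scalar -/
def wm (x : ℕ) : ℕ := H94.J3.mul D.wScal x

/-- representative of a code up to scalars -/
def canon (x : ℕ) : ℕ := min x (min (wm x) (wm (wm x)))

/-- product in the quotient -/
def qop (a b : ℕ) : ℕ := canon (H94.J3.mul a b)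

/-- identity of the quotient -/
def qone : ℕ := canon eye

/-- powers -/
def qpow (x : ℕ) : ℕ → ℕ
  | 0 => qone
  | n + 1 => qop (qpow x n) x

/-- product of a transversal triple -/
def triCode (t : ℕ × ℕ × ℕ) : ℕ := H94.J3.mul (U t.1) (H94.J3.mul (V t.2.1) (K t.2.2))

/-- the bounds on a transversal triple -/
def triOK (t : ℕ × ℕ × ℕ) : Bool :=
  decide (t.1 < 6156) && decide (t.2.1 < 136) && decide (t.2.2 < 180)

/-- commuting up to scalars -/
def commTest (y y1 y2 g : ℕ) : Bool :=
  let A := H94.J3.mul g y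
  A == H94.J3.mul y g || A == H94.J3.mul y1 g || A == H94.J3.mul y2 g

/-- a point is fixed -/
def fixTest (y i : ℕ) : Bool :=
  let A := H94.J3.mul y (P i)
  H94.J3.mul (P i) A == A

/-- all fixed points are listed -/
def fixCheck (y : ℕ) (L : List ℕ) : Bool := allIn 0 6156 fun i => !fixTest y i || L.contains i

/-- a map of the second point set -/
def mapsQ (x i j : ℕ) : Bool :=
  decide (i < 136) && decide (j < 136) &&
    let A := H94.J3.mul x (Q i)
    H94.J3.mul (Q j) A == A

/-- The table `(b₀, images of b₀ under the two-point stabiliser, required images, images under y')`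
shows that all elements over the point `i` commuting with `y` up to scalars are listed. -/
def scanAt (y y' i : ℕ) (tb : ℕ × List ℕ × List ℕ × List ℕ) (L : List ℕ) : Bool :=
  decide (y' < 2 ^ 162) && H94.J3.mul (U i) y' == H94.J3.mul y (U i) && mapsQ y 0 tb.1 &&
  decide (tb.2.1.length = 180) &&
  (allIn 0 180 fun m => mapsQ (K m) tb.1 (tb.2.1.getD m 0)) &&
  (allIn 0 136 fun a => mapsQ y' a (tb.2.2.2.getD a 0) &&
    mapsQ (V a) (tb.2.2.1.getD a 0) (tb.2.2.2.getD a 0)) &&
  let y1 := wm y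
  let y2 := wm y1
  allIn 0 136 fun a =>
    let b := tb.2.2.1.getD a 0
    tb.2.1.zipIdx.all fun q => q.1 != b ||
      let g := H94.J3.mul (H94.J3.mul (U i) (V a)) (K q.2)
      !commTest y y1 y2 g || L.contains (canon g)

theorem wScal_lt : D.wScal < 2 ^ 162 := by decide

section
variable {F : Type*} [Field F] [Fintype F] [CharP F 2] {ω : F} (hω : ω ^ 2 + ω + 1 = 0)
  (C : Chain ω)
include hω

/-- The scalar generator. -/
noncomputable def zel : C.G :=
  ⟨(C.mem_of_memChk hω small_spec.2.2.2.2).choose,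
    (C.mem_of_memChk hω small_spec.2.2.2.2).choose_spec.1⟩

theorem code_zel : code hω C (zel hω C) = D.wScal :=
  code_eq hω C wScal_lt (C.mem_of_memChk hω small_spec.2.2.2.2).choose_spec.2

theorem zel_ne : zel hω C ≠ 1 := fun h => wit_ok.2 (by
  rw [← code_zel hω C, h]; exact (coding hω C).map_one)

theorem zel_center : zel hω C ∈ Subgroup.center C.G := Subgroup.mem_center_iff.2 fun x =>
  Subtype.ext (scalar_central (c := ω)
    (((C.mem_of_memChk hω small_spec.2.2.2.2).choose_spec.2).trans (tm_wScal hω)) x.1)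

theorem center_cases (hF : Fintype.card F = 4) {z : C.G} (hz : z ∈ Subgroup.center C.G) :
    z = 1 ∨ z = zel hω C ∨ z = zel hω C * zel hω C := by
  haveI : Finite C.G := Nat.finite_of_card_ne_zero (by rw [C.card_G hω]; norm_num)
  haveI : Fact (Nat.Prime 3) := ⟨Nat.prime_three⟩
  have hc := card_center hω C hF
  obtain ⟨k, hk⟩ := mem_zpowers_of_prime_card
    (g := (⟨_, zel_center hω C⟩ : Subgroup.center C.G)) (g' := ⟨z, hz⟩) hc
    (fun h => zel_ne hω C (congrArg Subtype.val h))
  have h3 : zel hω C ^ 3 = 1 := by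
    have := pow_card_eq_one' (x := (⟨_, zel_center hω C⟩ : Subgroup.center C.G))
    rw [hc] at this
    exact congrArg Subtype.val this
  have hk' : zel hω C ^ k = z := congrArg Subtype.val hk
  have hmod : zel hω C ^ (k % 3) = z := by
    rw [← hk']
    conv_rhs => rw [← Int.emod_add_mul_ediv k 3, zpow_add, zpow_mul,
      show zel hω C ^ (3 : ℤ) = 1 from (zpow_natCast _ 3).trans h3, one_zpow, mul_one]
  rcases (show k % 3 = 0 ∨ k % 3 = 1 ∨ k % 3 = 2 by omega) with e | e | e <;> rw [e] at hmod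
  · exact Or.inl (by rw [← hmod, zpow_zero])
  · exact Or.inr (Or.inl (by rw [← hmod, zpow_one]))
  · exact Or.inr (Or.inr (by rw [← hmod, zpow_two]))

theorem code_zel_mul (g : C.G) : code hω C (zel hω C * g) = wm (code hω C g) :=
  ((coding hω C).map_mul _ _).trans (congrArg (H94.J3.mul · (code hω C g)) (code_zel hω C))

theorem zel_cube (hF : Fintype.card F = 4) : zel hω C * (zel hω C * zel hω C) = 1 := by
  haveI : Finite C.G := Nat.finite_of_card_ne_zero (by rw [C.card_G hω]; norm_num)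
  have := pow_card_eq_one' (x := (⟨_, zel_center hω C⟩ : Subgroup.center C.G))
  rw [card_center hω C hF] at this
  have h3 : zel hω C ^ 3 = 1 := congrArg Subtype.val this
  rw [← h3, pow_succ, pow_two, mul_assoc]

theorem canon_zel_mul (hF : Fintype.card F = 4) (g : C.G) :
    canon (code hω C (zel hω C * g)) = canon (code hω C g) := by
  have h : wm (wm (wm (code hω C g))) = code hω C g := by
    rw [← code_zel_mul, ← code_zel_mul, ← code_zel_mul, ← mul_assoc, ← mul_assoc, mul_assoc (zel hω C),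
      zel_cube hω C hF, one_mul]
  rw [code_zel_mul]
  unfold canon
  rw [h]
  omega

theorem canon_center_mul (hF : Fintype.card F = 4) {z : C.G} (hz : z ∈ Subgroup.center C.G)
    (g : C.G) : canon (code hω C (z * g)) = canon (code hω C g) := by
  rcases center_cases hω C hF hz with rfl | rfl | rfl
  · rw [one_mul]
  · exact canon_zel_mul hω C hF g
  · rw [mul_assoc, canon_zel_mul hω C hF, canon_zel_mul hω C hF]

/-- canonical code of a class -/
noncomputable def qcode (q : C.G ⧸ Subgroup.center C.G) : ℕ := canon (code hω C q.out)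

theorem qcode_mk (hF : Fintype.card F = 4) (g : C.G) :
    qcode hω C (QuotientGroup.mk g) = canon (code hω C g) := by
  obtain ⟨⟨z, hz⟩, he⟩ := QuotientGroup.mk_out_eq_mul (Subgroup.center C.G) g
  rw [qcode, he, Subgroup.mem_center_iff.1 hz g]
  exact canon_center_mul hω C hF hz g

theorem qcode_inj (hF : Fintype.card F = 4) : Function.Injective (qcode hω C) := by
  intro a b h
  induction a using QuotientGroup.induction_on with
  | _ a => induction b using QuotientGroup.induction_on with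
    | _ b =>
      rw [qcode_mk hω C hF, qcode_mk hω C hF] at h
      have pick : ∀ x : C.G, ∃ z ∈ Subgroup.center C.G,
          canon (code hω C x) = code hω C (z * x) := fun x => by
        have h1 := code_zel_mul hω C x
        have h2 := code_zel_mul hω C (zel hω C * x)
        rw [h1, ← mul_assoc] at h2
        unfold canon
        rcases min_choice (code hω C x) (min (wm (code hω C x)) (wm (wm (code hω C x)))) with e | e
        · exact ⟨1, one_mem _, by rw [e, one_mul]⟩
        · rw [e]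
          rcases min_choice (wm (code hω C x)) (wm (wm (code hω C x))) with e' | e'
          · exact ⟨_, zel_center hω C, by rw [e', h1]⟩
          · exact ⟨_, mul_mem (zel_center hω C) (zel_center hω C), by rw [e', h2]⟩
      obtain ⟨u, hu, ea⟩ := pick a
      obtain ⟨v, hv, eb⟩ := pick b
      rw [ea, eb] at h
      have h' : u * a = v * b := (coding hω C).inj h
      have hu1 : (QuotientGroup.mk u : C.G ⧸ Subgroup.center C.G) = 1 := (QuotientGroup.eq_one_iff u).2 hu
      have hv1 : (QuotientGroup.mk v : C.G ⧸ Subgroup.center C.G) = 1 := (QuotientGroup.eq_one_iff v).2 hv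
      have := congrArg (QuotientGroup.mk (s := Subgroup.center C.G)) h'
      rwa [QuotientGroup.mk_mul, QuotientGroup.mk_mul, hu1, hv1, one_mul, one_mul] at this

theorem qcode_mul (hF : Fintype.card F = 4) (a b : C.G ⧸ Subgroup.center C.G) :
    qcode hω C (a * b) = qop (qcode hω C a) (qcode hω C b) := by
  induction a using QuotientGroup.induction_on with
  | _ a => induction b using QuotientGroup.induction_on with
    | _ b =>
      rw [← QuotientGroup.mk_mul, qcode_mk hω C hF, qcode_mk hω C hF, qcode_mk hω C hF, qop]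
      have pick : ∀ x : C.G, ∃ z ∈ Subgroup.center C.G,
          canon (code hω C x) = code hω C (z * x) := fun x => by
        have h1 := code_zel_mul hω C x
        have h2 := code_zel_mul hω C (zel hω C * x)
        rw [h1, ← mul_assoc] at h2
        unfold canon
        rcases min_choice (code hω C x) (min (wm (code hω C x)) (wm (wm (code hω C x)))) with e | e
        · exact ⟨1, one_mem _, by rw [e, one_mul]⟩
        · rw [e]
          rcases min_choice (wm (code hω C x)) (wm (wm (code hω C x))) with e' | e'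
          · exact ⟨_, zel_center hω C, by rw [e', h1]⟩
          · exact ⟨_, mul_mem (zel_center hω C) (zel_center hω C), by rw [e', h2]⟩
      obtain ⟨u, hu, ea⟩ := pick a
      obtain ⟨v, hv, eb⟩ := pick b
      have e : code hω C (u * a * (v * b)) = H94.J3.mul (code hω C (u * a)) (code hω C (v * b)) :=
        (coding hω C).map_mul _ _
      rw [ea, eb, ← e, show u * a * (v * b) = u * v * (a * b) by
        rw [mul_assoc u a, ← mul_assoc a v b, Subgroup.mem_center_iff.1 hv a, mul_assoc v a b,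
          ← mul_assoc u v]]
      exact (canon_center_mul hω C hF (mul_mem hu hv) _).symm

/-- the coding of the quotient -/
noncomputable def qcoding (hF : Fintype.card F = 4) :
    Coding (C.G ⧸ Subgroup.center C.G) qop qone where
  code := qcode hω C
  inj := qcode_inj hω C hF
  map_one := by
    rw [← QuotientGroup.mk_one, qcode_mk hω C hF]
    exact congrArg canon (coding hω C).map_one
  map_mul := qcode_mul hω C hF

theorem qcode_pow (hF : Fintype.card F = 4) (a : C.G ⧸ Subgroup.center C.G) :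
    ∀ n, qcode hω C (a ^ n) = qpow (qcode hω C a) n
  | 0 => by rw [pow_zero]; exact (qcoding hω C hF).map_one
  | n + 1 => by rw [pow_succ, qcode_mul hω C hF, qcode_pow hF a n]; rfl

/-- The element of a transversal triple. -/
theorem exists_tri {t : ℕ × ℕ × ℕ} (h : triOK t = true) :
    ∃ g : C.G, code hω C g = triCode t ∧
      ((rho hω C g ⟨0, by norm_num⟩ : Fin 6156) : ℕ) = t.1 := by
  simp only [triOK, Bool.and_eq_true, decide_eq_true_eq] at h
  obtain ⟨⟨hi, ha⟩, hm⟩ := h
  let l : C.G := ⟨C.v ⟨_, ha⟩ * C.kk ⟨_, hm⟩,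
    C.H_le (C.H.mul_mem (C.v_mem _) (C.K_le (C.kk_mem _)))⟩
  refine ⟨⟨C.u ⟨_, hi⟩, C.u_mem _⟩ * l, code_eq hω C (mul_lt _ _)
    ((C.rep_u _).mul hω ((C.rep_v _).mul hω (C.rep_kk _))), ?_⟩
  rw [map_mul, Equiv.Perm.mul_apply,
    (rho_fix_iff hω C l).2 (C.H.mul_mem (C.v_mem _) (C.K_le (C.kk_mem _))), rho_u hω C]

theorem rho_center {z : C.G} (hz : z ∈ Subgroup.center C.G) : rho hω C z = 1 := by
  rw [← MonoidHom.mem_ker, rho_ker hω C]; exact hz

theorem comm_lift {a b : C.G}
    (h : (QuotientGroup.mk a : C.G ⧸ Subgroup.center C.G) * QuotientGroup.mk b =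
      QuotientGroup.mk b * QuotientGroup.mk a) :
    ∃ z ∈ Subgroup.center C.G, a * b = z * (b * a) := by
  rw [← QuotientGroup.mk_mul, ← QuotientGroup.mk_mul, eq_comm, QuotientGroup.eq] at h
  refine ⟨_, h, ?_⟩
  rw [← Subgroup.mem_center_iff.1 h (b * a)]
  group

/-- A class commuting with a fixed class lies over a fixed point. -/
theorem exists_lift_fix {y : C.G} {L : List ℕ} (hL : fixCheck (code hω C y) L = true)
    (hy : rho hω C y ⟨0, by norm_num⟩ = ⟨0, by norm_num⟩) {g : C.G}
    (hc : (QuotientGroup.mk g : C.G ⧸ Subgroup.center C.G) * QuotientGroup.mk y =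
      QuotientGroup.mk y * QuotientGroup.mk g) :
    ((rho hω C g ⟨0, by norm_num⟩ : Fin 6156) : ℕ) ∈ L := by
  obtain ⟨z, hz, e⟩ := comm_lift hω C hc
  have e2 := congrArg (fun x => rho hω C x ⟨0, by norm_num⟩) e
  simp only [map_mul, Equiv.Perm.mul_apply, rho_center hω C hz, Equiv.Perm.one_apply, hy] at e2
  set i := rho hω C g ⟨0, by norm_num⟩ with hi
  have hM := rho_spec hω C y i
  rw [← e2] at hM
  have hM' : tm ω (P i) * ((y : GL F9 F) * tm ω (P i)) = (y : GL F9 F) * tm ω (P i) := hM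
  rw [show ((y : GL F9 F) : Matrix F9 F9 F) = tm ω (code hω C y) from (code_spec hω C y).2,
    ← tm_mul hω, ← tm_mul hω] at hM'
  have hb := tm_inj hω (mul_lt _ _) (mul_lt _ _) hM'
  have := allIn_spec hL (Nat.zero_le _) (i := i.val) (by simp)
  simp only [fixTest, hb, beq_self_eq_true, Bool.not_true, Bool.false_or,
    List.contains_iff_mem] at this
  exact this

/-- The action on the second point set. -/
noncomputable def rhoQ : C.H →* Equiv.Perm (Fin 136) := (C.actH hω).hom

theorem rhoQ_maps {g : GL F9 F} (hg : g ∈ C.H) {x i j : ℕ} (hx : Rep ω g x)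
    (h : mapsQ x i j = true) : ∃ hi : i < 136, ∃ hj : j < 136,
      rhoQ hω C ⟨g, hg⟩ ⟨i, hi⟩ = ⟨j, hj⟩ := by
  simp only [mapsQ, Bool.and_eq_true, decide_eq_true_eq, beq_iff_eq] at h
  refine ⟨h.1.1, h.1.2, (C.actH hω).img_eq ?_⟩
  show tm ω (Q j) * ((g : Matrix F9 F9 F) * tm ω (Q i)) = (g : Matrix F9 F9 F) * tm ω (Q i)
  rw [show (g : Matrix F9 F9 F) = tm ω x from hx, ← tm_mul hω, ← tm_mul hω, h.2]

theorem rhoQ_center {z : C.G} (hz : z ∈ Subgroup.center C.G) (hzH : (z : GL F9 F) ∈ C.H)
    (i : Fin 136) : rhoQ hω C ⟨z, hzH⟩ i = i := by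
  obtain ⟨c, hc⟩ := central_scalar hω C hz
  refine (C.actH hω).img_eq ?_
  show projFam ω Q 136 i * (((z : GL F9 F) : Matrix F9 F9 F) * projFam ω Q 136 i) =
    ((z : GL F9 F) : Matrix F9 F9 F) * projFam ω Q 136 i
  rw [hc, Matrix.smul_mul, Matrix.one_mul, Matrix.mul_smul, (mid_fam hω).2 i]

/-- A class commuting with a fixed class and moving the base point to `i` is listed. -/
theorem qcode_mem_scan (hF : Fintype.card F = 4) {y : C.G} {y' i : ℕ}
    {tb : ℕ × List ℕ × List ℕ × List ℕ} {L : List ℕ}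
    (hy : rho hω C y ⟨0, by norm_num⟩ = ⟨0, by norm_num⟩)
    (hL : scanAt (code hω C y) y' i tb L = true) {g : C.G}
    (hg : ((rho hω C g ⟨0, by norm_num⟩ : Fin 6156) : ℕ) = i)
    (hc : (QuotientGroup.mk g : C.G ⧸ Subgroup.center C.G) * QuotientGroup.mk y =
      QuotientGroup.mk y * QuotientGroup.mk g) :
    qcode hω C (QuotientGroup.mk g) ∈ L := by
  simp only [scanAt, Bool.and_eq_true, decide_eq_true_eq, beq_iff_eq] at hL
  obtain ⟨⟨⟨⟨⟨⟨hy'lt, hyu⟩, hyQ⟩, hlen⟩, him⟩, htab⟩, hscan⟩ := hL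
  obtain ⟨j, l, hl, e⟩ := C.cover_G hω g.2
  let u : C.G := ⟨C.u j, C.u_mem j⟩
  let lG : C.G := ⟨l, C.H_le hl⟩
  have eg : g = u * lG := Subtype.ext e
  have hj : (j : ℕ) = i := by
    rw [← hg, eg, map_mul, Equiv.Perm.mul_apply, (rho_fix_iff hω C lG).2 hl, rho_u hω C]
  obtain ⟨z, hz, e2⟩ := comm_lift hω C hc
  -- the conjugate of `y`
  have e2' := congrArg (fun x => rho hω C x ⟨0, by norm_num⟩) e2
  simp only [map_mul, Equiv.Perm.mul_apply, rho_center hω C hz, Equiv.Perm.one_apply, hy] at e2'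
  have hgj : rho hω C g ⟨0, by norm_num⟩ = j := Fin.ext (hg.trans hj.symm)
  have hfix : rho hω C (u⁻¹ * y * u) ⟨0, by norm_num⟩ = ⟨0, by norm_num⟩ := by
    rw [map_mul, map_mul, Equiv.Perm.mul_apply, Equiv.Perm.mul_apply, rho_u hω C, ← hgj, ← e2',
      hgj, map_inv, Equiv.Perm.inv_def, Equiv.symm_apply_eq, rho_u hω C]
  have hwH : ((u⁻¹ * y * u : C.G) : GL F9 F) ∈ C.H := (rho_fix_iff hω C _).1 hfix
  have hyH : (y : GL F9 F) ∈ C.H := (rho_fix_iff hω C _).1 hy
  have hzH : (z : GL F9 F) ∈ C.H :=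
    (rho_fix_iff hω C _).1 (by rw [rho_center hω C hz]; rfl)
  have hwrep : Rep ω ((u⁻¹ * y * u : C.G) : GL F9 F) y' := by
    show (((u : GL F9 F)⁻¹ * y * u : GL F9 F) : Matrix F9 F9 F) = tm ω y'
    rw [mul_assoc, Units.val_mul, Units.inv_mul_eq_iff_eq_mul, Units.val_mul]
    rw [show ((y : GL F9 F) : Matrix F9 F9 F) = tm ω (code hω C y) from (code_spec hω C y).2,
      show ((u : GL F9 F) : Matrix F9 F9 F) = tm ω (U i) from hj ▸ C.rep_u j, ← tm_mul hω,
      ← tm_mul hω, hyu]
  -- inside the point stabiliser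
  have e3 : lG * y = z * ((u⁻¹ * y * u) * lG) := by
    refine mul_left_cancel (a := u) ?_
    rw [← mul_assoc, ← eg, e2, eg, ← mul_assoc u z, Subgroup.mem_center_iff.1 hz u]
    group
  have e4 : (⟨l, hl⟩ : C.H) * ⟨y, hyH⟩ =
      ⟨z, hzH⟩ * (⟨(u⁻¹ * y * u : C.G), hwH⟩ * ⟨l, hl⟩) :=
    Subtype.ext (congrArg (fun x : C.G => (x : GL F9 F)) e3)
  obtain ⟨a, m, hm, rfl⟩ := C.cover_H hω hl
  obtain ⟨k, rfl⟩ := C.cover_K hω hm
  have hv := C.v_mem a
  have hk : C.kk k ∈ C.H := C.K_le (C.kk_mem k)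
  have e5 := congrArg (fun x => rhoQ hω C x ⟨0, by norm_num⟩) e4
  simp only [map_mul, Equiv.Perm.mul_apply, rhoQ_center hω C hz hzH] at e5
  obtain ⟨_, hb0, hb0'⟩ := rhoQ_maps hω C hyH (code_spec hω C y).2 hyQ
  rw [hb0'] at e5
  have hsplit : (⟨C.v a * C.kk k, hl⟩ : C.H) = ⟨C.v a, hv⟩ * ⟨C.kk k, hk⟩ := rfl
  rw [hsplit, map_mul, Equiv.Perm.mul_apply, Equiv.Perm.mul_apply] at e5
  obtain ⟨_, hbm, hbm'⟩ := rhoQ_maps hω C hk (C.rep_kk k)
    (allIn_spec him (Nat.zero_le _) (i := k.val) (by simp))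
  have hk0 : rhoQ hω C ⟨C.kk k, hk⟩ ⟨0, by norm_num⟩ = ⟨0, by norm_num⟩ :=
    (C.actH hω).img_eq (C.K_fix hω (C.kk_mem k))
  have hva : rhoQ hω C ⟨C.v a, hv⟩ ⟨0, by norm_num⟩ = a :=
    (C.actH hω).img_eq (C.v_maps a)
  have ht := allIn_spec htab (Nat.zero_le _) (i := a.val) (by simp)
  rw [Bool.and_eq_true] at ht
  obtain ⟨_, hya, hya'⟩ := rhoQ_maps hω C hwH hwrep ht.1
  obtain ⟨hba, _, hba'⟩ := rhoQ_maps hω C hv (C.rep_v a) ht.2
  rw [hbm', hk0, hva, hya', ← hba'] at e5
  have hmem : tb.2.1.getD k.val 0 = tb.2.2.1.getD a.val 0 :=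
    congrArg Fin.val ((rhoQ hω C ⟨C.v a, hv⟩).injective e5)
  -- the listed test
  have h := allIn_spec hscan (Nat.zero_le _) (i := a.val) (by simp)
  rw [List.all_eq_true] at h
  have hlt : k.val < tb.2.1.length := by rw [hlen]; exact k.isLt
  have h := h (tb.2.1.getD k.val 0, k.val) (by
    rw [List.getD_eq_getElem _ _ hlt]
    exact List.mk_mem_zipIdx_iff_getElem?.2 (List.getElem?_eq_getElem hlt))
  simp only [hmem, bne_self_eq_false, Bool.false_or] at h
  have hcode : code hω C g = H94.J3.mul (H94.J3.mul (U i) (V a)) (K k) := by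
    refine code_eq hω C (mul_lt _ _) ?_
    rw [e, ← mul_assoc, ← hj]
    exact ((C.rep_u j).mul hω (C.rep_v a)).mul hω (C.rep_kk k)
  simp only [← hcode, Bool.or_eq_true, Bool.not_eq_true', List.contains_iff_mem] at h
  rw [qcode_mk hω C hF]
  refine h.resolve_left ?_
  rw [Bool.not_eq_false]
  have e6 := congrArg (code hω C) e2
  have hm' : ∀ p q : C.G, code hω C (p * q) = H94.J3.mul (code hω C p) (code hω C q) :=
    (coding hω C).map_mul
  simp only [commTest, Bool.or_eq_true, beq_iff_eq]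
  rcases center_cases hω C hF hz with rfl | rfl | rfl
  · rw [one_mul, hm', hm'] at e6
    exact Or.inl (Or.inl e6)
  · rw [← mul_assoc, hm', hm', code_zel_mul] at e6
    exact Or.inl (Or.inr e6)
  · rw [← mul_assoc, hm', hm', mul_assoc (zel hω C), code_zel_mul, code_zel_mul] at e6
    exact Or.inr e6

end

end H97.J3Out
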