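import Cfsg.Agent.H97.SchurCertDefs

/-! Certificates for the multiplier of the triple cover of J3. -/

set_option autoImplicit false
set_option maxRecDepth 20000

namespace H97.J3Schur

/-- the program reaching the symbols -/
def prog : List (Nat × Nat) := [
    (1, 0), (0, 48), (0, 1), (49, 50), (0, 50), (51, 52), (53, 50), (54, 50), (55, 0), (56, 0),
    (57, 52), (58, 52), (59, 51), (60, 52), (52, 0), (61, 62), (63, 62), (0, 51), (64, 65), (62, 65),
    (66, 67), (68, 49), (0, 52), (69, 70), (67, 62), (71, 72), (72, 0), (73, 74), (0, 70), (75, 76),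
    (65, 0), (77, 78), (79, 70), (80, 70), (72, 74), (81, 82), (70, 67), (83, 84), (76, 78), (85, 86),
    (86, 0), (87, 88), (89, 82), (90, 84), (91, 1), (82, 70), (92, 93), (72, 88), (94, 95), (88, 49),
    (96, 97), (97, 78), (98, 99), (70, 0), (100, 101), (1, 86), (102, 103), (0, 93), (104, 105), (49, 97),
    (106, 107), (105, 107), (108, 109), (97, 99), (110, 111), (112, 107), (113, 95), (107, 111), (114, 115), (95, 97),
    (116, 117), (101, 97), (118, 119), (115, 67), (120, 121), (109, 93), (122, 123), (1, 123), (124, 125), (115, 119),
    (126, 127), (97, 84), (128, 129), (125, 1), (130, 131), (127, 1), (132, 133), (84, 117), (134, 135), (135, 84),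
    (136, 137), (131, 109), (138, 139), (121, 84), (140, 141), (115, 103), (142, 143), (111, 127), (144, 145), (95, 139),
    (146, 147), (137, 133), (148, 149), (137, 129), (150, 151), (139, 143), (152, 153), (103, 127), (154, 155), (147, 153),
    (156, 157), (145, 131), (158, 159), (139, 149), (160, 161), (137, 153), (162, 163), (157, 151), (164, 165), (151, 137),
    (166, 167), (159, 155), (168, 169), (145, 165), (170, 171), (127, 149), (172, 173), (84, 151), (174, 175), (155, 163),
    (176, 177), (167, 163), (178, 179), (145, 84), (180, 181), (169, 177), (182, 183), (141, 167), (184, 185), (84, 167),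
    (186, 187), (182, 182), (189, 182), (190, 182), (191, 182), (188, 188), (193, 188), (194, 188), (195, 188), (196, 188),
    (197, 188), (198, 188), (192, 199), (192, 188), (200, 201), (202, 202), (203, 202), (204, 202), (205, 202), (206, 202),
    (207, 202), (208, 202), (188, 209), (179, 175), (188, 211), (173, 185), (212, 213), (214, 214), (215, 214), (216, 214),
    (217, 214), (218, 214), (219, 214), (220, 214), (221, 214), (192, 222), (192, 214), (223, 224), (225, 225), (226, 225),
    (227, 225), (214, 228), (210, 229), (161, 167), (214, 231), (184, 184), (233, 184), (234, 184), (235, 184), (236, 184),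
    (237, 184), (238, 184), (239, 184), (240, 184), (241, 232), (242, 232), (243, 232), (192, 244), (192, 232), (245, 246),
    (247, 247), (248, 247), (249, 247), (232, 250), (230, 251), (241, 212), (253, 212), (254, 212), (255, 212), (256, 212),
    (257, 212), (258, 212), (259, 212), (260, 212), (261, 212), (262, 212), (263, 212), (264, 212), (265, 212), (266, 212),
    (267, 212), (192, 268), (192, 212), (269, 270), (271, 271), (272, 271), (273, 271), (274, 271), (275, 271), (252, 276),
    (187, 181), (232, 278), (279, 279), (280, 279), (281, 279), (192, 282), (192, 279), (283, 284), (285, 285), (286, 285),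
    (287, 285), (288, 285), (277, 289), (186, 186), (291, 186), (292, 186), (293, 186), (192, 294), (192, 186), (295, 296),
    (297, 297), (298, 297), (299, 297), (300, 297), (241, 184), (302, 184), (303, 184), (304, 184), (305, 184), (306, 184),
    (307, 184), (308, 184), (309, 184), (310, 184), (311, 184), (312, 184), (313, 184), (314, 184), (315, 184), (316, 184),
    (317, 184), (318, 184), (319, 184), (192, 320), (192, 184), (321, 322), (323, 323), (324, 323), (325, 323), (326, 323),
    (327, 323), (328, 323), (184, 329), (301, 330), (161, 278), (279, 332), (241, 333), (334, 333), (335, 333), (336, 333),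
    (337, 333), (338, 333), (339, 333), (340, 333), (341, 333), (342, 333), (343, 333), (344, 333), (345, 333), (346, 333),
    (347, 333), (348, 333), (349, 333), (350, 333), (192, 351), (192, 333), (352, 353), (354, 354), (355, 354), (356, 354),
    (357, 354), (331, 358), (359, 289), (360, 330), (358, 276), (362, 358), (363, 330), (330, 251), (365, 301), (366, 276),
    (367, 229), (330, 210), (369, 276), (370, 358), (371, 192), (210, 276), (373, 358), (374, 229), (375, 251), (358, 301),
    (377, 229), (378, 251), (301, 210), (380, 276), (48, 48), (382, 48), (383, 48), (384, 49), (48, 1), (385, 386),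
    (387, 0), (388, 382), (389, 48), (390, 49), (48, 49), (391, 392), (392, 386), (393, 394), (394, 49), (395, 396),
    (397, 49), (49, 392), (398, 399), (400, 48), (399, 0), (401, 402), (399, 1), (403, 404), (405, 382), (396, 0),
    (406, 407), (408, 0), (49, 382), (409, 410), (382, 0), (411, 412), (413, 0), (1, 407), (414, 415), (412, 0),
    (416, 417), (0, 0), (418, 419), (402, 407), (420, 421), (410, 415), (422, 423), (419, 404), (424, 425), (426, 415),
    (421, 417), (427, 428), (382, 423), (429, 430), (382, 421), (431, 432), (425, 410), (433, 434), (421, 415), (435, 436),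
    (436, 1), (437, 438), (432, 434), (439, 440), (441, 48), (48, 412), (442, 443), (428, 415), (444, 445), (445, 410),
    (446, 447), (434, 430), (448, 449), (410, 440), (450, 451), (410, 451), (452, 453), (447, 1), (454, 455), (419, 443),
    (456, 457), (457, 415), (458, 459), (459, 419), (460, 461), (453, 438), (462, 463), (415, 449), (464, 465), (459, 410),
    (466, 467), (1, 459), (468, 469), (455, 459), (470, 471), (463, 471), (472, 473), (473, 449), (474, 475), (471, 461),
    (476, 477), (438, 467), (478, 479), (412, 477), (480, 481), (438, 449), (482, 483), (475, 465), (484, 485), (449, 481),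
    (486, 487), (487, 485), (488, 489), (434, 465), (490, 491), (449, 0), (492, 493), (471, 479), (494, 495), (493, 495),
    (496, 497), (459, 497), (498, 499), (465, 412), (500, 501), (479, 483), (502, 503), (449, 497), (504, 505), (501, 489),
    (506, 507), (507, 499), (508, 509), (449, 487), (510, 511), (511, 493), (512, 513), (501, 493), (514, 515), (501, 503),
    (516, 517), (491, 515), (518, 519), (503, 487), (520, 521), (521, 469), (522, 523), (507, 469), (524, 525), (479, 525),
    (526, 527), (513, 509), (528, 529), (517, 487), (530, 531), (465, 469), (532, 533), (515, 513), (534, 535), (517, 535),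
    (536, 537), (517, 537), (538, 539), (523, 533), (540, 541), (529, 531), (542, 543), (523, 527), (544, 545), (505, 545),
    (546, 547), (517, 539), (548, 549), (479, 505), (550, 551), (541, 523), (552, 553), (543, 551), (554, 555), (549, 551),
    (556, 557), (551, 539), (558, 559), (479, 531), (560, 561), (469, 519), (562, 563), (563, 559), (564, 565), (555, 557),
    (566, 567), (523, 559), (568, 569), (567, 547), (570, 571), (531, 561), (572, 573), (553, 515), (574, 575), (547, 557),
    (576, 577), (539, 531), (578, 579), (579, 573), (580, 581), (569, 553), (582, 583), (581, 575), (584, 585), (583, 519),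
    (586, 587), (539, 565), (588, 589), (565, 571), (590, 591), (589, 565), (592, 593), (577, 585), (594, 595), (553, 519),
    (596, 597), (557, 595), (598, 599), (573, 587), (600, 601), (597, 595), (602, 603), (603, 587), (604, 605), (591, 603),
    (606, 607), (599, 605), (608, 609), (601, 605), (610, 611), (519, 581), (612, 613), (597, 609), (614, 615), (591, 523),
    (616, 617), (565, 593), (618, 619), (615, 577), (620, 621), (621, 591), (622, 623), (617, 623), (624, 625), (591, 581),
    (626, 627), (597, 565), (628, 629), (601, 629), (630, 631), (611, 597), (632, 633), (631, 613), (634, 635), (597, 619),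
    (636, 637), (619, 627), (638, 639), (625, 601), (640, 641), (601, 641), (642, 643), (581, 607), (644, 645), (643, 635),
    (646, 647), (639, 641), (648, 649), (647, 635), (650, 651), (633, 631), (652, 653), (645, 617), (654, 655), (627, 653),
    (656, 657), (649, 627), (658, 659), (607, 655), (660, 661), (615, 617), (662, 663), (651, 659), (664, 665), (647, 661),
    (666, 667), (665, 639), (668, 669), (617, 637), (670, 671), (637, 665), (672, 673), (669, 663), (674, 675), (665, 659),
    (676, 677), (647, 657), (678, 679), (671, 659), (680, 681), (673, 677), (682, 683), (681, 683), (684, 685), (607, 675),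
    (686, 687), (685, 671), (688, 689), (689, 607), (690, 691), (677, 667), (692, 693), (669, 693), (694, 695), (695, 689),
    (696, 697), (679, 691), (698, 699), (671, 683), (700, 701), (631, 697), (702, 703), (701, 671), (704, 705), (695, 647),
    (706, 707), (679, 647), (708, 709), (701, 709), (710, 711), (697, 709), (712, 713), (713, 687), (714, 715), (709, 703),
    (716, 717), (677, 707), (718, 719), (711, 699), (720, 721), (679, 717), (722, 723), (687, 699), (724, 725), (721, 699),
    (726, 727), (669, 717), (728, 729), (707, 727), (730, 731), (703, 723), (732, 733), (705, 729), (734, 735), (735, 733),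
    (736, 737), (705, 725), (738, 739), (715, 719), (740, 741), (627, 731), (742, 743), (717, 705), (744, 745), (707, 743),
    (746, 747), (737, 717), (748, 749), (747, 699), (750, 751), (733, 751), (752, 753), (707, 749), (754, 755), (755, 753),
    (756, 757), (753, 757), (758, 759), (699, 719), (760, 761), (737, 745), (762, 763), (761, 731), (764, 765), (739, 723),
    (766, 767), (759, 763), (768, 769), (757, 741), (770, 771), (769, 765), (772, 773), (699, 749), (774, 775), (771, 773),
    (776, 777), (775, 777), (778, 779), (769, 733), (780, 781), (779, 759), (782, 783), (771, 775), (784, 785), (781, 731),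
    (786, 787), (723, 737), (788, 789), (779, 783), (790, 791), (769, 757), (792, 793), (767, 769), (794, 795), (783, 787),
    (796, 797), (787, 699), (798, 799), (789, 785), (800, 801), (775, 781), (802, 803), (795, 737), (804, 805), (803, 789),
    (806, 807), (791, 737), (808, 809), (767, 799), (810, 811), (811, 793), (812, 813), (791, 775), (814, 815), (809, 793),
    (816, 817), (699, 817), (818, 819), (815, 797), (820, 821), (809, 789), (822, 823), (809, 801), (824, 825), (815, 809),
    (826, 827), (805, 813), (828, 829), (807, 825), (830, 831), (809, 827), (832, 833), (799, 807), (834, 835), (823, 819),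
    (836, 837), (833, 831), (838, 839), (775, 823), (840, 841), (835, 813), (842, 843), (833, 817), (844, 845), (839, 845),
    (846, 847), (807, 845), (848, 849), (847, 829), (850, 851), (775, 835), (852, 853), (849, 821), (854, 855), (821, 855),
    (856, 857), (837, 835), (858, 859), (851, 853), (860, 861), (859, 845), (862, 863), (827, 861), (864, 865), (865, 821),
    (866, 867), (857, 845), (868, 869), (821, 833), (870, 871), (843, 845), (872, 873), (871, 873), (874, 875), (869, 847),
    (876, 877), (877, 833), (878, 879), (879, 841), (880, 881), (845, 873), (882, 883), (867, 883), (884, 885), (881, 837),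
    (886, 887), (885, 875), (888, 889), (863, 889), (890, 891), (851, 877), (892, 893), (863, 841), (894, 895), (863, 887),
    (896, 897), (893, 895), (898, 899), (851, 885), (900, 901), (873, 891), (902, 903), (887, 903), (904, 905), (897, 869),
    (906, 907), (851, 899), (908, 909), (905, 899), (910, 911), (901, 869), (912, 913), (893, 911), (914, 915), (827, 915),
    (916, 917), (915, 887), (918, 919), (883, 907), (920, 921), (869, 837), (922, 923), (837, 923), (924, 925), (925, 909),
    (926, 927), (917, 891), (928, 929), (921, 893), (930, 931), (915, 927), (932, 933), (837, 933), (934, 935), (883, 931),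
    (936, 937), (909, 929), (938, 939), (837, 891), (940, 941), (927, 937), (942, 943), (891, 943), (944, 945), (937, 905),
    (946, 947), (891, 941), (948, 949), (909, 913), (950, 951), (945, 951), (952, 953), (891, 905), (954, 955), (955, 935),
    (956, 957), (919, 935), (958, 959), (953, 919), (960, 961), (957, 945), (962, 963), (959, 905), (964, 965), (961, 913),
    (966, 967), (893, 965), (968, 969), (947, 939), (970, 971), (947, 965), (972, 973), (931, 919), (974, 975), (963, 961),
    (976, 977), (959, 971), (978, 979), (945, 977), (980, 981), (919, 981), (982, 983), (971, 981), (984, 985), (961, 971),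
    (986, 987), (975, 949), (988, 989), (975, 967), (990, 991), (985, 975), (992, 993), (985, 989), (994, 995), (969, 987),
    (996, 997), (945, 973), (998, 999), (969, 979), (1000, 1001), (971, 993), (1002, 1003), (997, 991), (1004, 1005), (965, 969),
    (1006, 1007), (999, 1005), (1008, 1009), (1001, 997), (1010, 1011), (983, 1007), (1012, 1013), (1011, 997), (1014, 1015), (1003, 995),
    (1016, 1017), (995, 997), (1018, 1019), (1015, 999), (1020, 1021), (1013, 1017), (1022, 1023), (1017, 1023), (1024, 1025), (1007, 985),
    (1026, 1027), (993, 973), (1028, 1029), (1007, 1025), (1030, 1031), (997, 1029), (1032, 1033), (1027, 1033), (1034, 1035), (1009, 1035),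
    (1036, 1037), (1033, 997), (1038, 1039), (1019, 1009), (1040, 1041), (1025, 1015), (1042, 1043), (1037, 1021), (1044, 1045), (1009, 1037),
    (1046, 1047), (973, 1009), (1048, 1049), (1033, 1049), (1050, 1051), (1039, 1051), (1052, 1053), (1047, 965), (1054, 1055), (301, 358),
    (1057, 276), (1058, 210), (1059, 330), (241, 1056), (1061, 1056), (1062, 1056), (1063, 1056), (1064, 1056), (1065, 1056), (1066, 1056),
    (1067, 1056), (1068, 1056), (1060, 1069), (1060, 1056), (1070, 1071), (1072, 1072), (1073, 1072), (1074, 1072), (1075, 1072), (1076, 1072),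
    (1077, 1072), (1078, 1072), (1056, 1079), (1054, 1054), (1081, 1054), (1082, 1054), (1083, 1054), (1084, 1054), (1085, 1054), (1086, 1054),
    (1087, 1054), (1088, 1054), (1089, 1054), (1090, 1054), (1091, 1054), (1092, 1054), (1060, 1093), (1060, 1054), (1094, 1095), (1096, 1096),
    (1097, 1096), (1098, 1096), (1099, 1096), (1080, 1100), (1023, 1051), (1056, 1102), (1047, 1045), (1103, 1104), (1043, 1031), (1105, 1106),
    (1015, 1055), (1107, 1108), (1009, 1106), (1109, 1110), (1051, 1053), (1111, 1112), (1043, 1045), (1113, 1114), (1104, 1102), (1115, 1116),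
    (1051, 1108), (1117, 1118), (1055, 1104), (1119, 1120), (1118, 1114), (1121, 1122), (311, 1123), (1124, 1123), (1125, 1123), (1126, 1123),
    (1127, 1123), (1128, 1123), (1129, 1123), (1130, 1123), (1131, 1123), (1060, 1132), (1060, 1123), (1133, 1134), (1135, 1135), (1136, 1135),
    (1137, 1135), (1138, 1135), (1139, 1135), (1140, 1135), (1141, 1135), (1123, 1142), (380, 301), (1144, 289), (311, 728), (1146, 728),
    (1147, 728), (1148, 728), (1149, 728), (1150, 728), (1151, 728), (1152, 728), (1153, 728), (1145, 1154), (1145, 728), (1155, 1156),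
    (1157, 1157), (1158, 1157), (1159, 1157), (1160, 1157), (1161, 1157), (1162, 1157), (1163, 1157), (1164, 1157), (1165, 1157), (1113, 1113),
    (1167, 1113), (1168, 1113), (1060, 1169), (1060, 1113), (1170, 1171), (1166, 1172), (1173, 1172), (1113, 1174), (1143, 1175), (1101, 1176),
    (381, 1177), (1109, 1109), (1060, 1179), (1060, 1109), (1180, 1181), (1182, 1182), (1183, 1182), (1184, 1182), (1185, 1182), (1186, 1182),
    (1187, 1182), (1109, 1188), (311, 1105), (1190, 1105), (1191, 1105), (1192, 1105), (1193, 1105), (1194, 1105), (1195, 1105), (1196, 1105),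
    (1197, 1105), (1198, 1105), (1199, 1105), (1200, 1105), (1201, 1105), (1202, 1105), (1203, 1105), (1204, 1105), (1205, 1105), (1206, 1105),
    (1060, 1207), (1060, 1105), (1208, 1209), (1210, 1210), (1105, 1211), (1189, 1212), (1115, 1115), (1214, 1115), (1215, 1115), (1216, 1115),
    (1217, 1115), (1218, 1115), (1219, 1115), (1220, 1115), (1221, 1115), (1222, 1115), (1223, 1115), (1224, 1115), (1225, 1115), (1226, 1115),
    (1227, 1115), (1228, 1115), (1229, 1115), (1060, 1230), (1060, 1115), (1231, 1232), (1233, 1233), (1234, 1233), (1235, 1233), (1236, 1233),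
    (1237, 1233), (1238, 1233), (1115, 1239), (1117, 1117), (1241, 1117), (1242, 1117), (1243, 1117), (1244, 1117), (1245, 1117), (1246, 1117),
    (1247, 1117), (1248, 1117), (1249, 1117), (1060, 1250), (1060, 1117), (1251, 1252), (1253, 1253), (1254, 1253), (1240, 1255), (1213, 1256),
    (1178, 1257), (1100, 1060), (1259, 1256), (1258, 1260), (1212, 1189), (1261, 1262), (1240, 1257), (1263, 1264), (1259, 1240), (1265, 1266),
    (311, 1111), (1268, 1111), (1269, 1111), (1270, 1111), (1271, 1111), (1272, 1111), (1273, 1111), (1274, 1111), (1275, 1111), (1276, 1111),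
    (1277, 1111), (1278, 1111), (1279, 1111), (1280, 1111), (1281, 1111), (1282, 1111), (1060, 1283), (1060, 1111), (1284, 1285), (1286, 1286),
    (1287, 1286), (1288, 1286), (1289, 1286), (1290, 1286), (1291, 1286), (1292, 1286), (1111, 1293), (1103, 1103), (1295, 1103), (1296, 1103),
    (1297, 1103), (1298, 1103), (1299, 1103), (1300, 1103), (1301, 1103), (1302, 1103), (1303, 1103), (1304, 1103), (1305, 1103), (1306, 1103),
    (1060, 1307), (1060, 1103), (1308, 1309), (1310, 1310), (1311, 1310), (1312, 1310), (1313, 1310), (1314, 1310), (1315, 1310), (1103, 1316),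
    (1294, 1317), (1107, 1107), (1319, 1107), (1320, 1107), (1060, 1321), (1060, 1107), (1322, 1323), (1324, 1324), (1325, 1324), (1326, 1324),
    (1327, 1324), (1318, 1328), (1267, 1329), (241, 1121), (1331, 1121), (1332, 1121), (1333, 1121), (1334, 1121), (1335, 1121), (1336, 1121),
    (1337, 1121), (1338, 1121), (1060, 1339), (1060, 1121), (1340, 1341), (1342, 1342), (1343, 1342), (1344, 1342), (1345, 1342), (1346, 1255),
    (1080, 1060), (1347, 1348), (1349, 1100), (1330, 1350), (1351, 1329), (1317, 1328), (1352, 1353), (1255, 1143), (1240, 1355), (1354, 1356),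
    (1328, 1143), (1358, 1240), (1357, 1359), (311, 1175), (1347, 1212), (1361, 1362), (1360, 1363), (1043, 1122), (1123, 1365), (1366, 1366),
    (1367, 1366), (1368, 1366), (1369, 1366), (1370, 1366), (1371, 1366), (1372, 1366), (1373, 1366), (1060, 1374), (1060, 1366), (1375, 1376),
    (1377, 1377), (1378, 1377), (1379, 1377), (1189, 1380), (1364, 1381), (1318, 1100), (1382, 1383), (1260, 1362), (1384, 1385), (1100, 1240),
    (1386, 1387), (1119, 1119), (1389, 1119), (1390, 1119), (1391, 1119), (1392, 1119), (1393, 1119), (1394, 1119), (1060, 1395), (1060, 1119),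
    (1396, 1397), (1398, 1398), (1399, 1358), (1080, 1400), (1388, 1401), (1328, 1259), (1403, 1387), (1402, 1404), (1294, 1100), (1406, 1189),
    (1189, 1407), (1405, 1408), (1355, 1080), (1409, 1410), (1080, 1346), (1411, 1412), (1380, 1175), (1414, 1259), (1413, 1415), (1294, 1346),
    (1417, 1399), (1212, 1418), (1416, 1419), (1399, 1143), (1420, 1421), (1143, 1317), (1060, 1189), (1380, 1424), (1423, 1425), (1422, 1426),
    (1427, 1425), (1212, 1143), (1429, 1417), (1080, 1406), (1431, 311), (1430, 1432), (1408, 1433), (1428, 1434), (1143, 1425), (1435, 1436),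
    (1259, 1176), (1437, 1438), (1100, 1080), (1387, 1440), (1439, 1441), (13, 17), (12, 12), (1444, 17), (1444, 16), (10, 27),
    (1447, 37)]

/-- two elements whose commutator is the scalar -/
def witA : Nat := 87112285936830849052296079348945720983568
/-- second -/
def witB : Nat := 2923006062257616707413039747198413924516549886977

/-- 2-part -/
def data2 : SchurCert.Data where
  p := 2
  n := 7
  syms := [
    892955813342376529280812263014275337173337120,
    30020279332816263357022174909649039818052120258,
    115230667352240186926038972760278904265139606951,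
    1004155130178346324849228110843134872456688754216,
    948848039586552341805107641711983723835915492376,
    1525148499652721678165868343964099735987488272383,
    1611448414485327900449544639761310836024411424,
    1649881118873238205336204935991957369498605477260,
    2867481825907456365496960729067595142789117180485]
  rules := [
    ([0, 0], []),
    ([1, 1], [4]),
    ([2, 2], []),
    ([3, 3], [6]),
    ([4, 4], [6]),
    ([5, 5], []),
    ([6, 6], []),
    ([1, 0], [0, 1, 3]),
    ([2, 0], [0, 2]),
    ([2, 1], [1, 2, 4]),
    ([3, 0], [0, 3, 6]),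
    ([3, 1], [1, 3, 5]),
    ([3, 2], [2, 3, 5]),
    ([4, 0], [0, 4, 5, 6]),
    ([4, 1], [1, 4]),
    ([4, 2], [2, 4, 6]),
    ([4, 3], [3, 4, 6]),
    ([5, 0], [0, 5]),
    ([5, 1], [1, 5, 6]),
    ([5, 2], [2, 5]),
    ([5, 3], [3, 5]),
    ([5, 4], [4, 5]),
    ([6, 0], [0, 6]),
    ([6, 1], [1, 6]),
    ([6, 2], [2, 6]),
    ([6, 3], [3, 6]),
    ([6, 4], [4, 6]),
    ([6, 5], [5, 6]),
    ([7, 6], [6, 7]),
    ([7, 5, 6], [1, 2, 4, 7]),
    ([7, 1, 2, 4, 5], [3, 4, 5, 7]),
    ([7, 4], [3, 5, 6, 7]),
    ([7, 3], [4, 5, 6, 7]),
    ([8, 6], [2, 4, 8]),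
    ([8, 0, 3, 5], [2, 4, 6, 8]),
    ([8, 0, 2, 3, 4], [0, 2, 3, 4, 8]),
    ([8, 5, 6], [0, 2, 3, 4, 5, 8])]
  defs := [(7, 3), (1, 4), (11, 5), (18, 6)]
  targets := [0, 2, 3, 4, 5, 6, 8, 9, 10, 12, 13, 14, 15, 16, 17, 19, 20, 21, 22, 23, 24, 25, 26, 27]
  paths := [
    ([2, 1, 0], [(0, 9, true), (2, 13, true), (1, 8, true), (0, 7, true), (2, 12, true), (4, 21, true), (5, 5, true), (3, 16, false), (1, 9, false), (0, 8, false), (1, 7, false)]),
    ([3, 1, 0], [(0, 11, true), (2, 17, true), (1, 10, true), (0, 7, true), (2, 3, true), (2, 6, true), (3, 6, false), (2, 27, false), (2, 3, false), (3, 20, false), (4, 25, false), (1, 11, false), (2, 23, false), (0, 10, false), (1, 7, false)]),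
    ([3, 2, 0], [(0, 12, true), (2, 17, true), (1, 10, true), (0, 8, true), (3, 27, true), (1, 12, false), (2, 24, false), (0, 10, false), (1, 8, false)]),
    ([3, 2, 1], [(0, 12, true), (2, 18, true), (1, 11, true), (0, 9, true), (2, 16, true), (4, 27, true), (5, 27, true), (4, 5, true), (4, 6, true), (3, 5, false), (1, 12, false), (2, 19, false), (0, 11, false), (1, 9, false)]),
    ([4, 1, 0], [(0, 14, true), (1, 13, true), (0, 7, true), (4, 27, false), (2, 16, false), (3, 20, false), (4, 6, false), (1, 14, false), (2, 18, false), (3, 23, false), (0, 13, false), (1, 7, false)]),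
    ([4, 2, 0], [(0, 15, true), (2, 22, true), (1, 13, true), (0, 8, true), (4, 6, true), (4, 6, false), (3, 27, false), (1, 15, false), (2, 19, false), (3, 24, false), (0, 13, false), (1, 8, false)]),
    ([4, 2, 1], [(0, 15, true), (2, 23, true), (1, 14, true), (0, 9, true), (2, 4, true), (2, 6, true), (2, 6, false), (2, 4, false), (3, 26, false), (1, 15, false), (0, 14, false), (1, 9, false)]),
    ([4, 3, 0], [(0, 16, true), (2, 22, true), (1, 13, true), (0, 10, true), (2, 26, true), (3, 27, true), (4, 6, true), (4, 6, false), (3, 27, false), (1, 16, false), (2, 20, false), (3, 25, false), (0, 13, false), (1, 10, false)]),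
    ([4, 3, 1], [(0, 16, true), (2, 23, true), (1, 14, true), (0, 11, true), (2, 21, true), (3, 27, false), (1, 16, false), (0, 14, false), (1, 11, false)]),
    ([4, 3, 2], [(0, 16, true), (2, 24, true), (1, 15, true), (0, 12, true), (2, 21, true), (4, 6, true), (3, 6, false), (1, 16, false), (2, 25, false), (0, 15, false), (1, 12, false)]),
    ([5, 1, 0], [(0, 18, true), (2, 22, true), (1, 17, true), (0, 7, true), (2, 20, false), (3, 25, false), (1, 18, false), (0, 17, false), (1, 7, false)]),
    ([5, 2, 1], [(0, 19, true), (1, 18, true), (0, 9, true), (2, 21, false), (3, 26, false), (1, 19, false), (2, 24, false), (0, 18, false), (1, 9, false)]),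
    ([1, 1, 1], [(0, 1, true), (0, 14, true), (1, 1, false)]),
    ([1, 1, 0], [(0, 1, true), (0, 13, true), (2, 6, false), (1, 26, false), (1, 3, false), (2, 16, false), (3, 20, false), (4, 25, false), (3, 27, false), (1, 16, false), (1, 1, false), (2, 11, false), (0, 7, false), (1, 7, false)]),
    ([1, 0, 0], [(0, 7, true), (2, 10, true), (1, 7, true), (0, 0, true), (1, 3, true), (1, 6, true), (1, 0, false)]),
    ([2, 2, 1], [(0, 2, true), (1, 6, false), (1, 4, false), (2, 26, false), (1, 2, false), (2, 15, false), (0, 9, false), (1, 9, false)]),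
    ([3, 3, 0], [(0, 3, true), (0, 22, true), (1, 6, false), (1, 3, false), (2, 25, false), (0, 10, false), (1, 10, false)]),
    ([3, 3, 1], [(0, 3, true), (0, 23, true), (1, 5, false), (2, 27, false), (1, 27, false), (1, 3, false), (2, 20, false), (0, 11, false), (1, 11, false)]),
    ([7, 5, 6, 5, 6], [(2, 27, true), (1, 5, true), (1, 6, true), (0, 6, false), (0, 4, false), (1, 26, false), (0, 2, false), (1, 15, false), (1, 6, false), (1, 4, false), (2, 26, false), (0, 15, false), (0, 1, false), (1, 9, false), (2, 14, false), (3, 29, false), (0, 29, false)]),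
    ([7, 4, 5, 6], [(1, 21, false), (2, 26, false), (0, 29, true), (3, 31, true), (2, 16, true), (4, 27, true), (5, 6, true), (3, 21, false), (1, 12, false), (2, 6, false), (2, 5, false), (0, 11, false), (1, 18, false), (2, 23, false), (3, 29, false), (0, 31, false)]),
    ([7, 3, 5, 6], [(1, 20, false), (2, 25, false), (0, 29, true), (3, 32, true), (2, 4, true), (2, 27, true), (3, 6, true), (3, 6, false), (2, 27, false), (2, 4, false), (3, 21, false), (4, 26, false), (3, 27, false), (1, 15, false), (2, 19, false), (3, 6, false), (0, 14, false), (1, 18, false), (2, 23, false), (3, 29, false), (0, 32, false)]),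
    ([8, 6, 6], [(1, 6, true), (0, 6, false), (0, 4, false), (1, 26, false), (0, 2, false), (1, 15, false), (2, 33, false), (0, 33, false)]),
    ([8, 0, 3, 5, 0, 3, 5], [(3, 17, true), (2, 10, true), (1, 0, true), (2, 27, true), (3, 25, true), (2, 20, true), (1, 3, true), (1, 27, true), (2, 6, true), (1, 5, true), (0, 6, false), (0, 4, false), (1, 6, false), (0, 2, false), (1, 15, false), (2, 24, false), (3, 34, false), (0, 34, false)]),
    ([8, 0, 2, 3, 4, 6], [(4, 26, false), (3, 25, false), (2, 24, false), (1, 22, false), (0, 33, true), (2, 35, true), (1, 13, true), (0, 8, true), (4, 24, true), (3, 19, true), (2, 15, true), (1, 2, true), (2, 27, true), (3, 6, true), (2, 20, true), (1, 16, true), (3, 27, true), (4, 26, true), (3, 21, true), (2, 4, true), (2, 27, true), (3, 6, true), (3, 6, false), (2, 27, false), (2, 4, false), (3, 21, false), (4, 26, false), (2, 21, false), (1, 2, false), (2, 12, false), (3, 15, false), (4, 33, false), (0, 35, false)])]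
  combos := [
    [(2, 1), (3, 1), (4, 1), (5, 1), (6, 1), (7, 1), (8, 1), (11, 1), (14, 1), (17, 1), (21, 1), (22, 1)],
    [(1, 1), (2, 1), (3, 1), (4, 1), (5, 1), (15, 1), (16, 1), (21, 1)],
    [(0, 1), (3, 1), (4, 1), (5, 1), (7, 1), (10, 1), (11, 1), (13, 1), (16, 1), (19, 1)],
    [(5, 1), (6, 1), (10, 1), (11, 1), (12, 1), (15, 1), (20, 1)],
    [(1, 1), (2, 1), (3, 1), (4, 1), (5, 1), (6, 1), (7, 1), (17, 1)],
    [(1, 1), (2, 1), (3, 1), (4, 1), (5, 1), (16, 1)],
    [(0, 1), (1, 1), (2, 1), (3, 1), (4, 1), (7, 1), (8, 1), (9, 1), (10, 1), (16, 1), (17, 1), (23, 1)],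
    [(1, 1), (2, 1), (6, 1), (7, 1), (8, 1), (9, 1), (10, 1), (12, 1), (15, 1), (17, 1), (18, 1), (21, 1)],
    [(0, 1), (1, 1), (2, 1), (7, 1), (10, 1), (11, 1), (13, 1), (14, 1), (19, 1)],
    [(1, 1), (2, 1), (3, 1), (5, 1), (6, 1), (16, 1), (17, 1), (19, 1)],
    [(0, 1), (7, 1), (8, 1), (10, 1), (19, 1)],
    [(12, 1)],
    [(1, 1), (2, 1), (3, 1), (4, 1), (6, 1), (7, 1), (11, 1), (12, 1), (16, 1), (20, 1)],
    [(3, 1), (5, 1), (6, 1), (7, 1), (8, 1), (9, 1), (10, 1), (16, 1)],
    [(2, 1), (6, 1), (8, 1), (11, 1)],
    [(1, 1), (2, 1), (3, 1), (4, 1), (6, 1), (7, 1), (8, 1), (9, 1), (10, 1)],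
    [(1, 1), (2, 1), (3, 1), (4, 1), (5, 1), (10, 1)],
    [(3, 1), (4, 1), (5, 1), (6, 1), (7, 1), (9, 1)],
    [(1, 1), (2, 1), (3, 1), (4, 1), (5, 1), (7, 1), (9, 1), (10, 1), (11, 1)],
    [(6, 1), (7, 1), (10, 1)],
    [(3, 1), (4, 1), (5, 1), (6, 1), (9, 1), (10, 1), (11, 1)],
    [(7, 1), (9, 1), (10, 1), (11, 1)],
    [(7, 1), (10, 1)],
    [(3, 1), (4, 1), (5, 1), (8, 1), (9, 1), (10, 1)]]
  sorted := [
    0, 1, 64, 2, 65, 4, 98, 59, 77, 41, 25, 47, 117, 103, 29, 55, 15, 124, 67, 90,
    96, 54, 101, 114, 35, 10, 3, 23, 16, 66, 97, 50, 8, 52, 127, 37, 44, 18, 30, 80,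
    69, 83, 107, 110, 46, 87, 118, 32, 91, 36, 76, 42, 61, 99, 105, 17, 121, 115, 119, 7,
    11, 49, 31, 82, 5, 116, 95, 86, 22, 20, 120, 56, 9, 109, 21, 123, 72, 6, 58, 68,
    34, 33, 27, 70, 84, 63, 100, 94, 125, 73, 93, 92, 12, 62, 13, 75, 106, 126, 74, 43,
    45, 113, 112, 108, 102, 24, 78, 89, 57, 79, 40, 60, 51, 53, 26, 104, 39, 81, 14, 88,
    71, 48, 122, 38, 111, 28, 85, 19]

/-- 3-part -/
def data3 : SchurCert.Data where
  p := 3
  n := 6
  syms := [
    689601926562231162448178728534144,
    1298153442871853398703616588546304,
    2790318067210224748522059030480510178558977,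
    2923006064979873044096819404886775820187079802881,
    2857285703479129984391631770997938391982539777,
    2925860560365287562542666444697101926105930007553,
    2854539113108414418001719854297852749562249232]
  rules := [
    ([0, 0, 0], [4, 4, 5]),
    ([1, 1, 1], [3, 5, 5]),
    ([2, 2, 2], []),
    ([3, 3, 3], []),
    ([4, 4, 4], []),
    ([5, 5, 5], []),
    ([1, 0], [0, 1, 2]),
    ([2, 0], [0, 2, 3]),
    ([2, 1], [1, 2, 4]),
    ([3, 0], [0, 3, 5]),
    ([3, 1], [1, 3]),
    ([3, 2], [2, 3]),
    ([4, 0], [0, 4]),
    ([4, 1], [1, 4, 5]),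
    ([4, 2], [2, 4]),
    ([4, 3], [3, 4]),
    ([5, 0], [0, 5]),
    ([5, 1], [1, 5]),
    ([5, 2], [2, 5]),
    ([5, 3], [3, 5]),
    ([5, 4], [4, 5]),
    ([6, 0], [0, 0, 1, 2, 2, 3, 4, 6]),
    ([6, 1], [0, 0, 1, 1, 2, 2, 3, 4, 5, 6])]
  defs := [(6, 2), (7, 3), (8, 4), (9, 5)]
  targets := [0, 1, 2, 3, 4, 5, 10, 11, 12, 13, 14, 15, 16, 17, 18, 19, 20]
  paths := [
    ([2, 1, 0], [(0, 8, true), (2, 12, true), (1, 7, true), (0, 6, true), (3, 11, false), (4, 14, false), (3, 15, false), (1, 8, false), (2, 10, false), (0, 7, false), (1, 6, false)]),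
    ([3, 1, 0], [(0, 10, true), (1, 9, true), (0, 6, true), (2, 11, false), (3, 18, false), (1, 10, false), (2, 17, false), (0, 9, false), (1, 6, false)]),
    ([3, 2, 0], [(0, 11, true), (1, 9, true), (0, 7, true), (3, 19, false), (1, 11, false), (2, 18, false), (0, 9, false), (1, 7, false)]),
    ([3, 2, 1], [(0, 11, true), (1, 10, true), (0, 8, true), (2, 15, true), (1, 11, false), (0, 10, false), (1, 8, false)]),
    ([4, 1, 0], [(0, 13, true), (2, 16, true), (1, 12, true), (0, 6, true), (2, 14, false), (3, 18, false), (1, 13, false), (0, 12, false), (1, 6, false)]),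
    ([4, 2, 1], [(0, 14, true), (1, 13, true), (0, 8, true), (3, 20, false), (1, 14, false), (2, 18, false), (0, 13, false), (1, 8, false)]),
    ([4, 3, 0], [(0, 15, true), (1, 12, true), (0, 9, true), (2, 20, true), (1, 15, false), (0, 12, false), (1, 9, false)]),
    ([0, 0, 0, 0], [(0, 0, true), (2, 16, true), (1, 12, true), (0, 12, true), (1, 0, false)]),
    ([1, 1, 1, 0], [(0, 1, true), (2, 16, true), (1, 16, true), (0, 9, true), (2, 5, true), (1, 2, false), (3, 11, false), (4, 5, false), (4, 4, false), (6, 20, false), (7, 20, false), (5, 20, false), (6, 20, false), (2, 11, false), (3, 14, false), (4, 18, false), (5, 18, false), (3, 20, false), (4, 20, false), (1, 11, false), (2, 18, false), (3, 18, false), (1, 1, false), (3, 8, false), (4, 8, false), (5, 13, false), (4, 14, false), (2, 8, false), (0, 6, false), (1, 6, false), (2, 6, false)]),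
    ([1, 0, 0, 0], [(0, 6, true), (2, 7, true), (1, 6, true), (5, 9, true), (4, 7, true), (3, 7, true), (2, 6, true), (0, 0, true), (2, 17, true), (1, 13, true), (0, 13, true), (2, 20, true), (3, 5, true), (2, 14, true), (1, 14, true), (3, 14, true), (2, 14, true), (4, 15, true), (3, 15, true), (5, 14, true), (4, 14, true), (3, 11, true), (1, 2, true), (3, 15, true), (2, 15, true), (4, 15, true), (3, 15, true), (1, 3, true), (1, 0, false)]),
    ([2, 2, 2, 0], [(0, 2, true), (1, 3, false), (1, 2, false), (3, 11, false), (4, 11, false), (2, 11, false), (0, 7, false), (1, 7, false), (2, 7, false)]),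
    ([2, 0, 0, 0], [(0, 7, true), (2, 9, true), (1, 7, true), (5, 16, true), (4, 9, true), (3, 9, true), (2, 7, true), (0, 0, true), (2, 18, true), (1, 14, true), (0, 14, true), (3, 19, true), (2, 15, true), (1, 15, true), (4, 19, true), (3, 15, true), (2, 15, true), (6, 19, true), (5, 19, true), (4, 15, true), (3, 15, true), (1, 3, true), (3, 5, true), (1, 0, false)]),
    ([2, 2, 2, 1], [(0, 2, true), (1, 4, false), (1, 2, false), (3, 14, false), (4, 14, false), (2, 14, false), (0, 8, false), (1, 8, false), (2, 8, false)]),
    ([6, 1, 1, 0, 1, 1], [(2, 6, true), (1, 6, true), (3, 8, true), (5, 14, true), (6, 13, true), (5, 8, true), (4, 8, true), (2, 1, true), (4, 18, true), (3, 18, true), (2, 11, true), (5, 20, true), (4, 20, true), (6, 18, true), (5, 18, true), (4, 14, true), (3, 11, true), (7, 20, true), (6, 20, true), (8, 20, true), (7, 20, true), (5, 4, true), (5, 5, true), (4, 10, true), (3, 8, true), (2, 8, true), (4, 14, true), (6, 15, true), (5, 15, true), (1, 6, false), (2, 7, false), (3, 12, false), (4, 12, false), (2, 14, false), (3, 14, false), (4, 5, false), (3, 20, false),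 (1, 13, false), (2, 13, false), (3, 17, false), (1, 0, false), (3, 6, false), (0, 21, true), (7, 21, true), (14, 22, true), (23, 21, true), (30, 21, true), (6, 12, true), (5, 9, true), (4, 7, true), (3, 7, true), (2, 6, true), (0, 0, true), (2, 17, true), (1, 13, true), (0, 13, true), (2, 20, true), (3, 5, true), (2, 14, true), (1, 14, true), (3, 14, true), (2, 14, true), (4, 15, true), (3, 15, true), (5, 14, true), (4, 14, true), (3, 11, true), (1, 2, true), (3, 15, true), (2, 15, true), (4, 15, true), (3, 15, true), (1, 3, true), (3, 20, true), (1, 4, true), (1, 16, true), (0, 6, true), (3, 17, true), (2, 8, true), (5, 18, true), (4, 14, true), (6, 18, true), (5, 14, true), (3, 2, true), (4, 19, true), (3, 15, true), (5, 20, true), (6, 16, true), (5, 12, true), (4, 12, true), (3, 9, true), (2, 6, true), (1, 6, true), (3, 8, true), (5, 14, true), (6, 15, true), (8, 20, true), (9, 20, true), (7, 4, true), (8, 16, true), (7, 16, true), (6, 9, true), (5, 7, true), (4, 7, true), (3, 6, true), (2, 6, true), (0, 0, true), (2, 17, true), (1, 13, true), (0, 13, true), (2, 20, true), (3, 5, true),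 (2, 14, true), (1, 14, true), (3, 13, true), (2, 13, true), (1, 8, true), (5, 20, true), (3, 4, true), (4, 18, true), (3, 18, true), (5, 18, true), (4, 18, true), (2, 2, true), (3, 19, true), (2, 19, true), (4, 18, true), (3, 18, true), (2, 11, true), (5, 19, true), (4, 19, true), (6, 19, true), (5, 19, true), (3, 3, true), (3, 5, true), (4, 17, true), (3, 17, true), (2, 8, true), (0, 1, true), (2, 18, true), (1, 18, true), (0, 11, true), (3, 20, true), (2, 20, true), (3, 5, true), (3, 17, true), (2, 13, true), (1, 10, true), (0, 8, true), (2, 15, true), (6, 18, true), (5, 18, true), (4, 14, true), (3, 14, true), (2, 11, true), (7, 18, true), (6, 18, true), (5, 14, true), (4, 14, true), (3, 11, true), (1, 2, true), (5, 19, true), (4, 19, true), (3, 15, true), (2, 15, true), (6, 20, true), (5, 20, true), (3, 4, true), (3, 5, true), (2, 9, true), (1, 9, true), (0, 6, true), (4, 19, true), (6, 16, true), (5, 16, true), (4, 9, true), (3, 9, true), (2, 7, true), (1, 6, true), (7, 19, true), (5, 3, true), (5, 5, true), (5, 17, true), (4, 8, true), (3, 8, true), (5, 14, true), (8, 18, true), (7,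 14, true), (6, 14, true), (4, 2, true), (6, 18, true), (5, 14, true), (4, 14, true), (7, 19, true), (6, 15, true), (5, 15, true), (8, 20, true), (6, 4, true), (6, 16, true), (5, 9, true), (4, 7, true), (3, 6, true), (2, 6, true), (0, 0, true), (2, 17, true), (1, 13, true), (0, 13, true), (2, 20, true), (3, 5, true), (2, 14, true), (1, 14, true), (3, 13, true), (2, 13, true), (1, 8, true), (5, 20, true), (3, 4, true), (4, 18, true), (3, 18, true), (5, 18, true), (4, 18, true), (2, 2, true), (3, 19, true), (2, 19, true), (4, 19, true), (3, 19, true), (4, 5, true), (4, 16, true), (3, 9, true), (2, 9, true), (1, 6, true), (0, 6, true), (2, 8, true), (4, 14, true), (5, 15, true), (7, 19, true), (6, 15, true), (8, 5, true), (7, 13, true), (6, 10, true), (5, 10, true), (4, 8, true), (3, 8, true), (1, 1, true), (3, 18, true), (2, 18, true), (1, 11, true), (4, 20, true), (3, 20, true), (5, 18, true), (4, 18, true), (3, 14, true), (2, 11, true), (6, 20, true), (5, 20, true), (7, 19, true), (6, 19, true), (5, 15, true), (4, 15, true), (8, 19, true), (7, 19, true), (6, 15, true), (5, 15, true), (3,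 3, true), (6, 20, true), (5, 20, true), (3, 4, true), (3, 5, true), (1, 2, true), (4, 5, false), (3, 20, false), (4, 20, false), (2, 19, false), (3, 19, false), (1, 18, false), (2, 18, false), (1, 2, false), (3, 18, false), (4, 18, false), (3, 5, false), (3, 4, false), (5, 20, false), (6, 20, false), (3, 3, false), (5, 15, false), (6, 15, false), (7, 19, false), (8, 19, false), (4, 15, false), (5, 15, false), (6, 19, false), (7, 19, false), (5, 20, false), (6, 20, false), (2, 11, false), (3, 14, false), (4, 18, false), (5, 18, false), (3, 20, false), (4, 20, false), (1, 11, false), (2, 18, false), (3, 18, false), (1, 1, false), (3, 8, false), (4, 8, false), (5, 10, false), (6, 10, false), (7, 13, false), (8, 17, false), (9, 17, false), (7, 20, false), (7, 4, false), (6, 15, false), (7, 15, false), (5, 15, false), (6, 15, false), (4, 14, false), (2, 8, false), (3, 8, false), (4, 10, false), (5, 10, false), (6, 13, false), (7, 13, false), (8, 5, false), (7, 20, false), (6, 20, false), (0, 6, false), (1, 7, false), (2, 9, false), (3, 12, false), (4, 12, false), (5, 16, false), (6, 16, false),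 (2, 15, false), (3, 15, false), (1, 14, false), (2, 14, false), (3, 5, false), (2, 20, false), (0, 13, false), (1, 13, false), (2, 17, false), (0, 0, false), (2, 6, false), (3, 9, false), (4, 16, false), (4, 4, false), (3, 15, false), (4, 15, false), (3, 2, false), (5, 14, false), (6, 14, false), (4, 14, false), (5, 14, false), (6, 5, false), (2, 8, false), (3, 13, false), (4, 17, false), (5, 17, false), (3, 3, false), (5, 15, false), (6, 19, false), (7, 19, false), (4, 15, false), (5, 19, false), (6, 19, false), (4, 20, false), (5, 20, false), (2, 11, false), (3, 18, false), (4, 18, false), (2, 1, false), (4, 8, false), (5, 10, false), (6, 10, false), (7, 4, false), (6, 15, false), (4, 11, false), (5, 14, false), (4, 15, false), (4, 2, false), (6, 14, false), (5, 14, false), (3, 8, false), (1, 6, false), (2, 6, false), (3, 7, false), (4, 7, false), (5, 12, false), (6, 12, false), (4, 14, false), (2, 8, false), (0, 6, false), (1, 6, false), (2, 12, false), (2, 3, false), (2, 2, false), (4, 11, false), (5, 11, false), (3, 11, false), (4, 11, false), (5, 5, false), (5, 4, false), (7, 20,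 false), (4, 15, false), (3, 15, false), (1, 8, false), (2, 10, false), (3, 10, false), (4, 13, false), (5, 13, false), (6, 17, false), (6, 5, false), (3, 15, false), (4, 15, false), (5, 19, false), (2, 15, false), (3, 15, false), (1, 14, false), (2, 14, false), (3, 5, false), (2, 20, false), (0, 13, false), (1, 13, false), (2, 17, false), (0, 0, false), (2, 6, false), (3, 9, false), (4, 9, false), (5, 16, false), (6, 16, false), (3, 2, false), (5, 11, false), (1, 6, false), (2, 7, false), (3, 7, false), (4, 16, false), (5, 16, false), (4, 4, false), (6, 20, false), (4, 3, false), (6, 15, false), (7, 15, false), (8, 19, false), (3, 11, false), (4, 11, false), (5, 14, false), (6, 14, false), (7, 18, false), (2, 11, false), (3, 11, false), (4, 14, false), (5, 14, false), (6, 18, false), (6, 5, false), (5, 20, false), (1, 10, false), (2, 10, false), (3, 13, false), (4, 13, false), (5, 17, false), (6, 17, false), (4, 5, false), (3, 20, false), (4, 20, false), (2, 19, false), (3, 19, false), (1, 1, false), (3, 10, false), (4, 13, false), (5, 13, false), (6, 17, false), (3, 15, false), (3, 2,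 false), (5, 14, false), (4, 14, false), (2, 8, false), (0, 6, false), (1, 6, false), (2, 7, false), (3, 12, false), (4, 16, false), (3, 5, false), (3, 3, false), (5, 19, false), (6, 19, false), (4, 19, false), (5, 19, false), (2, 11, false), (3, 18, false), (4, 18, false), (2, 19, false), (3, 19, false), (2, 2, false), (4, 18, false), (5, 18, false), (3, 18, false), (4, 18, false), (3, 4, false), (5, 20, false), (1, 8, false), (2, 13, false), (3, 13, false), (1, 14, false), (2, 14, false), (3, 5, false), (2, 20, false), (0, 13, false), (1, 13, false), (2, 17, false), (0, 0, false), (2, 6, false), (3, 6, false), (4, 7, false), (5, 7, false), (6, 9, false), (7, 12, false), (8, 16, false), (34, 22, false), (25, 22, false), (18, 21, false), (9, 22, false), (0, 22, false)]),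
    ([6, 1, 0, 0, 0, 1, 1], [(1, 6, true), (3, 7, true), (2, 6, true), (6, 9, true), (5, 7, true), (4, 7, true), (3, 6, true), (1, 0, true), (3, 17, true), (2, 13, true), (1, 13, true), (3, 20, true), (4, 5, true), (3, 14, true), (2, 14, true), (4, 14, true), (3, 14, true), (5, 15, true), (4, 15, true), (6, 14, true), (5, 14, true), (4, 11, true), (2, 2, true), (4, 15, true), (3, 15, true), (5, 15, true), (4, 15, true), (2, 3, true), (4, 17, true), (3, 13, true), (2, 13, true), (4, 20, true), (5, 5, true), (4, 13, true), (3, 13, true), (1, 1, true), (3, 20, true), (2, 20, true), (3, 5, true), (4, 5, false), (1, 15, false), (2, 15, false), (3, 19, false), (1, 0, false), (3, 9, false), (4, 16, false), (5, 16, false), (3, 1, false), (0, 21, true), (7, 21, true), (14, 22, true), (23, 22, true), (32, 22, true), (41, 21, true), (6, 12, true), (5, 9, true), (4, 7, true), (3, 7, true), (2, 6, true), (0, 0, true), (2, 17, true), (1, 13, true), (0, 13, true), (2, 20, true), (3, 5, true), (2, 14, true), (1, 14, true), (3, 14, true), (2, 14, true), (4, 15, true), (3, 15, true), (5, 14, true), (4, 14,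 true), (3, 11, true), (1, 2, true), (3, 15, true), (2, 15, true), (4, 15, true), (3, 15, true), (1, 3, true), (3, 20, true), (1, 4, true), (1, 16, true), (0, 6, true), (3, 17, true), (2, 8, true), (5, 18, true), (4, 14, true), (6, 18, true), (5, 14, true), (3, 2, true), (4, 19, true), (3, 15, true), (5, 20, true), (6, 16, true), (5, 12, true), (4, 12, true), (3, 9, true), (2, 6, true), (1, 6, true), (3, 8, true), (5, 14, true), (6, 15, true), (8, 20, true), (9, 20, true), (7, 4, true), (8, 16, true), (7, 16, true), (6, 9, true), (5, 7, true), (4, 7, true), (3, 6, true), (2, 6, true), (0, 0, true), (2, 17, true), (1, 13, true), (0, 13, true), (2, 20, true), (3, 5, true), (2, 14, true), (1, 14, true), (3, 13, true), (2, 13, true), (1, 8, true), (5, 20, true), (3, 4, true), (4, 18, true), (3, 18, true), (5, 18, true), (4, 18, true), (2, 2, true), (3, 19, true), (2, 19, true), (4, 18, true), (3, 18, true), (2, 11, true), (5, 19, true), (4, 19, true), (6, 19, true), (5, 19, true), (3, 3, true), (3, 5, true), (4, 17, true), (3, 17, true), (2, 8, true), (0, 1, true), (2, 18, true), (1, 18, true),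 (0, 11, true), (3, 20, true), (2, 20, true), (3, 5, true), (3, 17, true), (2, 13, true), (1, 10, true), (0, 8, true), (2, 15, true), (6, 18, true), (5, 18, true), (4, 14, true), (3, 14, true), (2, 11, true), (7, 18, true), (6, 18, true), (5, 14, true), (4, 14, true), (3, 11, true), (1, 2, true), (5, 19, true), (4, 19, true), (3, 15, true), (2, 15, true), (6, 20, true), (5, 20, true), (3, 4, true), (3, 5, true), (2, 9, true), (1, 9, true), (0, 6, true), (4, 19, true), (6, 16, true), (5, 16, true), (4, 9, true), (3, 9, true), (2, 7, true), (1, 6, true), (7, 19, true), (5, 3, true), (5, 5, true), (5, 17, true), (4, 8, true), (3, 8, true), (5, 14, true), (8, 17, true), (7, 13, true), (6, 13, true), (5, 8, true), (4, 8, true), (2, 1, true), (4, 18, true), (3, 18, true), (2, 11, true), (5, 20, true), (4, 20, true), (6, 18, true), (5, 18, true), (4, 14, true), (3, 11, true), (7, 20, true), (6, 20, true), (8, 20, true), (7, 20, true), (5, 4, true), (5, 5, true), (7, 18, true), (6, 18, true), (5, 14, true), (4, 11, true), (2, 2, true), (5, 18, true), (4, 18, true), (3, 14, true), (2, 11, true),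 (6, 19, true), (5, 19, true), (4, 15, true), (7, 20, true), (6, 20, true), (7, 5, true), (6, 12, true), (5, 12, true), (4, 9, true), (3, 9, true), (2, 7, true), (0, 0, true), (2, 18, true), (1, 14, true), (0, 14, true), (3, 19, true), (2, 15, true), (1, 15, true), (4, 19, true), (3, 15, true), (2, 15, true), (6, 19, true), (5, 19, true), (4, 15, true), (3, 15, true), (1, 3, true), (3, 5, true), (1, 4, true), (1, 12, true), (0, 7, true), (3, 13, true), (2, 10, true), (1, 8, true), (3, 15, true), (6, 17, true), (5, 13, true), (4, 13, true), (3, 10, true), (2, 8, true), (4, 15, true), (7, 20, true), (5, 4, true), (5, 5, true), (4, 11, true), (5, 11, true), (3, 2, true), (6, 16, true), (5, 12, true), (4, 9, true), (3, 9, true), (2, 6, true), (1, 6, true), (3, 8, true), (5, 14, true), (6, 15, true), (8, 19, true), (7, 15, true), (10, 20, true), (9, 20, true), (10, 5, true), (9, 12, true), (8, 12, true), (7, 9, true), (6, 9, true), (5, 7, true), (4, 7, true), (3, 6, true), (2, 6, true), (0, 0, true), (2, 17, true), (1, 13, true), (0, 13, true), (2, 20, true), (3, 5, true), (2, 14, true), (1,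 14, true), (3, 13, true), (2, 13, true), (1, 8, true), (5, 20, true), (3, 4, true), (4, 18, true), (3, 18, true), (5, 18, true), (4, 18, true), (2, 2, true), (3, 19, true), (2, 19, true), (4, 18, true), (3, 18, true), (2, 11, true), (5, 19, true), (4, 19, true), (6, 19, true), (5, 19, true), (3, 3, true), (3, 5, true), (4, 20, true), (5, 20, true), (6, 17, true), (5, 13, true), (4, 13, true), (3, 10, true), (2, 8, true), (0, 1, true), (2, 18, true), (1, 18, true), (0, 11, true), (3, 20, true), (2, 20, true), (4, 19, true), (3, 19, true), (2, 15, true), (5, 20, true), (4, 20, true), (5, 5, true), (3, 4, true), (4, 18, true), (3, 18, true), (2, 11, true), (1, 11, true), (5, 18, true), (4, 18, true), (3, 11, true), (2, 11, true), (0, 2, true), (3, 19, true), (2, 19, true), (0, 3, true), (1, 20, true), (0, 20, true), (0, 20, false), (0, 3, false), (2, 19, false), (0, 2, false), (2, 11, false), (3, 11, false), (4, 18, false), (1, 11, false), (2, 11, false), (3, 18, false), (3, 4, false), (5, 5, false), (4, 20, false), (5, 20, false), (2, 15, false), (3, 19, false), (4, 19, false), (2, 20, false),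 (3, 20, false), (0, 11, false), (1, 18, false), (2, 18, false), (0, 1, false), (2, 8, false), (3, 10, false), (4, 13, false), (5, 13, false), (6, 5, false), (3, 15, false), (1, 8, false), (2, 10, false), (3, 13, false), (4, 17, false), (5, 17, false), (3, 20, false), (3, 4, false), (5, 20, false), (2, 15, false), (3, 15, false), (1, 14, false), (2, 14, false), (3, 5, false), (2, 20, false), (0, 13, false), (1, 13, false), (2, 17, false), (0, 0, false), (2, 6, false), (3, 9, false), (4, 12, false), (5, 12, false), (6, 16, false), (6, 5, false), (5, 20, false), (6, 20, false), (4, 20, false), (5, 20, false), (3, 19, false), (3, 3, false), (3, 2, false), (5, 11, false), (1, 6, false), (2, 7, false), (3, 7, false), (4, 9, false), (5, 9, false), (6, 12, false), (7, 12, false), (8, 16, false), (9, 16, false), (7, 20, false), (5, 15, false), (6, 19, false), (3, 11, false), (4, 14, false), (5, 18, false), (2, 11, false), (3, 14, false), (4, 18, false), (1, 10, false), (2, 13, false), (3, 5, false), (2, 20, false), (3, 20, false), (1, 1, false), (3, 13, false), (4, 5, false), (3, 3, false), (5,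 15, false), (6, 19, false), (4, 15, false), (3, 15, false), (3, 2, false), (5, 14, false), (4, 14, false), (2, 8, false), (0, 6, false), (1, 6, false), (2, 7, false), (3, 9, false), (4, 9, false), (5, 16, false), (5, 5, false), (4, 19, false), (5, 19, false), (2, 11, false), (3, 18, false), (4, 18, false), (2, 19, false), (3, 19, false), (2, 2, false), (4, 18, false), (5, 18, false), (3, 18, false), (4, 18, false), (3, 4, false), (5, 20, false), (1, 8, false), (2, 13, false), (3, 13, false), (1, 14, false), (2, 14, false), (3, 5, false), (2, 20, false), (0, 13, false), (1, 13, false), (2, 17, false), (0, 0, false), (2, 6, false), (3, 6, false), (4, 7, false), (5, 7, false), (6, 16, false), (7, 16, false), (6, 4, false), (8, 20, false), (9, 20, false), (6, 3, false), (8, 15, false), (9, 15, false), (10, 19, false), (11, 19, false), (5, 11, false), (6, 11, false), (7, 14, false), (8, 14, false), (9, 18, false), (10, 18, false), (4, 11, false), (5, 11, false), (6, 14, false), (7, 14, false), (8, 18, false), (9, 18, false), (7, 20, false), (3, 10, false), (4, 10, false), (5, 13, false), (6,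 13, false), (3, 2, false), (5, 11, false), (1, 6, false), (2, 7, false), (3, 7, false), (4, 12, false), (5, 12, false), (6, 5, false), (5, 20, false), (6, 20, false), (4, 20, false), (5, 20, false), (4, 3, false), (6, 19, false), (0, 6, false), (1, 7, false), (2, 9, false), (3, 9, false), (4, 12, false), (5, 12, false), (6, 16, false), (5, 20, false), (3, 15, false), (4, 19, false), (1, 11, false), (2, 14, false), (3, 18, false), (1, 2, false), (3, 11, false), (4, 14, false), (5, 18, false), (5, 5, false), (4, 20, false), (4, 4, false), (3, 15, false), (4, 15, false), (2, 14, false), (0, 8, false), (1, 8, false), (2, 10, false), (3, 13, false), (4, 13, false), (5, 17, false), (6, 17, false), (5, 5, false), (2, 15, false), (3, 15, false), (4, 19, false), (5, 19, false), (2, 3, false), (4, 15, false), (5, 15, false), (6, 19, false), (3, 15, false), (4, 15, false), (5, 19, false), (1, 11, false), (2, 14, false), (3, 14, false), (4, 18, false), (1, 15, false), (2, 15, false), (3, 19, false), (0, 14, false), (1, 14, false), (2, 18, false), (0, 0, false), (2, 7, false), (3, 7, false), (4, 9,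 false), (5, 9, false), (6, 16, false), (7, 16, false), (3, 11, false), (1, 7, false), (2, 7, false), (3, 16, false), (4, 16, false), (3, 4, false), (5, 20, false), (6, 20, false), (3, 3, false), (5, 15, false), (6, 15, false), (7, 19, false), (8, 19, false), (2, 11, false), (3, 11, false), (4, 14, false), (5, 14, false), (6, 18, false), (7, 18, false), (1, 11, false), (2, 11, false), (3, 14, false), (4, 14, false), (5, 18, false), (6, 18, false), (4, 5, false), (3, 20, false), (4, 20, false), (2, 19, false), (3, 19, false), (1, 1, false), (3, 10, false), (4, 13, false), (5, 13, false), (6, 17, false), (3, 15, false), (3, 2, false), (5, 14, false), (4, 14, false), (2, 8, false), (0, 6, false), (1, 6, false), (2, 7, false), (3, 12, false), (4, 16, false), (3, 5, false), (3, 3, false), (5, 19, false), (6, 19, false), (4, 19, false), (5, 19, false), (2, 11, false), (3, 18, false), (4, 18, false), (2, 19, false), (3, 19, false), (2, 2, false), (4, 18, false), (5, 18, false), (3, 18, false), (4, 18, false), (3, 4, false), (5, 20, false), (1, 8, false), (2, 13, false), (3, 13, false), (1, 14,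 false), (2, 14, false), (3, 5, false), (2, 20, false), (0, 13, false), (1, 13, false), (2, 17, false), (0, 0, false), (2, 6, false), (3, 6, false), (4, 7, false), (5, 7, false), (6, 9, false), (7, 12, false), (8, 16, false), (39, 22, false), (30, 22, false), (23, 21, false), (16, 21, false), (9, 21, false), (0, 22, false)]),
    ([6, 0, 0, 1, 0, 1, 0, 0], [(3, 6, true), (1, 0, true), (3, 17, true), (2, 13, true), (1, 13, true), (3, 20, true), (4, 5, true), (3, 14, true), (2, 14, true), (4, 13, true), (3, 13, true), (2, 8, true), (6, 20, true), (4, 4, true), (5, 16, true), (4, 16, true), (3, 7, true), (2, 6, true), (1, 6, true), (3, 8, true), (5, 14, true), (6, 14, true), (4, 2, true), (4, 15, true), (7, 16, true), (6, 16, true), (5, 12, true), (4, 9, true), (3, 6, true), (2, 6, true), (4, 8, true), (6, 14, true), (7, 15, true), (9, 20, true), (10, 5, true), (7, 15, false), (8, 15, false), (6, 14, false), (4, 8, false), (5, 8, false), (6, 10, false), (2, 6, false), (3, 7, false), (1, 6, false), (0, 22, true), (9, 21, true), (16, 21, true), (23, 22, true), (8, 16, true), (7, 12, true), (6,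 9, true), (5, 7, true), (4, 7, true), (3, 6, true), (2, 6, true), (0, 0, true), (2, 17, true), (1, 13, true), (0, 13, true), (2, 20, true), (3, 5, true), (2, 14, true), (1, 14, true), (3, 13, true), (2, 13, true), (1, 8, true), (5, 20, true), (3, 4, true), (4, 18, true), (3, 18, true), (5, 18, true), (4, 18, true), (2, 2, true), (3, 19, true), (2, 19, true), (4, 18, true), (3, 18, true), (2, 11, true), (5, 19, true), (4, 19, true), (6, 19, true), (5, 19, true), (3, 3, true), (3, 5, true), (4, 16, true), (3, 12, true), (2, 7, true), (1, 6, true), (0, 6, true), (2, 8, true), (4, 14, true), (5, 14, true), (3, 2, true), (3, 15, true), (6, 17, true), (5, 13, true), (4, 13, true), (3, 10, true), (1, 1, true), (3, 19, true), (2, 19, true), (4, 20, true), (3, 20, true), (4, 5, true), (6, 18, true), (5, 18, true), (4, 14, true), (3, 14, true), (2, 11, true), (1, 11, true), (7, 18, true), (6, 18, true), (5, 14, true), (4, 14, true), (3, 11, true), (2, 11, true), (8, 19, true), (7, 19, true), (6, 15, true), (5, 15, true), (3, 3, true), (6, 20, true), (5, 20, true), (3, 4, true), (4, 16, true), (3,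 16, true), (2, 7, true), (1, 7, true), (3, 11, true), (7, 16, true), (6, 16, true), (5, 9, true), (4, 9, true), (3, 7, true), (2, 7, true), (0, 0, true), (2, 18, true), (1, 14, true), (0, 14, true), (3, 19, true), (2, 15, true), (1, 15, true), (4, 18, true), (3, 14, true), (2, 14, true), (1, 11, true), (5, 19, true), (4, 15, true), (3, 15, true), (6, 19, true), (5, 15, true), (4, 15, true), (2, 3, true), (5, 19, true), (4, 19, true), (3, 15, true), (2, 15, true), (5, 5, true), (6, 17, true), (5, 17, true), (4, 13, true), (3, 13, true), (2, 10, true), (1, 8, true), (0, 8, true), (2, 14, true), (4, 15, true), (3, 15, true), (4, 4, true), (4, 20, true), (5, 5, true), (5, 18, true), (4, 14, true), (3, 11, true), (1, 2, true), (3, 18, true), (2, 14, true), (1, 11, true), (4, 19, true), (3, 15, true), (5, 20, true), (6, 16, true), (5, 12, true), (4, 12, true), (3, 9, true), (2, 9, true), (1, 7, true), (0, 6, true), (6, 19, true), (4, 3, true), (5, 20, true), (4, 20, true), (6, 20, true), (5, 20, true), (6, 5, true), (5, 12, true), (4, 12, true), (3, 7, true), (2, 7, true), (1, 6, true), (5, 11,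 true), (3, 2, true), (6, 13, true), (5, 13, true), (4, 10, true), (3, 10, true), (7, 20, true), (9, 17, true), (8, 17, true), (7, 13, true), (6, 13, true), (5, 10, true), (4, 10, true), (2, 1, true), (4, 19, true), (3, 19, true), (5, 19, true), (4, 19, true), (2, 3, true), (3, 20, true), (2, 20, true), (3, 5, true), (4, 5, true), (3, 14, true), (2, 14, true), (4, 14, true), (3, 14, true), (5, 15, true), (4, 15, true), (5, 4, true), (5, 4, false), (7, 20, false), (4, 15, false), (5, 15, false), (6, 19, false), (3, 14, false), (4, 14, false), (5, 18, false), (2, 14, false), (3, 14, false), (4, 18, false), (3, 5, false), (2, 20, false), (3, 20, false), (2, 3, false), (4, 19, false), (5, 19, false), (3, 19, false), (4, 19, false), (2, 1, false), (4, 10, false), (5, 10, false), (6, 13, false), (7, 13, false), (8, 5, false), (7, 20, false), (5, 15, false), (4, 15, false), (4, 2, false), (6, 14, false), (5, 14, false), (3, 8, false), (1, 6, false), (2, 6, false), (3, 7, false), (4, 9, false), (5, 12, false), (6, 16, false), (7, 16, false), (4, 15, false), (5, 19, false), (4, 3, false), (6, 15,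 false), (5, 15, false), (3, 11, false), (4, 14, false), (3, 15, false), (3, 2, false), (5, 14, false), (4, 14, false), (2, 8, false), (0, 6, false), (1, 6, false), (2, 7, false), (3, 7, false), (4, 9, false), (5, 9, false), (6, 4, false), (5, 15, false), (6, 15, false), (3, 11, false), (4, 14, false), (5, 14, false), (2, 11, false), (3, 14, false), (4, 14, false), (5, 5, false), (4, 20, false), (1, 10, false), (2, 13, false), (3, 13, false), (4, 17, false), (4, 5, false), (1, 15, false), (2, 15, false), (3, 19, false), (1, 3, false), (3, 15, false), (4, 15, false), (2, 15, false), (3, 15, false), (1, 2, false), (3, 11, false), (4, 14, false), (5, 14, false), (3, 15, false), (4, 15, false), (2, 14, false), (3, 14, false), (1, 14, false), (2, 14, false), (3, 5, false), (2, 20, false), (0, 13, false), (1, 13, false), (2, 17, false), (0, 0, false), (2, 6, false), (3, 7, false), (4, 7, false), (5, 9, false), (6, 9, false), (7, 16, false), (8, 16, false), (1, 6, false), (2, 7, false), (3, 9, false), (4, 16, false), (4, 4, false), (3, 15, false), (4, 15, false), (2, 14, false), (3, 14, false),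 (2, 2, false), (4, 14, false), (5, 14, false), (3, 14, false), (1, 8, false), (2, 8, false), (3, 5, false), (3, 4, false), (5, 20, false), (6, 20, false), (3, 3, false), (5, 15, false), (6, 15, false), (7, 19, false), (8, 19, false), (4, 15, false), (5, 15, false), (6, 19, false), (7, 19, false), (5, 20, false), (6, 20, false), (2, 11, false), (3, 14, false), (4, 18, false), (5, 18, false), (3, 20, false), (4, 20, false), (1, 11, false), (2, 18, false), (3, 18, false), (1, 1, false), (3, 8, false), (4, 8, false), (5, 10, false), (6, 10, false), (7, 13, false), (8, 5, false), (6, 15, false), (7, 19, false), (5, 15, false), (4, 14, false), (2, 8, false), (0, 6, false), (1, 6, false), (2, 9, false), (3, 9, false), (4, 16, false), (4, 5, false), (3, 19, false), (4, 19, false), (2, 19, false), (3, 19, false), (2, 2, false), (4, 18, false), (5, 18, false), (3, 18, false), (4, 18, false), (3, 4, false), (5, 20, false), (1, 8, false), (2, 13, false), (3, 13, false), (1, 14, false), (2, 14, false), (3, 5, false), (2, 20, false), (0, 13, false), (1, 13, false), (2, 17, false), (0, 0, false), (2,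 6, false), (3, 6, false), (4, 7, false), (5, 9, false), (6, 16, false), (6, 4, false), (8, 20, false), (5, 15, false), (6, 15, false), (7, 19, false), (4, 14, false), (5, 14, false), (6, 18, false), (4, 2, false), (6, 14, false), (7, 14, false), (8, 18, false), (5, 14, false), (3, 8, false), (4, 8, false), (5, 17, false), (5, 5, false), (5, 3, false), (7, 19, false), (1, 6, false), (2, 7, false), (3, 9, false), (4, 9, false), (5, 16, false), (6, 16, false), (4, 19, false), (0, 6, false), (1, 9, false), (2, 9, false), (3, 5, false), (3, 4, false), (5, 20, false), (6, 20, false), (2, 15, false), (3, 15, false), (4, 19, false), (5, 19, false), (1, 2, false), (3, 11, false), (4, 14, false), (5, 14, false), (6, 18, false), (7, 18, false), (2, 11, false), (3, 14, false), (4, 14, false), (5, 18, false), (6, 18, false), (2, 15, false), (0, 8, false), (1, 10, false), (2, 13, false), (3, 17, false), (3, 5, false), (2, 20, false), (3, 20, false), (0, 11, false), (1, 18, false), (2, 18, false), (0, 1, false), (2, 8, false), (3, 17, false), (4, 17, false), (3, 5, false), (3, 3, false), (5, 19, false),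 (6, 19, false), (4, 19, false), (5, 19, false), (2, 11, false), (3, 18, false), (4, 18, false), (2, 19, false), (3, 19, false), (2, 2, false), (4, 18, false), (5, 18, false), (3, 18, false), (4, 18, false), (3, 4, false), (5, 20, false), (1, 8, false), (2, 13, false), (3, 13, false), (1, 14, false), (2, 14, false), (3, 5, false), (2, 20, false), (0, 13, false), (1, 13, false), (2, 17, false), (0, 0, false), (2, 6, false), (3, 6, false), (4, 7, false), (5, 7, false), (6, 9, false), (7, 16, false), (8, 16, false), (7, 4, false), (9, 20, false), (8, 20, false), (6, 15, false), (5, 14, false), (3, 8, false), (1, 6, false), (2, 6, false), (3, 9, false), (4, 12, false), (5, 12, false), (6, 16, false), (5, 20, false), (3, 15, false), (4, 19, false), (3, 2, false), (5, 14, false), (6, 18, false), (4, 14, false), (5, 18, false), (2, 8, false), (3, 17, false), (0, 6, false), (1, 16, false), (1, 4, false), (3, 20, false), (1, 3, false), (3, 15, false), (4, 15, false), (2, 15, false), (3, 15, false), (1, 2, false), (3, 11, false), (4, 14, false), (5, 14, false), (3, 15, false), (4, 15, false), (2,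 14, false), (3, 14, false), (1, 14, false), (2, 14, false), (3, 5, false), (2, 20, false), (0, 13, false), (1, 13, false), (2, 17, false), (0, 0, false), (2, 6, false), (3, 7, false), (4, 7, false), (5, 9, false), (6, 12, false), (46, 21, false), (39, 21, false), (30, 22, false), (23, 21, false), (14, 22, false), (7, 21, false), (0, 21, false)]),
    ([6, 1, 0, 1, 1, 0, 0, 0], [(1, 6, true), (3, 8, true), (5, 13, true), (4, 8, true), (2, 1, true), (4, 18, true), (3, 18, true), (2, 11, true), (5, 20, true), (4, 20, true), (6, 20, true), (5, 20, true), (6, 5, true), (5, 12, true), (4, 12, true), (3, 9, true), (2, 7, true), (6, 20, true), (7, 20, true), (8, 16, true), (7, 12, true), (6, 12, true), (5, 9, true), (4, 9, true), (3, 7, true), (1, 0, true), (3, 18, true), (2, 14, true), (1, 14, true), (4, 19, true), (3, 15, true), (2, 15, true), (5, 19, true), (4, 15, true), (3, 15, true), (7, 19, true), (6, 19, true), (5, 15, true), (4, 15, true), (2, 3, true), (4, 5, true), (2, 4, true), (3, 16, true), (2, 12, true), (1, 7, true), (5, 5, false), (4, 20, false), (5, 20, false), (2, 11, false),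 (3, 18, false), (4, 18, false), (2, 1, false), (4, 8, false), (5, 17, false), (6, 17, false), (5, 4, false), (7, 20, false), (3, 8, false), (4, 13, false), (5, 13, false), (1, 6, false), (2, 12, false), (3, 12, false), (4, 5, false), (3, 20, false), (1, 13, false), (2, 13, false), (3, 17, false), (1, 0, false), (0, 21, true), (7, 21, true), (14, 21, true), (21, 22, true), (30, 21, true), (37, 22, true), (46, 22, true), (6, 12, true), (5, 9, true), (4, 7, true), (3, 7, true), (2, 6, true), (0, 0, true), (2, 17, true), (1, 13, true), (0, 13, true), (2, 20, true), (3, 5, true), (2, 14, true), (1, 14, true), (3, 14, true), (2, 14, true), (4, 15, true), (3, 15, true), (5, 14, true), (4, 14, true), (3, 11, true), (1, 2, true), (3, 15, true), (2, 15, true), (4, 15, true), (3, 15, true), (1, 3, true), (3, 20, true), (1, 4, true), (1, 16, true), (0, 6, true), (3, 17, true), (2, 8, true), (5, 18, true), (4, 14, true), (6, 18, true), (5, 14, true), (3, 2, true), (4, 19, true), (3, 15, true), (5, 20, true), (6, 16, true), (5, 12, true), (4, 12, true), (3, 9, true), (2, 6, true), (1, 6, true), (3, 8,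 true), (5, 14, true), (6, 15, true), (8, 20, true), (9, 20, true), (7, 4, true), (8, 16, true), (7, 16, true), (6, 9, true), (5, 7, true), (4, 7, true), (3, 6, true), (2, 6, true), (0, 0, true), (2, 17, true), (1, 13, true), (0, 13, true), (2, 20, true), (3, 5, true), (2, 14, true), (1, 14, true), (3, 13, true), (2, 13, true), (1, 8, true), (5, 20, true), (3, 4, true), (4, 18, true), (3, 18, true), (5, 18, true), (4, 18, true), (2, 2, true), (3, 19, true), (2, 19, true), (4, 18, true), (3, 18, true), (2, 11, true), (5, 19, true), (4, 19, true), (6, 19, true), (5, 19, true), (3, 3, true), (3, 5, true), (4, 17, true), (3, 17, true), (2, 8, true), (0, 1, true), (2, 18, true), (1, 18, true), (0, 11, true), (3, 20, true), (2, 20, true), (3, 5, true), (3, 18, true), (2, 14, true), (1, 11, true), (4, 18, true), (3, 14, true), (2, 11, true), (0, 2, true), (2, 19, true), (1, 15, true), (3, 20, true), (4, 16, true), (3, 12, true), (2, 12, true), (1, 9, true), (0, 9, true), (2, 19, true), (4, 20, true), (3, 20, true), (5, 20, true), (4, 20, true), (5, 5, true), (4, 12, true), (3, 12, true), (2, 9,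 true), (1, 9, true), (3, 19, true), (5, 20, true), (4, 20, true), (6, 20, true), (5, 20, true), (7, 17, true), (6, 17, true), (5, 13, true), (4, 13, true), (3, 10, true), (2, 10, true), (6, 20, true), (7, 5, true), (7, 17, true), (6, 13, true), (5, 13, true), (4, 10, true), (3, 10, true), (7, 20, true), (8, 5, true), (7, 14, true), (6, 14, true), (5, 11, true), (4, 11, true), (8, 14, true), (7, 14, true), (6, 11, true), (5, 11, true), (9, 15, true), (8, 15, true), (6, 3, true), (6, 4, true), (6, 16, true), (5, 7, true), (4, 7, true), (3, 6, true), (2, 6, true), (0, 0, true), (2, 17, true), (1, 13, true), (0, 13, true), (2, 20, true), (3, 5, true), (2, 14, true), (1, 14, true), (3, 13, true), (2, 13, true), (1, 8, true), (5, 20, true), (3, 4, true), (4, 18, true), (3, 18, true), (5, 18, true), (4, 18, true), (2, 2, true), (3, 19, true), (2, 19, true), (4, 18, true), (3, 18, true), (2, 11, true), (5, 19, true), (4, 19, true), (5, 5, true), (4, 9, true), (3, 9, true), (2, 7, true), (1, 6, true), (0, 6, true), (2, 8, true), (4, 14, true), (5, 14, true), (3, 2, true), (3, 15, true), (4, 15,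 true), (6, 19, true), (5, 15, true), (3, 3, true), (5, 17, true), (4, 17, true), (3, 13, true), (1, 1, true), (3, 20, true), (2, 20, true), (3, 5, true), (4, 18, true), (3, 18, true), (2, 14, true), (1, 11, true), (5, 18, true), (4, 18, true), (3, 14, true), (2, 11, true), (6, 19, true), (5, 19, true), (4, 15, true), (7, 20, true), (6, 20, true), (8, 16, true), (7, 16, true), (6, 12, true), (5, 12, true), (4, 9, true), (3, 9, true), (2, 7, true), (1, 7, true), (3, 11, true), (4, 3, true), (4, 19, true), (6, 20, true), (5, 20, true), (7, 20, true), (6, 20, true), (7, 5, true), (7, 16, true), (6, 12, true), (5, 12, true), (4, 9, true), (3, 7, true), (2, 7, true), (0, 0, true), (2, 18, true), (1, 14, true), (0, 14, true), (3, 19, true), (2, 15, true), (1, 15, true), (4, 18, true), (3, 14, true), (2, 14, true), (1, 11, true), (5, 19, true), (4, 15, true), (3, 15, true), (6, 19, true), (5, 15, true), (4, 15, true), (2, 3, true), (5, 20, true), (4, 20, true), (2, 4, true), (3, 20, true), (2, 20, true), (3, 5, true), (2, 13, true), (1, 8, true), (0, 8, true), (2, 14, true), (3, 4, true), (3, 17,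 true), (2, 8, true), (1, 8, true), (3, 14, true), (6, 18, true), (5, 14, true), (4, 14, true), (2, 2, true), (4, 18, true), (3, 14, true), (2, 14, true), (5, 19, true), (4, 15, true), (3, 15, true), (6, 20, true), (4, 4, true), (5, 16, true), (4, 16, true), (3, 9, true), (2, 7, true), (1, 6, true), (0, 6, true), (2, 8, true), (4, 14, true), (5, 14, true), (3, 2, true), (3, 15, true), (4, 15, true), (6, 5, true), (5, 12, true), (4, 9, true), (3, 9, true), (2, 6, true), (1, 6, true), (3, 8, true), (5, 14, true), (6, 15, true), (8, 19, true), (7, 15, true), (10, 20, true), (9, 20, true), (11, 17, true), (10, 17, true), (9, 13, true), (8, 13, true), (7, 10, true), (6, 10, true), (5, 8, true), (4, 8, true), (2, 1, true), (4, 18, true), (3, 18, true), (2, 11, true), (5, 20, true), (4, 20, true), (6, 18, true), (5, 18, true), (4, 14, true), (3, 11, true), (7, 20, true), (6, 20, true), (8, 19, true), (7, 19, true), (6, 15, true), (5, 15, true), (9, 19, true), (8, 19, true), (7, 15, true), (6, 15, true), (4, 3, true), (7, 20, true), (6, 20, true), (4, 4, true), (4, 5, true), (5, 5, true), (4, 13,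 true), (3, 8, true), (2, 8, true), (4, 14, true), (5, 4, true), (5, 18, true), (3, 2, true), (3, 18, true), (4, 19, true), (5, 20, true), (5, 20, false), (6, 20, false), (4, 19, false), (5, 19, false), (3, 18, false), (4, 18, false), (3, 2, false), (5, 18, false), (6, 18, false), (5, 4, false), (4, 14, false), (2, 8, false), (3, 8, false), (4, 13, false), (5, 17, false), (4, 20, false), (4, 3, false), (3, 11, false), (1, 7, false), (2, 7, false), (3, 9, false), (4, 12, false), (5, 5, false), (4, 20, false), (5, 20, false), (3, 19, false), (3, 3, false), (2, 11, false), (0, 7, false), (1, 7, false), (2, 9, false), (3, 9, false), (4, 12, false), (5, 16, false), (4, 20, false), (3, 19, false), (1, 11, false), (2, 18, false), (0, 11, false), (1, 18, false), (1, 5, false), (0, 1, false), (2, 17, false), (3, 17, false), (2, 3, false), (4, 5, false), (3, 19, false), (4, 19, false), (2, 19, false), (3, 19, false), (2, 2, false), (4, 18, false), (5, 18, false), (3, 18, false), (4, 18, false), (3, 4, false), (5, 20, false), (1, 8, false), (2, 13, false), (3, 13, false), (1, 14, false), (2, 14, false),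 (3, 5, false), (2, 20, false), (0, 13, false), (1, 13, false), (2, 17, false), (0, 0, false), (2, 6, false), (3, 6, false), (4, 7, false), (5, 9, false), (6, 9, false), (7, 16, false), (7, 4, false), (6, 15, false), (4, 11, false), (5, 14, false), (4, 15, false), (4, 2, false), (6, 14, false), (5, 14, false), (3, 8, false), (1, 6, false), (2, 6, false), (3, 7, false), (4, 7, false), (5, 12, false), (6, 12, false), (7, 16, false), (6, 20, false), (5, 3, false), (7, 15, false), (8, 19, false), (4, 11, false), (5, 11, false), (6, 14, false), (7, 18, false), (3, 11, false), (4, 11, false), (5, 14, false), (6, 18, false), (2, 10, false), (3, 10, false), (4, 13, false), (2, 2, false), (4, 11, false), (0, 6, false), (1, 7, false), (2, 7, false), (3, 12, false), (4, 5, false), (3, 20, false), (4, 20, false), (3, 4, false), (5, 20, false), (6, 20, false), (3, 3, false), (5, 15, false), (6, 15, false), (7, 19, false), (4, 15, false), (5, 15, false), (3, 15, false), (4, 15, false), (2, 14, false), (3, 14, false), (1, 14, false), (2, 14, false), (3, 5, false), (2, 20, false), (0, 13, false), (1, 13,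 false), (2, 17, false), (0, 0, false), (2, 6, false), (3, 7, false), (4, 9, false), (5, 9, false), (6, 12, false), (7, 12, false), (8, 16, false), (5, 15, false), (3, 11, false), (4, 14, false), (3, 2, false), (5, 11, false), (6, 14, false), (7, 5, false), (6, 20, false), (6, 4, false), (5, 15, false), (6, 15, false), (4, 14, false), (2, 8, false), (3, 8, false), (4, 10, false), (5, 13, false), (6, 13, false), (7, 17, false), (7, 5, false), (6, 20, false), (7, 20, false), (3, 11, false), (4, 14, false), (5, 18, false), (6, 18, false), (4, 20, false), (5, 20, false), (2, 11, false), (3, 18, false), (4, 18, false), (2, 1, false), (4, 8, false), (5, 8, false), (6, 17, false), (7, 17, false), (6, 4, false), (5, 14, false), (3, 8, false), (1, 6, false), (2, 6, false), (3, 12, false), (4, 12, false), (5, 16, false), (6, 16, false), (4, 20, false), (5, 20, false), (3, 3, false), (5, 15, false), (6, 19, false), (4, 15, false), (3, 15, false), (3, 2, false), (5, 14, false), (4, 14, false), (2, 8, false), (0, 6, false), (1, 6, false), (2, 7, false), (3, 9, false), (4, 9, false), (5, 12, false), (6,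 5, false), (5, 20, false), (6, 20, false), (4, 19, false), (5, 19, false), (2, 11, false), (3, 18, false), (4, 18, false), (2, 2, false), (4, 11, false), (5, 18, false), (6, 18, false), (5, 4, false), (4, 15, false), (5, 15, false), (3, 14, false), (1, 8, false), (2, 8, false), (3, 10, false), (4, 13, false), (5, 17, false), (5, 5, false), (4, 20, false), (4, 4, false), (3, 15, false), (4, 15, false), (2, 14, false), (0, 8, false), (1, 8, false), (2, 10, false), (3, 13, false), (4, 13, false), (5, 17, false), (6, 17, false), (5, 5, false), (2, 15, false), (3, 15, false), (4, 19, false), (5, 19, false), (2, 3, false), (4, 15, false), (5, 15, false), (6, 19, false), (3, 15, false), (4, 15, false), (5, 19, false), (1, 11, false), (2, 14, false), (3, 14, false), (4, 18, false), (1, 15, false), (2, 15, false), (3, 19, false), (0, 14, false), (1, 14, false), (2, 18, false), (0, 0, false), (2, 7, false), (3, 7, false), (4, 9, false), (5, 9, false), (6, 16, false), (7, 16, false), (3, 11, false), (1, 7, false), (2, 7, false), (3, 16, false), (4, 16, false), (3, 4, false), (5, 20, false), (6, 20,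 false), (3, 3, false), (5, 15, false), (6, 15, false), (7, 19, false), (8, 19, false), (2, 11, false), (3, 11, false), (4, 14, false), (5, 14, false), (6, 18, false), (7, 18, false), (1, 11, false), (2, 11, false), (3, 14, false), (4, 14, false), (5, 18, false), (6, 18, false), (4, 5, false), (3, 20, false), (4, 20, false), (2, 19, false), (3, 19, false), (1, 1, false), (3, 10, false), (4, 13, false), (5, 13, false), (6, 17, false), (3, 15, false), (3, 2, false), (5, 14, false), (4, 14, false), (2, 8, false), (0, 6, false), (1, 6, false), (2, 7, false), (3, 12, false), (4, 16, false), (3, 5, false), (3, 3, false), (5, 19, false), (6, 19, false), (4, 19, false), (5, 19, false), (2, 11, false), (3, 18, false), (4, 18, false), (2, 19, false), (3, 19, false), (2, 2, false), (4, 18, false), (5, 18, false), (3, 18, false), (4, 18, false), (3, 4, false), (5, 20, false), (1, 8, false), (2, 13, false), (3, 13, false), (1, 14, false), (2, 14, false), (3, 5, false), (2, 20, false), (0, 13, false), (1, 13, false), (2, 17, false), (0, 0, false), (2, 6, false), (3, 6, false), (4, 7, false), (5, 7, false),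 (6, 9, false), (7, 12, false), (8, 16, false), (48, 21, false), (41, 21, false), (34, 21, false), (25, 22, false), (16, 22, false), (9, 21, false), (0, 22, false)])]
  combos := [
    [(0, 1), (1, 1), (2, 2), (3, 2), (5, 2), (8, 1), (11, 1), (13, 2), (14, 1), (16, 1)],
    [(1, 2), (4, 1), (7, 1), (8, 1), (13, 1), (14, 2), (15, 2), (16, 2)],
    [(1, 2), (2, 1), (6, 1), (8, 1), (9, 2), (11, 1), (12, 2)],
    [(10, 2)],
    [(12, 2)],
    [(2, 1), (4, 2), (5, 1), (6, 1), (10, 1), (11, 1)],
    [(0, 2), (2, 1), (3, 2), (5, 2), (7, 1), (8, 2), (9, 1), (14, 1)],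
    [(2, 2), (4, 1), (6, 2), (7, 1), (8, 1), (9, 2), (14, 2)],
    [(1, 2), (2, 2), (3, 1), (4, 2), (8, 1), (9, 2), (10, 2), (11, 1), (14, 2), (16, 2)],
    [(1, 1), (2, 2), (4, 2), (5, 2), (6, 1), (8, 1), (9, 1), (11, 2), (12, 2)],
    [(1, 2), (2, 2), (3, 1), (4, 1), (5, 1), (6, 1), (7, 1), (8, 1), (9, 2), (10, 2), (11, 1), (14, 2), (16, 2)],
    [(3, 1)],
    [(1, 2), (2, 2), (3, 1), (4, 2), (7, 1), (8, 1), (9, 2), (10, 2), (11, 1), (14, 2), (16, 2)],
    [(1, 2), (2, 1), (4, 2), (5, 1), (6, 2), (7, 2), (8, 2), (9, 1), (14, 1)],
    [(5, 2), (6, 2)],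
    [(2, 2), (5, 1), (6, 1)],
    [(6, 1)]]
  sorted := [
    0, 1, 3, 537, 416, 161, 304, 23, 535, 109, 217, 219, 111, 53, 188, 617, 482, 88, 682, 594,
    459, 159, 429, 146, 524, 427, 157, 166, 391, 40, 625, 274, 661, 303, 15, 717, 195, 366, 573, 569,
    20, 371, 722, 191, 299, 629, 395, 287, 521, 422, 656, 145, 208, 100, 37, 172, 73, 156, 201, 66,
    48, 183, 93, 603, 477, 9, 18, 468, 612, 95, 167, 689, 518, 383, 311, 286, 268, 133, 151, 727,
    664, 29, 641, 290, 380, 650, 182, 65, 452, 461, 605, 227, 110, 686, 560, 488, 101, 335, 254, 13,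
    301, 571, 364, 193, 715, 481, 598, 688, 103, 454, 67, 247, 562, 508, 220, 130, 337, 204, 357, 312,
    6, 708, 582, 150, 726, 591, 411, 321, 24, 528, 519, 141, 213, 420, 375, 264, 498, 714, 372, 480,
    606, 624, 390, 435, 696, 300, 588, 417, 516, 561, 282, 651, 327, 17, 197, 62, 125, 89, 233, 512,
    251, 692, 458, 557, 323, 350, 467, 728, 359, 584, 620, 154, 199, 181, 91, 64, 46, 19, 190, 10,
    136, 28, 55, 235, 118, 226, 163, 82, 127, 97, 700, 106, 322, 691, 313, 160, 115, 655, 718, 124,
    142, 250, 673, 709, 277, 295, 259, 171, 99, 387, 693, 522, 315, 378, 675, 531, 306, 180, 90, 513,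
    297, 162, 81, 396, 684, 59, 41, 419, 437, 572, 635, 230, 158, 212, 113, 347, 248, 671, 365, 707,
    563, 500, 293, 663, 627, 168, 393, 276, 42, 132, 222, 339, 456, 105, 690, 600, 483, 249, 69, 564,
    510, 87, 474, 267, 78, 699, 618, 123, 240, 438, 501, 348, 546, 681, 186, 402, 609, 285, 33, 492,
    555, 96, 177, 465, 384, 114, 294, 258, 654, 672, 51, 60, 231, 330, 636, 645, 447, 587, 2, 209,
    704, 353, 317, 578, 11, 425, 407, 155, 362, 308, 515, 137, 200, 713, 533, 56, 614, 443, 470, 497,
    92, 236, 119, 677, 263, 326, 551, 434, 632, 38, 479, 74, 47, 596, 623, 668, 164, 245, 344, 506,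
    659, 218, 272, 281, 542, 398, 173, 128, 83, 695, 389, 4, 310, 580, 706, 355, 202, 616, 472, 85,
    697, 436, 76, 346, 499, 121, 265, 238, 544, 22, 517, 319, 526, 418, 589, 409, 211, 724, 373, 148,
    139, 463, 607, 94, 382, 184, 175, 679, 400, 58, 634, 49, 31, 643, 445, 229, 112, 292, 670, 652,
    283, 553, 328, 490, 256, 370, 712, 496, 262, 604, 478, 568, 307, 532, 406, 379, 640, 676, 442, 334,
    667, 541, 271, 415, 586, 298, 514, 649, 325, 559, 433, 694, 388, 622, 280, 523, 703, 316, 352, 721,
    361, 577, 424, 289, 613, 469, 550, 685, 460, 451, 487, 253, 631, 343, 244, 595, 397, 658, 505, 39,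
    75, 147, 210, 102, 174, 165, 84, 237, 120, 12, 192, 21, 138, 129, 30, 57, 228, 534, 309, 273,
    543, 570, 408, 336, 642, 444, 678, 381, 669, 426, 579, 354, 705, 660, 471, 615, 345, 363, 723, 318,
    525, 453, 597, 687, 507, 246, 462, 633, 399, 489, 552, 255, 291, 224, 71, 98, 116, 206, 8, 485,
    719, 566, 305, 332, 593, 701, 503, 269, 611, 377, 440, 134, 170, 44, 107, 179, 215, 143, 80, 35,
    152, 242, 26, 602, 368, 341, 278, 431, 665, 539, 575, 638, 683, 413, 674, 404, 449, 647, 296, 494,
    476, 710, 260, 548, 314, 386, 530, 14, 5, 464, 599, 473, 608, 86, 185, 176, 104, 320, 392, 536,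
    401, 302, 698, 527, 680, 50, 32, 68, 77, 455, 581, 626, 644, 410, 446, 428, 590, 194, 122, 239,
    131, 149, 221, 203, 140, 554, 653, 509, 356, 284, 725, 257, 275, 491, 662, 545, 266, 716, 338, 374,
    329, 187, 610, 16, 403, 538, 475, 223, 205, 628, 592, 79, 34, 556, 358, 457, 412, 340, 493, 7,
    520, 394, 484, 178, 25, 169, 619, 466, 601, 529, 385, 52, 70, 421, 331, 376, 565, 439, 502, 61,
    196, 232, 214, 43, 241, 511, 583, 349, 367, 637, 448, 574, 430, 646, 547, 441, 639, 63, 45, 576,
    423, 72, 36, 567, 405, 585, 414, 432, 621, 54, 27, 450, 630, 369, 711, 270, 540, 648, 324, 234,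
    117, 135, 189, 504, 252, 216, 108, 495, 261, 144, 207, 666, 333, 153, 198, 279, 558, 225, 126, 351,
    702, 288, 549, 657, 342, 360, 720, 486, 243]

end H97.J3Schur
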