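import Cfsg.Agent.H97.M24Loc

/-!
The centraliser of the central involution `z` of the Sylow subgroup, and self-normalisation.
-/

set_option autoImplicit false
set_option maxRecDepth 100000

namespace H97.M24Loc

open Cfsg H90 MOut
open scoped Pointwise

/-- Table entry for `rep r * gen t`. -/
def rt (r t : ℕ) : ℕ := at' 24 repTab (12 * r + t)

def repOK (r : ℕ) : Bool :=
  (List.range 12).all fun t => decide (rt r t / 21 < 1024) &&
    compN (rv r) (gv t) == compN (pe (rt r t / 21)) (rv (rt r t % 21))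

def genPosOK (t : ℕ) : Bool :=
  decide (genPos.getD t 0 / 21 < 1024) &&
    gv t == compN (pe (genPos.getD t 0 / 21)) (rv (genPos.getD t 0 % 21))

/-- Search for the elements commuting with `zc`, level by level. -/
def zsearch (zc : ℕ) : List (ℕ × List ℕ) → List ℕ → ℕ → List ℕ
  | [], _, p => [p]
  | (x, T) :: L, prev, p => T.flatMap fun u =>
      if ((img zc x == x) == (img zc (img p (img u x)) == img p (img u x))) &&
          prev.all (fun c => !(img zc c == x) || img zc (img p c) == img p (img u x)) then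
        zsearch zc L (prev ++ [x]) (compN p u)
      else []

theorem reps_all : (List.range 21).all repOK = true ∧ (List.range 12).all genPosOK = true := by
  decide +kernel

theorem zlev_all : chainOK [] zLevels = true ∧ chainSize zLevels = 244823040 ∧
    (zLevels.all fun l => l.2.all canonMem) = true := by
  decide +kernel

theorem zsearch_count : (zsearch (pe 512) zLevels [] idN).length ≤ 21504 := by decide +kernel

/-- A representative moves some generator out of the Sylow subgroup. -/
theorem rep_moves : ((List.range 21).all fun r => r == 0 ||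
    (List.range 10).any fun t => !(rt r t % 21 == r)) = true := by
  decide +kernel

theorem rep_spec (r : Fin 21) (t : Fin 12) : rt r t / 21 < 1024 ∧
    rep r * gen t = elP (rt r t / 21) * rep ⟨rt r t % 21, Nat.mod_lt _ (by norm_num)⟩ := by
  have h := List.all_eq_true.1 reps_all.1 _ (List.mem_range.2 r.isLt)
  simp only [repOK, List.all_eq_true, Bool.and_eq_true, decide_eq_true_eq, beq_iff_eq] at h
  obtain ⟨h1, h2⟩ := h _ (List.mem_range.2 t.isLt)
  refine ⟨h1, ext_code ?_⟩
  rw [Subgroup.coe_mul, Subgroup.coe_mul, code_mul, code_mul, code_rep, code_gen, code_elP h1,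
    code_rep]
  exact h2

theorem gen_pos (t : Fin 12) : ∃ e < 1024, ∃ r : Fin 21, gen t = elP e * rep r := by
  have h := List.all_eq_true.1 reps_all.2 _ (List.mem_range.2 t.isLt)
  simp only [genPosOK, Bool.and_eq_true, decide_eq_true_eq, beq_iff_eq] at h
  refine ⟨_, h.1, ⟨genPos.getD t.val 0 % 21, Nat.mod_lt _ (by norm_num)⟩, ext_code ?_⟩
  rw [code_gen, Subgroup.coe_mul, code_mul, code_elP h.1, code_rep]
  exact h.2

theorem rep_zero : rep 0 = 1 :=
  ext_code (by rw [code_rep, OneMemClass.coe_one, code_one]; exact gens_all.2.2.2.2.2)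

theorem elP_mem_closure (e : ℕ) : elP e ∈ Subgroup.closure (Set.range gen) := by
  refine list_prod_mem fun x hx => ?_
  obtain ⟨i, hi, rfl⟩ := List.mem_map.1 hx
  have hi' := List.mem_range.1 hi
  rw [dif_pos hi']
  split
  · exact Subgroup.subset_closure ⟨_, rfl⟩
  · exact one_mem _

/-- The subgroup generated by the twelve generators. -/
noncomputable def C0 : Subgroup M24 := Subgroup.closure (Set.range gen)

theorem mem_C0_exists {x : M24} (hx : x ∈ C0) : ∃ e < 1024, ∃ r : Fin 21, x = elP e * rep r := by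
  let S : Submonoid M24 :=
    { carrier := {g | ∀ e < 1024, ∀ r : Fin 21,
        ∃ e' < 1024, ∃ r' : Fin 21, elP e * rep r * g = elP e' * rep r'}
      one_mem' := fun e he r => ⟨e, he, r, mul_one _⟩
      mul_mem' := fun {a b} ha hb e he r => by
        obtain ⟨e', he', r', h⟩ := ha e he r
        obtain ⟨e'', he'', r'', h'⟩ := hb e' he' r'
        exact ⟨e'', he'', r'', by rw [← mul_assoc, h, h']⟩ }
  have hS : ∀ x ∈ C0, x ∈ S := by
    intro x hx
    rw [C0, ← Subgroup.mem_toSubmonoid, Subgroup.closure_toSubmonoid_of_finite] at hx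
    refine Submonoid.closure_le.2 ?_ hx
    rintro _ ⟨t, rfl⟩ e he r
    obtain ⟨h1, h2⟩ := rep_spec r t
    obtain ⟨h3, h4⟩ := elP_mul he (rt r t / 21)
    exact ⟨_, h4, _, by rw [mul_assoc, h2, ← mul_assoc, h3]⟩
  obtain ⟨e', he', r', h⟩ := hS x hx 0 (by norm_num) 0
  exact ⟨e', he', r', by rw [← h, elP_zero, rep_zero, one_mul, one_mul]⟩

theorem rep_mem (r : Fin 21) : rep r ∈ C0 := by
  have hw : ((List.range 21).all fun r => rv r == compN (powN (gv 10) (r / 3)) (powN (gv 11) (r % 3)))
      = true := by decide +kernel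
  have : rep r = gen 10 ^ (r.val / 3) * gen 11 ^ (r.val % 3) := ext_code (by
    rw [Subgroup.coe_mul, code_mul, SubmonoidClass.coe_pow, SubmonoidClass.coe_pow, code_pow,
      code_pow, code_gen, code_gen, code_rep]
    exact beq_iff_eq.1 (List.all_eq_true.1 hw _ (List.mem_range.2 r.isLt)))
  rw [this]
  exact mul_mem (pow_mem (Subgroup.subset_closure (Set.mem_range_self 10)) _)
    (pow_mem (Subgroup.subset_closure (Set.mem_range_self 11)) _)

theorem elP_rep_mem (e : ℕ) (r : Fin 21) : elP e * rep r ∈ C0 :=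
  mul_mem (elP_mem_closure e) (rep_mem r)

theorem card_C0_le : Nat.card C0 ≤ 21504 := by
  let f : Fin 1024 × Fin 21 → C0 := fun q => ⟨elP q.1 * rep q.2, elP_rep_mem _ _⟩
  have hf : Function.Surjective f := fun x => by
    obtain ⟨e, he, r, h⟩ := mem_C0_exists x.2
    exact ⟨(⟨e, he⟩, r), Subtype.ext h.symm⟩
  simpa using Nat.card_le_card_of_surjective f hf

theorem card_C0 : Nat.card C0 = 21504 := by
  refine le_antisymm card_C0_le (Nat.le_of_dvd Nat.card_pos ?_)
  have h1 : 1024 ∣ Nat.card C0 := by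
    rw [← card_P0]
    refine Subgroup.card_dvd_of_le fun x hx => ?_
    obtain ⟨e, -, rfl⟩ := mem_P0.1 hx
    exact elP_mem_closure e
  have hord : ∀ (t : Fin 12) (n : ℕ), n.Prime → powN (gv t) n = idN → gv t ≠ idN →
      n ∣ Nat.card C0 := by
    intro t n hn h1 h2
    haveI := Fact.mk hn
    have : orderOf (gen t) = n := orderOf_eq_prime
      (ext_code (by rw [SubmonoidClass.coe_pow, code_pow, code_gen, h1, OneMemClass.coe_one, code_one]))
      (fun h => h2 (by rw [← code_gen, h, OneMemClass.coe_one, code_one]))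
    rw [← this, ← Nat.card_zpowers]
    exact Subgroup.card_dvd_of_le (Subgroup.zpowers_le.2 (Subgroup.subset_closure ⟨t, rfl⟩))
  have h7 := hord 10 7 (by norm_num) (by decide +kernel) (by decide +kernel)
  have h3 := hord 11 3 (by norm_num) (by decide +kernel) (by decide +kernel)
  exact (Nat.Coprime.mul_dvd_of_dvd_of_dvd (by norm_num)
    (Nat.Coprime.mul_dvd_of_dvd_of_dvd (by norm_num) h1 h7) h3 : 1024 * 7 * 3 ∣ Nat.card C0)

/-- Normal forms in `C0` are unique. -/
theorem normalForm_inj {e e' : ℕ} (he : e < 1024) (he' : e' < 1024) {r r' : Fin 21}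
    (h : elP e * rep r = elP e' * rep r') : e = e' ∧ r = r' := by
  let f : Fin 1024 × Fin 21 → C0 := fun q => ⟨elP q.1 * rep q.2, elP_rep_mem _ _⟩
  have hf : Function.Bijective f := (Nat.bijective_iff_surjective_and_card _).2
    ⟨fun x => by
      obtain ⟨e, he, r, h⟩ := mem_C0_exists x.2
      exact ⟨(⟨e, he⟩, r), Subtype.ext h.symm⟩, by simp [card_C0]⟩
  have := @hf.1 (⟨e, he⟩, r) (⟨e', he'⟩, r') (Subtype.ext h)
  simp only [Prod.mk.injEq, Fin.mk.injEq] at this
  exact this

theorem zsearch_complete (Z : M24) : ∀ (L : List (ℕ × List ℕ)) (prev : List ℕ),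
    (∀ y ∈ prev, y < 24) → chainOK prev L = true → ∀ (p g : Equiv.Perm GolayPt), InChain L g →
    (p * g) * Z.1 = Z.1 * (p * g) →
    code (p * g) ∈ zsearch (code Z.1) L prev (code p)
  | [], _, _, _, p, g, hg, _ => by
    rw [show g = 1 from hg, mul_one, zsearch]; exact List.mem_singleton_self _
  | (x, T) :: L, prev, hlt, hok, p, g, ⟨u, hu, v, hv, e⟩, hcomm => by
    have hok' := hok
    simp only [chainOK, Bool.and_eq_true, decide_eq_true_eq, List.all_eq_true, beq_iff_eq] at hok'
    obtain ⟨⟨⟨hx, -⟩, hT⟩, hL⟩ := hok'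
    have hlt' : ∀ y ∈ prev ++ [x], y < 24 := by
      intro y hy
      rcases List.mem_append.1 hy with hy | hy
      · exact hlt y hy
      · rw [List.mem_singleton.1 hy]; exact hx
    rw [zsearch, List.mem_flatMap]
    refine ⟨code u, hu, ?_⟩
    have hrec := zsearch_complete Z L (prev ++ [x]) hlt' hL (p * u) v hv
      (by rw [mul_assoc p, ← e]; exact hcomm)
    rw [e, ← mul_assoc, ← code_mul]
    rw [if_pos]
    · exact hrec
    have himg : ∀ (σ : Equiv.Perm GolayPt) (i : Fin 24), img (code σ) i.val = (idx (σ (pt i))).val :=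
      img_code
    have hgx : (p * g) (pt ⟨x, hx⟩) = p (u (pt ⟨x, hx⟩)) := by
      rw [e, Equiv.Perm.mul_apply, Equiv.Perm.mul_apply,
        inChain_fix L (prev ++ [x]) hlt' hL v hv x (by simp) hx]
    have hy : img (code p) (img (code u) x) = (idx ((p * g) (pt ⟨x, hx⟩))).val := by
      rw [hgx, himg u ⟨x, hx⟩, himg p, pt_idx]
    have hc : ∀ i : GolayPt, (p * g) (Z.1 i) = Z.1 ((p * g) i) := fun i => by
      rw [← Equiv.Perm.mul_apply, hcomm, Equiv.Perm.mul_apply]
    simp only [Bool.and_eq_true, beq_iff_eq, List.all_eq_true, Bool.or_eq_true, Bool.not_eq_true',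
      beq_eq_false_iff_ne, hy]
    refine ⟨?_, fun c hc' => ?_⟩
    · rw [himg Z.1 ⟨x, hx⟩, himg Z.1 (idx _), pt_idx]
      rw [Bool.eq_iff_iff]
      simp only [beq_iff_eq]
      constructor
      · intro h
        have : Z.1 (pt ⟨x, hx⟩) = pt ⟨x, hx⟩ := idx_injective (by rw [idx_pt]; exact Fin.ext h)
        rw [← hc, this]
      · intro h
        have h' : Z.1 ((p * g) (pt ⟨x, hx⟩)) = (p * g) (pt ⟨x, hx⟩) := idx_injective (Fin.ext h)
        rw [← hc] at h'
        rw [(p * g).injective h', idx_pt]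
    · by_cases hcx : img (code Z.1) c = x
      · right
        have hc24 := hlt c hc'
        have hfix : g (pt ⟨c, hc24⟩) = pt ⟨c, hc24⟩ := by
          rw [e, Equiv.Perm.mul_apply,
            inChain_fix L (prev ++ [x]) hlt' hL v hv c (List.mem_append_left _ hc') hc24,
            fix_of_img_eq hc24 (hT _ hu c hc')]
        have hZ : Z.1 (pt ⟨c, hc24⟩) = pt ⟨x, hx⟩ := idx_injective (by
          rw [idx_pt]
          exact Fin.ext ((himg Z.1 ⟨c, hc24⟩).symm.trans hcx))
        have hpc : img (code p) c = (idx ((p * g) (pt ⟨c, hc24⟩))).val := by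
          rw [Equiv.Perm.mul_apply, hfix]; exact himg p ⟨c, hc24⟩
        rw [hpc, himg Z.1 (idx _), pt_idx, ← hc, hZ]
      · exact Or.inl hcx

/-- The centraliser of `z` is `C0`. -/
theorem centralizer_z : Subgroup.centralizer ({z} : Set M24) = C0 := by
  classical
  have hle : C0 ≤ Subgroup.centralizer ({z} : Set M24) := by
    rw [C0, Subgroup.closure_le]
    rintro _ ⟨t, rfl⟩
    exact Subgroup.mem_centralizer_singleton_iff.2 (z_comm_gen t).symm
  refine (Subgroup.eq_of_le_of_card_ge hle ?_).symm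
  rw [card_C0]
  obtain ⟨hok, hsize, hmem⟩ := zlev_all
  have hL : ∀ l ∈ zLevels, ∀ u ∈ l.2, ∃ σ ∈ M24, code σ = u := fun l hl u hu => by
    obtain ⟨g, hg⟩ := exists_canon (List.all_eq_true.1 (List.all_eq_true.1 hmem l hl) u hu)
    exact ⟨g.1, g.2, hg⟩
  obtain ⟨-, hch⟩ := chain_exhausts le_rfl H90.natCard_M24 hok hsize hL
  let F : Finset ℕ := (zsearch (pe 512) zLevels [] idN).toFinset
  have hmemF : ∀ x : Subgroup.centralizer ({z} : Set M24), code x.1.1 ∈ F := fun x => by
    have h := congrArg Subtype.val (Subgroup.mem_centralizer_singleton_iff.1 x.2)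
    have := zsearch_complete z zLevels [] (by simp) hok 1 x.1.1 (hch _ x.1.2)
      (by rw [one_mul]; simpa using h)
    rw [one_mul, code_one] at this
    refine List.mem_toFinset.2 ?_
    have hz : code z.1 = pe 512 := code_elP (by norm_num)
    rwa [hz] at this
  have := Nat.card_le_card_of_injective (fun x : Subgroup.centralizer ({z} : Set M24) =>
    (⟨code x.1.1, hmemF x⟩ : F)) (fun a b h => Subtype.ext (ext_code (congrArg Subtype.val h)))
  refine this.trans ?_
  rw [Nat.card_eq_fintype_card, Fintype.card_coe]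
  exact (List.toFinset_card_le _).trans zsearch_count

/-- The Sylow subgroup is its own normaliser. -/
theorem normalizer_P0 : Subgroup.normalizer (P0 : Set M24) = P0 := by
  refine le_antisymm (fun n hn => ?_) Subgroup.le_normalizer
  have hn' := Subgroup.mem_normalizer_iff.1 hn
  have hz : n * z * n⁻¹ = z := by
    refine eq_z_of_central ((hn' z).1 z_mem) ?_ fun y hy => ?_
    · rw [Ne, conj_eq_one_iff]
      intro h
      have := orderOf_z
      rw [h, orderOf_one] at this
      omega
    · obtain ⟨y', hy', rfl⟩ : ∃ y' ∈ P0, y = n * y' * n⁻¹ :=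
        ⟨n⁻¹ * y * n, (hn' _).2 (by simpa [mul_assoc] using hy), by group⟩
      have hcy : z * y' = y' * z := by
        obtain ⟨e, he, rfl⟩ := mem_P0.1 hy'
        have := elP_mem_closure e
        exact (Subgroup.mem_centralizer_singleton_iff.1 ((centralizer_z ▸ this :
          elP e ∈ Subgroup.centralizer ({z} : Set M24)))).symm
      calc n * z * n⁻¹ * (n * y' * n⁻¹) = n * (z * y') * n⁻¹ := by group
        _ = n * y' * n⁻¹ * (n * z * n⁻¹) := by rw [hcy]; group
  have hnC : n ∈ C0 := by
    rw [← centralizer_z, Subgroup.mem_centralizer_singleton_iff]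
    exact (mul_inv_eq_iff_eq_mul.1 hz)
  obtain ⟨e, he, r, rfl⟩ := mem_C0_exists hnC
  by_cases hr : r = 0
  · rw [hr, rep_zero, mul_one]; exact mem_P0.2 ⟨e, he, rfl⟩
  exfalso
  have h := List.all_eq_true.1 rep_moves r.val (List.mem_range.2 r.isLt)
  simp only [Bool.or_eq_true, beq_iff_eq, List.any_eq_true, List.mem_range, Bool.not_eq_true',
    beq_eq_false_iff_ne] at h
  obtain ⟨t, ht, hne⟩ := h.resolve_left fun h0 => hr (Fin.ext h0)
  have hrep : rep r ∈ Subgroup.normalizer (P0 : Set M24) := by
    have : rep r = (elP e)⁻¹ * (elP e * rep r) := by group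
    rw [this]
    exact mul_mem (inv_mem (Subgroup.le_normalizer (mem_P0.2 ⟨e, he, rfl⟩))) hn
  have hg : gen ⟨t, by omega⟩ ∈ P0 := by
    rw [← elP_gen ⟨t, ht⟩]
    exact mem_P0.2 ⟨_, lt_of_le_of_lt (Nat.pow_le_pow_right (by norm_num) (show t ≤ 9 by omega))
      (by norm_num), rfl⟩
  obtain ⟨q, hq, hq'⟩ := mem_P0.1 ((Subgroup.mem_normalizer_iff.1 hrep _).1 hg)
  obtain ⟨h1, h2⟩ := rep_spec r ⟨t, by omega⟩
  rw [mul_inv_eq_iff_eq_mul, h2] at hq'
  exact hne (by
    have := (normalForm_inj h1 hq hq').2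
    exact congrArg Fin.val this)

theorem normalizer_sylow (S : Sylow 2 M24) :
    Subgroup.normalizer ((S : Subgroup M24) : Set M24) = (S : Subgroup M24) := by
  obtain ⟨g, rfl⟩ := MulAction.exists_smul_eq M24 sylow0 S
  rw [Sylow.coe_subgroup_smul]
  show Subgroup.normalizer ((MulAut.conj g • P0 : Subgroup M24) : Set M24) = MulAut.conj g • P0
  ext x
  rw [Subgroup.mem_pointwise_smul_iff_inv_smul_mem, Subgroup.mem_normalizer_iff]
  conv_rhs => rw [← normalizer_P0, Subgroup.mem_normalizer_iff]
  constructor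
  · intro h y
    have := h (g * y * g⁻¹)
    simp only [SetLike.mem_coe, Subgroup.mem_pointwise_smul_iff_inv_smul_mem, MulAut.smul_def,
      MulAut.conj_inv_apply] at this
    simpa [MulAut.conj_inv_apply, MulAut.smul_def, mul_assoc] using this
  · intro h y
    have := h (g⁻¹ * y * g)
    simp only [SetLike.mem_coe, Subgroup.mem_pointwise_smul_iff_inv_smul_mem, MulAut.smul_def,
      MulAut.conj_inv_apply] at this ⊢
    simpa [MulAut.conj_inv_apply, MulAut.smul_def, mul_assoc] using this

end H97.M24Loc
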