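import Cfsg.Agent.H97.M24Cent
import Cfsg.Agent.H97.M24CentMatData

/-!
The centraliser of the central involution of M24 is a transvection centraliser in `SL(5, 2)`.
-/

set_option autoImplicit false
set_option maxRecDepth 100000

namespace H97.M24Loc

open Cfsg Matrix

abbrev Mat5 : Type := Matrix (Fin 5) (Fin 5) (ZMod 2)

/-- Decode a bit string of length 25. -/
def toMat (m : ℕ) : Mat5 :=
  Matrix.of fun i j => if m.testBit (5 * i.val + j.val) then 1 else 0

/-- Bits at the starts of the five rows. -/
def rowMask : ℕ := 1082401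

/-- Product of encoded matrices: column `k` of `a` spread over the rows, times row `k` of `b`. -/
def mmN (a b : ℕ) : ℕ :=
  ((((a &&& rowMask) * (b &&& 31)) ^^^ (((a >>> 1) &&& rowMask) * ((b >>> 5) &&& 31))) ^^^
    (((a >>> 2) &&& rowMask) * ((b >>> 10) &&& 31)) ^^^
    (((a >>> 3) &&& rowMask) * ((b >>> 15) &&& 31))) ^^^
    (((a >>> 4) &&& rowMask) * ((b >>> 20) &&& 31))

/-- Five bits spread over the rows. -/
def spread (c : Fin 5 → Bool) : ℕ :=
  (c 0).toNat + 32 * (c 1).toNat + 1024 * (c 2).toNat + 32768 * (c 3).toNat + 1048576 * (c 4).toNat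

theorem spread_mul : ∀ c : Fin 5 → Bool, ∀ r : Fin 32, ∀ t : Fin 25,
    (spread c * r.val).testBit t.val =
      (c ⟨t.val / 5, by omega⟩ && r.val.testBit (t.val % 5)) := by
  decide +kernel

theorem spread_lt : ∀ c : Fin 5 → Bool, spread c < 2 ^ 25 := by decide +kernel

theorem rowMask_bits : ∀ t : Fin 25, rowMask.testBit t.val = decide (t.val % 5 = 0) := by
  decide +kernel

theorem one_bits : ∀ t : Fin 5, (1 : ℕ).testBit t.val = decide (t.val = 0) := by decide +kernel

theorem and_rowMask (x : ℕ) : x &&& rowMask = spread fun i => x.testBit (5 * i.val) := by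
  apply Nat.eq_of_testBit_eq
  intro t
  by_cases ht : t < 25
  · have h := spread_mul (fun i => x.testBit (5 * i.val)) 1 ⟨t, ht⟩
    simp only [Fin.val_one, mul_one] at h
    have h1 : (1 : ℕ).testBit (t % 5) = decide (t % 5 = 0) :=
      one_bits ⟨t % 5, Nat.mod_lt _ (by norm_num)⟩
    rw [Nat.testBit_and, h, rowMask_bits ⟨t, ht⟩, h1]
    by_cases h0 : t % 5 = 0
    · rw [show 5 * (t / 5) = t by omega]
    · simp [h0]
  · have hle : 2 ^ 25 ≤ 2 ^ t := Nat.pow_le_pow_right (by norm_num) (by omega)
    rw [Nat.testBit_lt_two_pow ((spread_lt _).trans_le hle), Nat.testBit_lt_two_pow]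
    exact lt_of_le_of_lt Nat.and_le_right (lt_of_lt_of_le (by norm_num [rowMask]) hle)

theorem testBit_term (a b k i j : ℕ) (hi : i < 5) (hj : j < 5) :
    (((a >>> k) &&& rowMask) * ((b >>> (5 * k)) &&& 31)).testBit (5 * i + j) =
      (a.testBit (5 * i + k) && b.testBit (5 * k + j)) := by
  have hr : (b >>> (5 * k)) &&& 31 < 32 := lt_of_le_of_lt Nat.and_le_right (by norm_num)
  rw [and_rowMask]
  have h := spread_mul (fun i => (a >>> k).testBit (5 * i.val)) ⟨_, hr⟩ ⟨5 * i + j, by omega⟩
  simp only at h
  rw [h, show (5 * i + j) / 5 = i by omega, show (5 * i + j) % 5 = j by omega, Nat.testBit_and,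
    Nat.testBit_shiftRight, Nat.testBit_shiftRight, show (31 : ℕ) = 2 ^ 5 - 1 from rfl,
    Nat.testBit_two_pow_sub_one, decide_eq_true hj, Bool.and_true, Nat.add_comm k (5 * i)]

theorem toMat_mmN (a b : ℕ) : toMat (mmN a b) = toMat a * toMat b := by
  have hx : ∀ p q : Bool, (if p then (1 : ZMod 2) else 0) + (if q then 1 else 0) =
      if (p ^^ q) then 1 else 0 := by intro p q; cases p <;> cases q <;> rfl
  have hm : ∀ p q : Bool, (if p then (1 : ZMod 2) else 0) * (if q then 1 else 0) =
      if (p && q) then 1 else 0 := by intro p q; cases p <;> cases q <;> rfl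
  ext i j
  have t0 := testBit_term a b 0 i.val j.val i.isLt j.isLt
  have t1 := testBit_term a b 1 i.val j.val i.isLt j.isLt
  have t2 := testBit_term a b 2 i.val j.val i.isLt j.isLt
  have t3 := testBit_term a b 3 i.val j.val i.isLt j.isLt
  have t4 := testBit_term a b 4 i.val j.val i.isLt j.isLt
  simp only [Nat.shiftRight_zero, Nat.mul_zero, Nat.zero_add, Nat.add_zero, Nat.mul_one,
    show 5 * 2 = 10 from rfl, show 5 * 3 = 15 from rfl, show 5 * 4 = 20 from rfl] at t0 t1 t2 t3 t4
  rw [Matrix.mul_apply, Fin.sum_univ_five]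
  simp only [toMat, Matrix.of_apply, hm, hx, mmN, Nat.testBit_xor, t0, t1, t2, t3, t4]
  simp

def mP (e : ℕ) : ℕ := at' 32 mPTab e
def mR (r : ℕ) : ℕ := mRList.getD r 0
def mRi (r : ℕ) : ℕ := mRInvList.getD r 0
def mG (t : ℕ) : ℕ := mGList.getD t 0

/-- The encoded identity. -/
def oneN : ℕ := 17043521

/-- The encoded transvection. -/
def transN : ℕ := 17043523

theorem toMat_oneN : toMat oneN = 1 := by decide +kernel

theorem toMat_transN : toMat transN = Matrix.transvection 0 1 1 := by decide +kernel

def mPOK (e : ℕ) : Bool :=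
  (List.range 10).all fun i => mmN (mP e) (mG i) == mP (step e i)

def mROK (r : ℕ) : Bool :=
  mmN (mRi r) (mR r) == oneN && mmN (mR r) (mRi r) == oneN &&
  (List.range 12).all fun t => mmN (mP (rt r t / 21)) (mR (rt r t % 21)) == mmN (mR r) (mG t)

def mInjOK (r : ℕ) : Bool :=
  (List.range 1024).all fun e => (e == 0 && r == 0) || !(mP e == mRi r)

theorem mP_all : (List.range 1024).all mPOK = true := by decide +kernel

theorem mR_all : (List.range 21).all mROK = true := by decide +kernel

theorem mInj_all : (List.range 21).all mInjOK = true := by decide +kernel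

theorem m_misc : mP 0 = oneN ∧ mR 0 = oneN ∧
    ((List.range 12).all fun t => mmN (mG t) transN == mmN transN (mG t)) = true ∧
    ((List.range 12).all fun t =>
      mmN (mP (genPos.getD t 0 / 21)) (mR (genPos.getD t 0 % 21)) == mG t) = true ∧
    ((List.range 1024).all fun e => mP e < 33554432 : Bool) = true ∧
    ((List.range 21).all fun r => mRi r < 33554432 : Bool) = true := by
  decide +kernel

theorem toMat_inj {a b : ℕ} (ha : a < 2 ^ 25) (hb : b < 2 ^ 25) (h : toMat a = toMat b) : a = b := by
  apply Nat.eq_of_testBit_eq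
  intro t
  by_cases ht : t < 25
  · have := congrFun (congrFun h ⟨t / 5, by omega⟩) ⟨t % 5, Nat.mod_lt _ (by norm_num)⟩
    simp only [toMat, Matrix.of_apply, show 5 * (t / 5) + t % 5 = t by omega] at this
    cases hA : a.testBit t <;> cases hB : b.testBit t <;> simp [hA, hB] at this ⊢
  · have hle : 2 ^ 25 ≤ 2 ^ t := Nat.pow_le_pow_right (by norm_num) (by omega)
    rw [Nat.testBit_lt_two_pow (ha.trans_le hle), Nat.testBit_lt_two_pow (hb.trans_le hle)]

/-- The image of a normal form. -/
def imM (e r : ℕ) : Mat5 := toMat (mP e) * toMat (mR r)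

theorem mP_step {e : ℕ} (he : e < 1024) {i : ℕ} (hi : i < 10) :
    toMat (mP (step e i)) = toMat (mP e) * toMat (mG i) := by
  have h := List.all_eq_true.1 mP_all e (List.mem_range.2 he)
  simp only [mPOK, List.all_eq_true, beq_iff_eq] at h
  rw [← h i (List.mem_range.2 hi), toMat_mmN]

theorem mP_mulP {a b : ℕ} (ha : a < 1024) (hb : b < 1024) :
    toMat (mP (mulP a b)) = toMat (mP a) * toMat (mP b) := by
  have key : ∀ (l : List ℕ) (c : ℕ), (∀ i ∈ l, i < 10) → c < 1024 →
      toMat (mP (l.foldl (fun c i => if b.testBit i then step c i else c) c)) =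
        toMat (mP c) * (l.map fun i => if b.testBit i then toMat (mG i) else 1).prod := by
    intro l
    induction l with
    | nil => intro c _ _; simp
    | cons i l ih =>
      intro c hl hc
      have hi := hl i List.mem_cons_self
      rw [List.foldl_cons, List.map_cons, List.prod_cons,
        ih _ (fun j hj => hl j (List.mem_cons_of_mem _ hj)) (by
          split
          · exact (step_spec hc hi).1
          · exact hc)]
      split
      · rw [mP_step hc hi, mul_assoc]
      · rw [one_mul]
  have h0 := key (List.range 10) 0 (fun i hi => List.mem_range.1 hi) (by norm_num)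
  rw [m_misc.1, toMat_oneN, one_mul] at h0
  rw [show toMat (mP (mulP a b)) = _ from key (List.range 10) a (fun i hi => List.mem_range.1 hi) ha,
    ← h0, show (List.range 10).foldl (fun c i => if b.testBit i then step c i else c) 0 = b from
      beq_iff_eq.1 (List.all_eq_true.1 bits_all b (List.mem_range.2 hb))]

/-- Normal form of an element of the centraliser. -/
noncomputable def nfEquiv : Fin 1024 × Fin 21 ≃ C0 :=
  Equiv.ofBijective (fun q => ⟨elP q.1 * rep q.2, elP_rep_mem _ _⟩) <|
    (Nat.bijective_iff_surjective_and_card _).2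
      ⟨fun x => by
        obtain ⟨e, he, r, h⟩ := mem_C0_exists x.2
        exact ⟨(⟨e, he⟩, r), Subtype.ext h.symm⟩, by simp [card_C0]⟩

/-- The matrix attached to an element of the centraliser. -/
noncomputable def matF (x : C0) : Mat5 :=
  imM (nfEquiv.symm x).1.val (nfEquiv.symm x).2.val

theorem matF_nf (e : Fin 1024) (r : Fin 21) : matF (nfEquiv (e, r)) = imM e r := by
  rw [matF, Equiv.symm_apply_apply]

theorem matF_one : matF 1 = 1 := by
  have : (1 : C0) = nfEquiv (0, 0) := Subtype.ext (by
    show (1 : M24) = elP 0 * rep 0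
    rw [elP_zero, rep_zero, one_mul])
  rw [this, matF_nf, imM]
  simp only [Fin.val_zero, m_misc.1, m_misc.2.1, toMat_oneN, one_mul]

theorem matF_gen (t : Fin 12) (h : gen t ∈ C0) : matF ⟨gen t, h⟩ = toMat (mG t) := by
  have hp := List.all_eq_true.1 reps_all.2 _ (List.mem_range.2 t.isLt)
  simp only [genPosOK, Bool.and_eq_true, decide_eq_true_eq, beq_iff_eq] at hp
  have : (⟨gen t, h⟩ : C0) = nfEquiv (⟨_, hp.1⟩, ⟨genPos.getD t.val 0 % 21, Nat.mod_lt _ (by norm_num)⟩) := by
    refine Subtype.ext (ext_code ?_)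
    show MOut.code (gen t).1 = MOut.code (elP _ * rep _ : M24).1
    rw [code_gen, Subgroup.coe_mul, MOut.code_mul, code_elP hp.1, code_rep]
    exact hp.2
  rw [this, matF_nf, imM, ← toMat_mmN]
  congr 1
  exact beq_iff_eq.1 (List.all_eq_true.1 m_misc.2.2.2.1 _ (List.mem_range.2 t.isLt))

theorem matF_mul_gen (x : C0) (t : Fin 12) (h : gen t ∈ C0) :
    matF (x * ⟨gen t, h⟩) = matF x * toMat (mG t) := by
  obtain ⟨⟨e, r⟩, rfl⟩ := nfEquiv.surjective x
  obtain ⟨h1, h2⟩ := rep_spec r t
  obtain ⟨h3, h4⟩ := elP_mul e.isLt (rt r t / 21)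
  have : nfEquiv (e, r) * ⟨gen t, h⟩ =
      nfEquiv (⟨_, h4⟩, ⟨rt r t % 21, Nat.mod_lt _ (by norm_num)⟩) := Subtype.ext (by
    show elP e.val * rep r * gen t = elP _ * rep _
    rw [mul_assoc, h2, ← mul_assoc, h3])
  rw [this, matF_nf, matF_nf, imM, imM, mP_mulP e.isLt h1, mul_assoc, mul_assoc,
    ← toMat_mmN (mP (rt r t / 21)), ← toMat_mmN (mR r)]
  congr 2
  have hr := List.all_eq_true.1 mR_all _ (List.mem_range.2 r.isLt)
  simp only [mROK, Bool.and_eq_true, beq_iff_eq, List.all_eq_true] at hr
  exact hr.2 _ (List.mem_range.2 t.isLt)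

/-- A submonoid containing the generators contains everything. -/
theorem forall_mem_submonoid {G : Type*} [Group G] [Finite G] {T : Set G}
    (S : Submonoid (Subgroup.closure T))
    (h : ∀ t (ht : t ∈ T), (⟨t, Subgroup.subset_closure ht⟩ : Subgroup.closure T) ∈ S)
    (x : Subgroup.closure T) : x ∈ S := by
  obtain ⟨g, hg⟩ := x
  induction hg using Subgroup.closure_induction with
  | mem t ht => exact h t ht
  | one => exact S.one_mem
  | mul a b _ _ ha hb => exact S.mul_mem ha hb
  | inv a ha ih =>
    set A : Subgroup.closure T := ⟨a, ha⟩ with hA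
    have e : A⁻¹ = A ^ (orderOf A - 1) := by
      symm
      apply eq_inv_of_mul_eq_one_left
      rw [← pow_succ, Nat.sub_add_cancel (orderOf_pos A), pow_orderOf_eq_one]
    show A⁻¹ ∈ S
    rw [e]
    exact S.pow_mem ih _

/-- The representation. -/
noncomputable def matHom : C0 →* Mat5 where
  toFun := matF
  map_one' := matF_one
  map_mul' := fun x y => by
    let S : Submonoid C0 :=
      { carrier := {g | ∀ x : C0, matF (x * g) = matF x * matF g}
        one_mem' := fun x => by rw [mul_one, matF_one, mul_one]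
        mul_mem' := fun {a b} ha hb x => by
          rw [← mul_assoc, hb, ha, hb a, mul_assoc] }
    refine forall_mem_submonoid S ?_ y x
    rintro g ⟨t, rfl⟩ x
    have hm : gen t ∈ C0 := Subgroup.subset_closure (Set.mem_range_self t)
    exact (matF_mul_gen x t hm).trans (congrArg (matF x * ·) (matF_gen t hm).symm)

theorem matHom_injective : Function.Injective matHom := by
  rw [injective_iff_map_eq_one]
  intro x hx
  obtain ⟨⟨e, r⟩, rfl⟩ := nfEquiv.surjective x
  have hx' : imM e r = 1 := by rw [← matF_nf]; exact hx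
  have hr := List.all_eq_true.1 mR_all _ (List.mem_range.2 r.isLt)
  simp only [mROK, Bool.and_eq_true, beq_iff_eq, List.all_eq_true] at hr
  have hri : toMat (mR r) * toMat (mRi r) = 1 := by rw [← toMat_mmN, hr.1.2, toMat_oneN]
  have heq : toMat (mP e) = toMat (mRi r) := by
    calc toMat (mP e) = toMat (mP e) * toMat (mR r) * toMat (mRi r) := by
          rw [mul_assoc, hri, mul_one]
      _ = toMat (mRi r) := by rw [show toMat (mP e) * toMat (mR r) = 1 from hx', one_mul]
  have hlt1 := List.all_eq_true.1 m_misc.2.2.2.2.1 _ (List.mem_range.2 e.isLt)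
  have hlt2 := List.all_eq_true.1 m_misc.2.2.2.2.2 _ (List.mem_range.2 r.isLt)
  have hn := toMat_inj (by simpa using hlt1) (by simpa using hlt2) heq
  have h := List.all_eq_true.1 mInj_all _ (List.mem_range.2 r.isLt)
  simp only [mInjOK, List.all_eq_true, Bool.or_eq_true, Bool.and_eq_true, beq_iff_eq,
    Bool.not_eq_true', beq_eq_false_iff_ne] at h
  obtain ⟨he0, hr0⟩ := (h _ (List.mem_range.2 e.isLt)).resolve_right fun h' => h' hn
  refine Subtype.ext ?_
  show elP e.val * rep r = 1
  rw [he0, elP_zero, show r = 0 from Fin.ext hr0, rep_zero, one_mul]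

theorem zmod2_one_of_ne : ∀ d : ZMod 2, d ≠ 0 → d = 1 := by decide

theorem det_matHom (x : C0) : (matHom x).det = 1 :=
  zmod2_one_of_ne _ fun h => by
    have := congrArg Matrix.det ((map_mul matHom x x⁻¹).symm.trans (by rw [mul_inv_cancel, map_one]))
    rw [Matrix.det_mul, h, zero_mul, Matrix.det_one] at this
    exact zero_ne_one this

theorem matHom_comm (x : C0) : matHom x * toMat transN = toMat transN * matHom x := by
  let S : Submonoid C0 :=
    { carrier := {g | matHom g * toMat transN = toMat transN * matHom g}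
      one_mem' := by simp
      mul_mem' := fun {a b} (ha : matHom a * _ = _) (hb : matHom b * _ = _) => by
        show matHom (a * b) * _ = _
        rw [map_mul, mul_assoc, hb, ← mul_assoc, ha, mul_assoc] }
  refine forall_mem_submonoid S ?_ x
  rintro g ⟨t, rfl⟩
  have hm : gen t ∈ C0 := Subgroup.subset_closure (Set.mem_range_self t)
  show matF ⟨gen t, hm⟩ * _ = _ * matF ⟨gen t, hm⟩
  rw [matF_gen t hm, ← toMat_mmN, ← toMat_mmN]
  congr 1
  exact beq_iff_eq.1 (List.all_eq_true.1 m_misc.2.2.1 _ (List.mem_range.2 t.isLt))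

/-- At most `128 · 168` matrices of determinant one commute with the transvection. -/
theorem card_centralizer_le (s : Matrix.SpecialLinearGroup (Fin 5) (ZMod 2))
    (hs : (s : Mat5) = Matrix.transvection 0 1 1) :
    Nat.card (Subgroup.centralizer ({s} : Set (Matrix.SpecialLinearGroup (Fin 5) (ZMod 2)))) ≤
      21504 := by
  classical
  haveI : Fact (Nat.Prime 2) := ⟨Nat.prime_two⟩
  set C := Subgroup.centralizer ({s} : Set (Matrix.SpecialLinearGroup (Fin 5) (ZMod 2)))
  have hcomm : ∀ x : C, (x.1 : Mat5) * Matrix.transvection 0 1 1 =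
      Matrix.transvection 0 1 1 * (x.1 : Mat5) := fun x => by
    have h := Subgroup.mem_centralizer_singleton_iff.1 x.2
    have h' := congrArg Subtype.val h
    rw [← hs]
    exact h'
  have shape : ∀ x : C, (x.1 : Mat5) 0 0 = (x.1 : Mat5) 1 1 ∧
      (∀ i : Fin 5, i ≠ 0 → (x.1 : Mat5) i 0 = 0) ∧ ∀ j : Fin 5, j ≠ 1 → (x.1 : Mat5) 1 j = 0 := by
    intro x
    have h := hcomm x
    rw [Matrix.transvection, mul_add, mul_one, add_mul, one_mul, add_left_cancel_iff] at h
    have e : ∀ i j : Fin 5, ((x.1 : Mat5) * Matrix.single (0 : Fin 5) (1 : Fin 5) (1 : ZMod 2) : Mat5) i j =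
        (Matrix.single (0 : Fin 5) (1 : Fin 5) (1 : ZMod 2) * (x.1 : Mat5) : Mat5) i j :=
      fun i j => congrFun (congrFun h i) j
    refine ⟨?_, fun i hi => ?_, fun j hj => ?_⟩
    · simpa [Matrix.mul_apply, Matrix.single_apply, Fin.sum_univ_five] using e 0 1
    · simpa [Matrix.mul_apply, Matrix.single_apply, Fin.sum_univ_five, hi, hi.symm] using e i 1
    · simpa [Matrix.mul_apply, Matrix.single_apply, Fin.sum_univ_five, hj, hj.symm] using (e 0 j).symm
  let blk : C → Matrix (Fin 3) (Fin 3) (ZMod 2) := fun x =>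
    (x.1 : Mat5).submatrix (fun i => ⟨i.val + 2, by omega⟩) (fun i => ⟨i.val + 2, by omega⟩)
  have hblk : ∀ x y : C, blk (x * y) = blk x * blk y := by
    intro x y
    ext i j
    show ((x.1 : Mat5) * (y.1 : Mat5)) _ _ = _
    simp only [blk, Matrix.submatrix_apply, Matrix.mul_apply, Fin.sum_univ_five, Fin.sum_univ_three]
    rw [(shape x).2.1 ⟨i.val + 2, by omega⟩ (Fin.ne_of_val_ne (by simp)),
      (shape y).2.2 ⟨j.val + 2, by omega⟩ (Fin.ne_of_val_ne (by simp))]
    rw [zero_mul, mul_zero, zero_add, zero_add]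
    rfl
  have hblk1 : blk 1 = 1 := by
    ext i j
    simp only [blk, OneMemClass.coe_one, SpecialLinearGroup.coe_one, Matrix.submatrix_apply,
      Matrix.one_apply]
    refine if_congr ?_ rfl rfl
    simp [Fin.ext_iff]
  let blkHom : C →* Matrix (Fin 3) (Fin 3) (ZMod 2) :=
    { toFun := blk, map_one' := hblk1, map_mul' := hblk }
  let free : Fin 7 → Fin 5 × Fin 5 :=
    ![(0, 1), (0, 2), (0, 3), (0, 4), (2, 1), (3, 1), (4, 1)]
  let f : C → (Fin 7 → ZMod 2) × GL (Fin 3) (ZMod 2) := fun x =>
    (fun k => (x.1 : Mat5) (free k).1 (free k).2, blkHom.toHomUnits x)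
  have hf : Function.Injective f := by
    intro x y hxy
    obtain ⟨h1, h2⟩ := Prod.mk.injEq .. ▸ hxy
    have h2' : blk x = blk y := congrArg Units.val h2
    have h00 : ∀ x : C, (x.1 : Mat5) 0 0 = 1 := fun x => by
      refine zmod2_one_of_ne _ fun h => ?_
      have hdet := x.1.2
      rw [Matrix.det_eq_zero_of_column_eq_zero 0] at hdet
      · exact zero_ne_one hdet
      · intro i
        by_cases hi : i = 0
        · rw [hi]; exact h
        · exact (shape x).2.1 i hi
    refine Subtype.ext (Subtype.ext ?_)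
    ext i j
    fin_cases i <;> fin_cases j
    all_goals first
      | exact (h00 x).trans (h00 y).symm
      | exact ((shape x).1.symm.trans (h00 x)).trans ((shape y).1.symm.trans (h00 y)).symm
      | exact ((shape x).2.1 _ (by decide)).trans ((shape y).2.1 _ (by decide)).symm
      | exact ((shape x).2.2 _ (by decide)).trans ((shape y).2.2 _ (by decide)).symm
      | exact congrFun h1 0
      | exact congrFun h1 1
      | exact congrFun h1 2
      | exact congrFun h1 3
      | exact congrFun h1 4
      | exact congrFun h1 5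
      | exact congrFun h1 6
      | exact congrFun (congrFun h2' 0) 0
      | exact congrFun (congrFun h2' 0) 1
      | exact congrFun (congrFun h2' 0) 2
      | exact congrFun (congrFun h2' 1) 0
      | exact congrFun (congrFun h2' 1) 1
      | exact congrFun (congrFun h2' 1) 2
      | exact congrFun (congrFun h2' 2) 0
      | exact congrFun (congrFun h2' 2) 1
      | exact congrFun (congrFun h2' 2) 2
  have := Nat.card_le_card_of_injective f hf
  refine this.trans ?_
  rw [Nat.card_prod, Nat.card_fun, Matrix.card_GL_field]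
  simp [Fin.prod_univ_three]

theorem transvection_centralizer (s : Matrix.SpecialLinearGroup (Fin 5) (ZMod 2))
    (hs : (s : Mat5) = Matrix.transvection 0 1 1) :
    ∃ w : M24, orderOf w = 2 ∧ Nonempty (Subgroup.centralizer ({w} : Set M24) ≃*
      Subgroup.centralizer ({s} : Set (Matrix.SpecialLinearGroup (Fin 5) (ZMod 2)))) := by
  refine ⟨z, orderOf_z, ?_⟩
  let φ : C0 →* Matrix.SpecialLinearGroup (Fin 5) (ZMod 2) :=
    { toFun := fun x => ⟨matHom x, det_matHom x⟩
      map_one' := Subtype.ext (map_one matHom)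
      map_mul' := fun x y => Subtype.ext (map_mul matHom x y) }
  have hmem : ∀ x, φ x ∈ Subgroup.centralizer ({s} : Set (Matrix.SpecialLinearGroup (Fin 5) (ZMod 2))) :=
    fun x => by
      refine Subgroup.mem_centralizer_singleton_iff.2 (Subtype.ext ?_)
      have h := matHom_comm x
      rw [toMat_transN, ← hs] at h
      exact h
  let ψ := φ.codRestrict _ hmem
  have hinj : Function.Injective ψ := fun x y h =>
    matHom_injective (congrArg Subtype.val (congrArg Subtype.val h))
  have hbij : Function.Bijective ψ := (Nat.bijective_iff_injective_and_card _).2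
    ⟨hinj, le_antisymm (Nat.card_le_card_of_injective ψ hinj) (by rw [card_C0]; exact card_centralizer_le s hs)⟩
  exact ⟨(MulEquiv.subgroupCongr centralizer_z).trans (MulEquiv.ofBijective ψ hbij)⟩

end H97.M24Loc
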