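import Cfsg.Agent.H97.MathieuOut
import Cfsg.Agent.H87.MathieuCert
import Cfsg.Agent.H97.M24LocData

/-!
An explicit Sylow 2-subgroup of M24 and the full centraliser of its central involution.
-/

set_option autoImplicit false
set_option maxRecDepth 100000

namespace H97.M24Loc

open Cfsg H90 MOut

/-- Lookup in a chunked table. -/
def at' (w : ℕ) (L : List (List ℕ)) (i : ℕ) : ℕ := (L.getD (i / w) []).getD (i % w) 0

def pe (e : ℕ) : ℕ := at' 32 peTab e

def step (e i : ℕ) : ℕ := at' 100 mulTab (10 * e + i)

def gv (i : ℕ) : ℕ := genList.getD i idN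

def rv (r : ℕ) : ℕ := repList.getD r idN

def canonMem (p : ℕ) : Bool := H87.mem24 p && packAux (fun i => img p i) 24 == p

/-- Right multiplication by the element with index `b`. -/
def mulP (a b : ℕ) : ℕ :=
  (List.range 10).foldl (fun c i => if b.testBit i then step c i else c) a

def stepOK (e : ℕ) : Bool :=
  (List.range 10).all fun i => decide (step e i < 1024) && compN (pe e) (gv i) == pe (step e i)

def bitsOK (e : ℕ) : Bool := mulP 0 e == e

/-- No element but the two central ones commutes with all generators. -/
def centreOK (e : ℕ) : Bool :=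
  e == 0 || e == 512 || (List.range 10).any fun i => !(step e i == mulP (2 ^ i) e)

def increasingN : List ℕ → Bool
  | a :: b :: l => decide (a < b) && increasingN (b :: l)
  | _ => true

theorem gens_all : genList.length = 12 ∧ genList.all canonMem = true ∧ pe 0 = idN ∧
    (repList.all canonMem = true) ∧ repList.length = 21 ∧ rv 0 = idN := by
  decide +kernel

theorem step_all : (List.range 1024).all stepOK = true := by decide +kernel

theorem bits_all : (List.range 1024).all bitsOK = true := by decide +kernel

theorem centre_all : (List.range 1024).all centreOK = true := by decide +kernel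

theorem sort_all : ((List.range 1024).map fun k => at' 32 sortTab k).all (fun e => decide (e < 1024)) = true
    ∧ increasingN ((List.range 1024).map fun k => pe (at' 32 sortTab k)) = true := by
  decide +kernel

theorem z_comm : ((List.range 12).all fun i => compN (pe 512) (gv i) == compN (gv i) (pe 512)) = true
    ∧ powN (pe 512) 2 = idN := by
  decide +kernel

theorem exists_canon {p : ℕ} (h : canonMem p = true) : ∃ g : M24, code g.1 = p := by
  simp only [canonMem, Bool.and_eq_true, beq_iff_eq] at h
  obtain ⟨σ, hσ, hr⟩ := H87.exists_of_mem24 h.1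
  exact ⟨⟨σ, hσ⟩, (code_of_repr hr).trans h.2⟩

theorem exists_gen (i : Fin 12) : ∃ g : M24, code g.1 = gv i := by
  refine exists_canon (List.all_eq_true.1 gens_all.2.1 _ ?_)
  have : i.val < genList.length := by rw [gens_all.1]; exact i.isLt
  rw [gv, List.getD_eq_getElem _ _ this]
  exact List.getElem_mem this

theorem exists_rep (r : Fin 21) : ∃ g : M24, code g.1 = rv r := by
  refine exists_canon (List.all_eq_true.1 gens_all.2.2.2.1 _ ?_)
  have : r.val < repList.length := by rw [gens_all.2.2.2.2.1]; exact r.isLt
  rw [rv, List.getD_eq_getElem _ _ this]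
  exact List.getElem_mem this

/-- The generators: ten for the Sylow subgroup, then elements of order 7 and 3. -/
noncomputable def gen (i : Fin 12) : M24 := (exists_gen i).choose

theorem code_gen (i : Fin 12) : code (gen i).1 = gv i := (exists_gen i).choose_spec

/-- The coset representatives of the Sylow subgroup in the centraliser. -/
noncomputable def rep (r : Fin 21) : M24 := (exists_rep r).choose

theorem code_rep (r : Fin 21) : code (rep r).1 = rv r := (exists_rep r).choose_spec

theorem ext_code {x y : M24} (h : code x.1 = code y.1) : x = y := Subtype.ext (code_inj h)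

/-- The element with index `e`: the product of the generators at the set bits. -/
noncomputable def elP (e : ℕ) : M24 :=
  ((List.range 10).map fun i => if h : i < 10 then
    (if e.testBit i then gen ⟨i, by omega⟩ else 1) else 1).prod

theorem step_spec {e : ℕ} (he : e < 1024) {i : ℕ} (hi : i < 10) :
    step e i < 1024 ∧ compN (pe e) (gv i) = pe (step e i) := by
  have h := List.all_eq_true.1 step_all e (List.mem_range.2 he)
  simp only [stepOK, List.all_eq_true, Bool.and_eq_true, decide_eq_true_eq, beq_iff_eq] at h
  exact h i (List.mem_range.2 hi)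

theorem code_mul_elP (a : ℕ) (x : M24) (ha : a < 1024) (hx : code x.1 = pe a) (b : ℕ) :
    code (x * elP b).1 = pe (mulP a b) ∧ mulP a b < 1024 := by
  have key : ∀ (l : List ℕ) (c : ℕ) (y : M24), (∀ i ∈ l, i < 10) → c < 1024 → code y.1 = pe c →
      code (y * (l.map fun i => if h : i < 10 then
        (if b.testBit i then gen ⟨i, by omega⟩ else 1) else 1).prod).1 =
        pe (l.foldl (fun c i => if b.testBit i then step c i else c) c) ∧
      l.foldl (fun c i => if b.testBit i then step c i else c) c < 1024 := by
    intro l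
    induction l with
    | nil => intro c y _ hc hy; simp [hy, hc]
    | cons i l ih =>
      intro c y hl hc hy
      rw [List.map_cons, List.prod_cons, List.foldl_cons, ← mul_assoc]
      have hi := hl i List.mem_cons_self
      rw [dif_pos hi]
      refine ih _ _ (fun j hj => hl j (List.mem_cons_of_mem _ hj)) ?_ ?_
      · split
        · exact (step_spec hc hi).1
        · exact hc
      · split
        · rw [Subgroup.coe_mul, code_mul, hy, code_gen]
          exact (step_spec hc hi).2
        · rw [mul_one]; exact hy
  exact key (List.range 10) a x (fun i hi => List.mem_range.1 hi) ha hx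

theorem code_elP {e : ℕ} (he : e < 1024) : code (elP e).1 = pe e := by
  have h := (code_mul_elP 0 1 (by norm_num) (by rw [OneMemClass.coe_one, code_one, gens_all.2.2.1]) e).1
  rw [one_mul] at h
  rw [h, beq_iff_eq.1 (List.all_eq_true.1 bits_all e (List.mem_range.2 he))]

theorem pairwise_increasingN : ∀ l : List ℕ, increasingN l = true → l.Pairwise (· < ·)
  | [], _ => List.Pairwise.nil
  | [_], _ => List.pairwise_singleton _ _
  | a :: b :: l, h => by
    simp only [increasingN, Bool.and_eq_true, decide_eq_true_eq] at h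
    have ih := pairwise_increasingN (b :: l) h.2
    refine List.pairwise_cons.2 ⟨fun c hc => ?_, ih⟩
    rcases List.mem_cons.1 hc with rfl | hc
    · exact h.1
    · exact h.1.trans ((List.pairwise_cons.1 ih).1 c hc)

theorem pe_inj {a b : ℕ} (ha : a < 1024) (hb : b < 1024) (h : pe a = pe b) : a = b := by
  let p : Fin 1024 → Fin 1024 := fun k => ⟨at' 32 sortTab k, by
    have := List.all_eq_true.1 sort_all.1 (at' 32 sortTab k)
      (List.mem_map.2 ⟨k, List.mem_range.2 k.isLt, rfl⟩)
    exact of_decide_eq_true this⟩
  have hs : StrictMono fun k : Fin 1024 => pe (p k) := fun i j hij => by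
    have := List.pairwise_iff_getElem.1 (pairwise_increasingN _ sort_all.2) i.val j.val
      (by simp) (by simp) hij
    simpa [p] using this
  have hp : Function.Bijective p :=
    Finite.injective_iff_bijective.1 fun i j e => hs.injective (by simp only [e])
  obtain ⟨i, hi⟩ := hp.2 ⟨a, ha⟩
  obtain ⟨j, hj⟩ := hp.2 ⟨b, hb⟩
  have e : pe (p i) = pe (p j) := by rw [hi, hj]; exact h
  have := hs.injective e
  subst this
  exact Fin.mk.inj_iff.1 (hi.symm.trans hj)

theorem elP_mul {a : ℕ} (ha : a < 1024) (b : ℕ) :
    elP a * elP b = elP (mulP a b) ∧ mulP a b < 1024 := by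
  obtain ⟨h, hlt⟩ := code_mul_elP a (elP a) ha (code_elP ha) b
  exact ⟨ext_code (by rw [h, code_elP hlt]), hlt⟩

theorem elP_zero : elP 0 = 1 :=
  ext_code (by rw [code_elP (by norm_num), OneMemClass.coe_one, code_one, gens_all.2.2.1])

theorem elP_inj {a b : ℕ} (ha : a < 1024) (hb : b < 1024) (h : elP a = elP b) : a = b :=
  pe_inj ha hb (by rw [← code_elP ha, ← code_elP hb, h])

/-- The Sylow 2-subgroup. -/
noncomputable def P0 : Subgroup M24 where
  carrier := Set.range fun e : Fin 1024 => elP e
  one_mem' := ⟨0, elP_zero⟩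
  mul_mem' := by
    rintro _ _ ⟨a, rfl⟩ ⟨b, rfl⟩
    exact ⟨⟨_, (elP_mul a.isLt b).2⟩, (elP_mul a.isLt b).1.symm⟩
  inv_mem' := by
    rintro _ ⟨a, rfl⟩
    have hp : ∀ n : ℕ, ∃ e : Fin 1024, elP e = elP a ^ n := by
      intro n
      induction n with
      | zero => exact ⟨0, by rw [pow_zero]; exact elP_zero⟩
      | succ n ih =>
        obtain ⟨e, he⟩ := ih
        exact ⟨⟨_, (elP_mul e.isLt a).2⟩, by rw [pow_succ, ← he]; exact (elP_mul e.isLt a).1.symm⟩
    have e : (elP a)⁻¹ = elP a ^ (orderOf (elP a) - 1) := by
      symm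
      apply eq_inv_of_mul_eq_one_left
      rw [← pow_succ, Nat.sub_add_cancel (orderOf_pos _), pow_orderOf_eq_one]
    obtain ⟨k, hk⟩ := hp (orderOf (elP a) - 1)
    exact ⟨k, hk.trans e.symm⟩

theorem mem_P0 {x : M24} : x ∈ P0 ↔ ∃ e < 1024, x = elP e :=
  ⟨fun ⟨e, he⟩ => ⟨e, e.isLt, he.symm⟩, fun ⟨e, he, h⟩ => ⟨⟨e, he⟩, h.symm⟩⟩

theorem card_P0 : Nat.card P0 = 1024 := by
  show Nat.card (Set.range fun e : Fin 1024 => elP e) = 1024
  rw [Nat.card_range_of_injective, Nat.card_fin]
  exact fun a b h => Fin.ext (elP_inj a.isLt b.isLt h)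

/-- `P0` as a Sylow subgroup. -/
noncomputable def sylow0 : Sylow 2 M24 :=
  Sylow.ofCard P0 (by
    rw [card_P0, H90.natCard_M24, show (244823040 : ℕ) = 2 ^ 10 * 239085 by norm_num,
      Nat.factorization_mul (by norm_num) (by norm_num), Nat.Prime.factorization_pow Nat.prime_two,
      Finsupp.add_apply, Finsupp.single_eq_same,
      Nat.factorization_eq_zero_of_not_dvd (by norm_num)]
    norm_num)

theorem elP_gen (i : Fin 10) : elP (2 ^ i.val) = gen ⟨i.val, by omega⟩ := by
  refine ext_code ?_
  rw [code_elP (by calc 2 ^ i.val ≤ 2 ^ 9 := Nat.pow_le_pow_right (by norm_num) (by omega)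
        _ < 1024 := by norm_num), code_gen]
  exact (beq_iff_eq.1 (List.all_eq_true.1
    (show ((List.range 10).all fun i => pe (2 ^ i) == gv i) = true by decide +kernel)
    i.val (List.mem_range.2 i.isLt)))

/-- The central involution. -/
noncomputable def z : M24 := elP 512

theorem z_mem : z ∈ P0 := mem_P0.2 ⟨512, by norm_num, rfl⟩

theorem orderOf_z : orderOf z = 2 := by
  refine orderOf_eq_prime (ext_code ?_) fun h => ?_
  · rw [SubmonoidClass.coe_pow, code_pow, z, code_elP (by norm_num), z_comm.2, OneMemClass.coe_one,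
      code_one]
  · exact absurd (elP_inj (by norm_num) (by norm_num) (h.trans elP_zero.symm)) (by norm_num)

theorem z_comm_gen (i : Fin 12) : z * gen i = gen i * z := by
  refine ext_code ?_
  rw [Subgroup.coe_mul, Subgroup.coe_mul, code_mul, code_mul, z, code_elP (by norm_num), code_gen]
  exact beq_iff_eq.1 (List.all_eq_true.1 z_comm.1 _ (List.mem_range.2 i.isLt))

/-- The only nontrivial element of `P0` centralising it is `z`. -/
theorem eq_z_of_central {x : M24} (hx : x ∈ P0) (hne : x ≠ 1) (h : ∀ y ∈ P0, x * y = y * x) :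
    x = z := by
  obtain ⟨e, he, rfl⟩ := mem_P0.1 hx
  have hc := List.all_eq_true.1 centre_all e (List.mem_range.2 he)
  simp only [centreOK, Bool.or_eq_true, beq_iff_eq, List.any_eq_true, Bool.not_eq_true',
    beq_eq_false_iff_ne, List.mem_range] at hc
  rcases hc with (rfl | rfl) | ⟨i, hi, hne'⟩
  · exact absurd elP_zero hne
  · rfl
  · exfalso
    apply hne'
    have hp2 : 2 ^ i < 1024 := by
      calc 2 ^ i ≤ 2 ^ 9 := Nat.pow_le_pow_right (by norm_num) (by omega)
        _ < 1024 := by norm_num
    have hg := h (elP (2 ^ i)) (mem_P0.2 ⟨_, hp2, rfl⟩)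
    obtain ⟨h1, h2⟩ := elP_mul hp2 e
    obtain ⟨h3, h4⟩ := step_spec he hi
    apply pe_inj h3 h2
    rw [← h4, ← code_elP h2, ← code_elP he, ← code_gen ⟨i, by omega⟩, ← code_mul]
    have := elP_gen ⟨i, hi⟩
    simp only at this
    rw [← h1, ← hg, this, Subgroup.coe_mul]

end H97.M24Loc
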