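import Mathlib.Init

/-! Tables for the central quotient of a Sylow 2-subgroup of M24. -/

set_option maxRecDepth 20000

namespace H97.M24Loc

/-- Binary tables indexed by the bits of a number, lowest first. -/
inductive Tbl where
  | leaf (v : Nat)
  | node (l r : Tbl)

def qStepTab : List Tbl := [
  (.node (.node (.node (.node (.node (.node (.node (.node (.node (.leaf 1) (.leaf 257)) (.node (.leaf 129) (.leaf 385))) (.node (.node (.leaf 65) (.leaf 321)) (.node (.leaf 193) (.leaf 449)))) (.node (.node (.node (.leaf 161) (.leaf 417)) (.node (.leaf 33) (.leaf 289))) (.node (.node (.leaf 225) (.leaf 481)) (.node (.leaf 97) (.leaf 353))))) (.node (.node (.node (.node (.leaf 17) (.leaf 273)) (.node (.leaf 145) (.leaf 401))) (.node (.node (.leaf 81) (.leaf 337)) (.node (.leaf 209) (.leaf 465)))) (.node (.node (.node (.leaf 177) (.leaf 433)) (.node (.leaf 49) (.leaf 305))) (.node (.node (.leaf 241) (.leaf 497)) (.node (.leaf 113) (.leaf 369)))))) (.node (.node (.node (.node (.node (.leaf 73) (.leaf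 329)) (.node (.leaf 201) (.leaf 457))) (.node (.node (.leaf 9) (.leaf 265)) (.node (.leaf 137) (.leaf 393)))) (.node (.node (.node (.leaf 233) (.leaf 489)) (.node (.leaf 105) (.leaf 361))) (.node (.node (.leaf 169) (.leaf 425)) (.node (.leaf 41) (.leaf 297))))) (.node (.node (.node (.node (.leaf 89) (.leaf 345)) (.node (.leaf 217) (.leaf 473))) (.node (.node (.leaf 25) (.leaf 281)) (.node (.leaf 153) (.leaf 409)))) (.node (.node (.node (.leaf 249) (.leaf 505)) (.node (.leaf 121) (.leaf 377))) (.node (.node (.leaf 185) (.leaf 441)) (.node (.leaf 57) (.leaf 313))))))) (.node (.node (.node (.node (.node (.node (.leaf 21) (.leaf 277)) (.node (.leaf 149) (.leaf 405))) (.node (.node (.leaf 85) (.leaf 341)) (.node (.leaf 213) (.leaf 469)))) (.node (.node (.node (.leaf 181) (.leaf 437)) (.node (.leaf 53) (.leaf 309))) (.node (.node (.leaf 245) (.leaf 501)) (.node (.leaf 117) (.leaf 373))))) (.node (.node (.node (.node (.leaf 5) (.leaf 261)) (.node (.leaf 133) (.leaf 389))) (.node (.node (.leaf 69)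 (.leaf 325)) (.node (.leaf 197) (.leaf 453)))) (.node (.node (.node (.leaf 165) (.leaf 421)) (.node (.leaf 37) (.leaf 293))) (.node (.node (.leaf 229) (.leaf 485)) (.node (.leaf 101) (.leaf 357)))))) (.node (.node (.node (.node (.node (.leaf 349) (.leaf 93)) (.node (.leaf 477) (.leaf 221))) (.node (.node (.leaf 285) (.leaf 29)) (.node (.leaf 413) (.leaf 157)))) (.node (.node (.node (.leaf 509) (.leaf 253)) (.node (.leaf 381) (.leaf 125))) (.node (.node (.leaf 445) (.leaf 189)) (.node (.leaf 317) (.leaf 61))))) (.node (.node (.node (.node (.leaf 333) (.leaf 77)) (.node (.leaf 461) (.leaf 205))) (.node (.node (.leaf 269) (.leaf 13)) (.node (.leaf 397) (.leaf 141)))) (.node (.node (.node (.leaf 493) (.leaf 237)) (.node (.leaf 365) (.leaf 109))) (.node (.node (.leaf 429) (.leaf 173)) (.node (.leaf 301) (.leaf 45)))))))) (.node (.node (.node (.node (.node (.node (.node (.leaf 131) (.leaf 387)) (.node (.leaf 3) (.leaf 259))) (.node (.node (.leaf 195) (.leaf 451)) (.node (.leaf 67) (.leaf 323))))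 (.node (.node (.node (.leaf 35) (.leaf 291)) (.node (.leaf 163) (.leaf 419))) (.node (.node (.leaf 99) (.leaf 355)) (.node (.leaf 227) (.leaf 483))))) (.node (.node (.node (.node (.leaf 147) (.leaf 403)) (.node (.leaf 19) (.leaf 275))) (.node (.node (.leaf 211) (.leaf 467)) (.node (.leaf 83) (.leaf 339)))) (.node (.node (.node (.leaf 51) (.leaf 307)) (.node (.leaf 179) (.leaf 435))) (.node (.node (.leaf 115) (.leaf 371)) (.node (.leaf 243) (.leaf 499)))))) (.node (.node (.node (.node (.node (.leaf 203) (.leaf 459)) (.node (.leaf 75) (.leaf 331))) (.node (.node (.leaf 139) (.leaf 395)) (.node (.leaf 11) (.leaf 267)))) (.node (.node (.node (.leaf 107) (.leaf 363)) (.node (.leaf 235) (.leaf 491))) (.node (.node (.leaf 43) (.leaf 299)) (.node (.leaf 171) (.leaf 427))))) (.node (.node (.node (.node (.leaf 219) (.leaf 475)) (.node (.leaf 91) (.leaf 347))) (.node (.node (.leaf 155) (.leaf 411)) (.node (.leaf 27) (.leaf 283)))) (.node (.node (.node (.leaf 123) (.leaf 379)) (.node (.leaf 251) (.leaf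 507))) (.node (.node (.leaf 59) (.leaf 315)) (.node (.leaf 187) (.leaf 443))))))) (.node (.node (.node (.node (.node (.node (.leaf 151) (.leaf 407)) (.node (.leaf 23) (.leaf 279))) (.node (.node (.leaf 215) (.leaf 471)) (.node (.leaf 87) (.leaf 343)))) (.node (.node (.node (.leaf 55) (.leaf 311)) (.node (.leaf 183) (.leaf 439))) (.node (.node (.leaf 119) (.leaf 375)) (.node (.leaf 247) (.leaf 503))))) (.node (.node (.node (.node (.leaf 135) (.leaf 391)) (.node (.leaf 7) (.leaf 263))) (.node (.node (.leaf 199) (.leaf 455)) (.node (.leaf 71) (.leaf 327)))) (.node (.node (.node (.leaf 39) (.leaf 295)) (.node (.leaf 167) (.leaf 423))) (.node (.node (.leaf 103) (.leaf 359)) (.node (.leaf 231) (.leaf 487)))))) (.node (.node (.node (.node (.node (.leaf 479) (.leaf 223)) (.node (.leaf 351) (.leaf 95))) (.node (.node (.leaf 415) (.leaf 159)) (.node (.leaf 287) (.leaf 31)))) (.node (.node (.node (.leaf 383) (.leaf 127)) (.node (.leaf 511) (.leaf 255))) (.node (.node (.leaf 319) (.leaf 63)) (.node (.leaf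 447) (.leaf 191))))) (.node (.node (.node (.node (.leaf 463) (.leaf 207)) (.node (.leaf 335) (.leaf 79))) (.node (.node (.leaf 399) (.leaf 143)) (.node (.leaf 271) (.leaf 15)))) (.node (.node (.node (.leaf 367) (.leaf 111)) (.node (.leaf 495) (.leaf 239))) (.node (.node (.leaf 303) (.leaf 47)) (.node (.leaf 431) (.leaf 175))))))))) (.node (.node (.node (.node (.node (.node (.node (.node (.leaf 0) (.leaf 256)) (.node (.leaf 128) (.leaf 384))) (.node (.node (.leaf 64) (.leaf 320)) (.node (.leaf 192) (.leaf 448)))) (.node (.node (.node (.leaf 160) (.leaf 416)) (.node (.leaf 32) (.leaf 288))) (.node (.node (.leaf 224) (.leaf 480)) (.node (.leaf 96) (.leaf 352))))) (.node (.node (.node (.node (.leaf 16) (.leaf 272)) (.node (.leaf 144) (.leaf 400))) (.node (.node (.leaf 80) (.leaf 336)) (.node (.leaf 208) (.leaf 464)))) (.node (.node (.node (.leaf 176) (.leaf 432)) (.node (.leaf 48) (.leaf 304))) (.node (.node (.leaf 240) (.leaf 496)) (.node (.leaf 112) (.leaf 368)))))) (.node (.node (.node (.node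 (.node (.leaf 72) (.leaf 328)) (.node (.leaf 200) (.leaf 456))) (.node (.node (.leaf 8) (.leaf 264)) (.node (.leaf 136) (.leaf 392)))) (.node (.node (.node (.leaf 232) (.leaf 488)) (.node (.leaf 104) (.leaf 360))) (.node (.node (.leaf 168) (.leaf 424)) (.node (.leaf 40) (.leaf 296))))) (.node (.node (.node (.node (.leaf 88) (.leaf 344)) (.node (.leaf 216) (.leaf 472))) (.node (.node (.leaf 24) (.leaf 280)) (.node (.leaf 152) (.leaf 408)))) (.node (.node (.node (.leaf 248) (.leaf 504)) (.node (.leaf 120) (.leaf 376))) (.node (.node (.leaf 184) (.leaf 440)) (.node (.leaf 56) (.leaf 312))))))) (.node (.node (.node (.node (.node (.node (.leaf 20) (.leaf 276)) (.node (.leaf 148) (.leaf 404))) (.node (.node (.leaf 84) (.leaf 340)) (.node (.leaf 212) (.leaf 468)))) (.node (.node (.node (.leaf 180) (.leaf 436)) (.node (.leaf 52) (.leaf 308))) (.node (.node (.leaf 244) (.leaf 500)) (.node (.leaf 116) (.leaf 372))))) (.node (.node (.node (.node (.leaf 4) (.leaf 260)) (.node (.leaf 132) (.leaf 388)))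 (.node (.node (.leaf 68) (.leaf 324)) (.node (.leaf 196) (.leaf 452)))) (.node (.node (.node (.leaf 164) (.leaf 420)) (.node (.leaf 36) (.leaf 292))) (.node (.node (.leaf 228) (.leaf 484)) (.node (.leaf 100) (.leaf 356)))))) (.node (.node (.node (.node (.node (.leaf 348) (.leaf 92)) (.node (.leaf 476) (.leaf 220))) (.node (.node (.leaf 284) (.leaf 28)) (.node (.leaf 412) (.leaf 156)))) (.node (.node (.node (.leaf 508) (.leaf 252)) (.node (.leaf 380) (.leaf 124))) (.node (.node (.leaf 444) (.leaf 188)) (.node (.leaf 316) (.leaf 60))))) (.node (.node (.node (.node (.leaf 332) (.leaf 76)) (.node (.leaf 460) (.leaf 204))) (.node (.node (.leaf 268) (.leaf 12)) (.node (.leaf 396) (.leaf 140)))) (.node (.node (.node (.leaf 492) (.leaf 236)) (.node (.leaf 364) (.leaf 108))) (.node (.node (.leaf 428) (.leaf 172)) (.node (.leaf 300) (.leaf 44)))))))) (.node (.node (.node (.node (.node (.node (.node (.leaf 130) (.leaf 386)) (.node (.leaf 2) (.leaf 258))) (.node (.node (.leaf 194) (.leaf 450)) (.node (.leaf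 66) (.leaf 322)))) (.node (.node (.node (.leaf 34) (.leaf 290)) (.node (.leaf 162) (.leaf 418))) (.node (.node (.leaf 98) (.leaf 354)) (.node (.leaf 226) (.leaf 482))))) (.node (.node (.node (.node (.leaf 146) (.leaf 402)) (.node (.leaf 18) (.leaf 274))) (.node (.node (.leaf 210) (.leaf 466)) (.node (.leaf 82) (.leaf 338)))) (.node (.node (.node (.leaf 50) (.leaf 306)) (.node (.leaf 178) (.leaf 434))) (.node (.node (.leaf 114) (.leaf 370)) (.node (.leaf 242) (.leaf 498)))))) (.node (.node (.node (.node (.node (.leaf 202) (.leaf 458)) (.node (.leaf 74) (.leaf 330))) (.node (.node (.leaf 138) (.leaf 394)) (.node (.leaf 10) (.leaf 266)))) (.node (.node (.node (.leaf 106) (.leaf 362)) (.node (.leaf 234) (.leaf 490))) (.node (.node (.leaf 42) (.leaf 298)) (.node (.leaf 170) (.leaf 426))))) (.node (.node (.node (.node (.leaf 218) (.leaf 474)) (.node (.leaf 90) (.leaf 346))) (.node (.node (.leaf 154) (.leaf 410)) (.node (.leaf 26) (.leaf 282)))) (.node (.node (.node (.leaf 122) (.leaf 378)) (.node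 (.leaf 250) (.leaf 506))) (.node (.node (.leaf 58) (.leaf 314)) (.node (.leaf 186) (.leaf 442))))))) (.node (.node (.node (.node (.node (.node (.leaf 150) (.leaf 406)) (.node (.leaf 22) (.leaf 278))) (.node (.node (.leaf 214) (.leaf 470)) (.node (.leaf 86) (.leaf 342)))) (.node (.node (.node (.leaf 54) (.leaf 310)) (.node (.leaf 182) (.leaf 438))) (.node (.node (.leaf 118) (.leaf 374)) (.node (.leaf 246) (.leaf 502))))) (.node (.node (.node (.node (.leaf 134) (.leaf 390)) (.node (.leaf 6) (.leaf 262))) (.node (.node (.leaf 198) (.leaf 454)) (.node (.leaf 70) (.leaf 326)))) (.node (.node (.node (.leaf 38) (.leaf 294)) (.node (.leaf 166) (.leaf 422))) (.node (.node (.leaf 102) (.leaf 358)) (.node (.leaf 230) (.leaf 486)))))) (.node (.node (.node (.node (.node (.leaf 478) (.leaf 222)) (.node (.leaf 350) (.leaf 94))) (.node (.node (.leaf 414) (.leaf 158)) (.node (.leaf 286) (.leaf 30)))) (.node (.node (.node (.leaf 382) (.leaf 126)) (.node (.leaf 510) (.leaf 254))) (.node (.node (.leaf 318) (.leaf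 62)) (.node (.leaf 446) (.leaf 190))))) (.node (.node (.node (.node (.leaf 462) (.leaf 206)) (.node (.leaf 334) (.leaf 78))) (.node (.node (.leaf 398) (.leaf 142)) (.node (.leaf 270) (.leaf 14)))) (.node (.node (.node (.leaf 366) (.leaf 110)) (.node (.leaf 494) (.leaf 238))) (.node (.node (.leaf 302) (.leaf 46)) (.node (.leaf 430) (.leaf 174)))))))))),
  (.node (.node (.node (.node (.node (.node (.node (.node (.node (.leaf 2) (.leaf 258)) (.node (.leaf 130) (.leaf 386))) (.node (.node (.leaf 66) (.leaf 322)) (.node (.leaf 194) (.leaf 450)))) (.node (.node (.node (.leaf 34) (.leaf 290)) (.node (.leaf 162) (.leaf 418))) (.node (.node (.leaf 98) (.leaf 354)) (.node (.leaf 226) (.leaf 482))))) (.node (.node (.node (.node (.leaf 146) (.leaf 402)) (.node (.leaf 18) (.leaf 274))) (.node (.node (.leaf 210) (.leaf 466)) (.node (.leaf 82) (.leaf 338)))) (.node (.node (.node (.leaf 178) (.leaf 434)) (.node (.leaf 50) (.leaf 306))) (.node (.node (.leaf 242) (.leaf 498)) (.node (.leaf 114) (.leaf 370))))))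 (.node (.node (.node (.node (.node (.leaf 394) (.leaf 138)) (.node (.leaf 266) (.leaf 10))) (.node (.node (.leaf 458) (.leaf 202)) (.node (.leaf 330) (.leaf 74)))) (.node (.node (.node (.leaf 426) (.leaf 170)) (.node (.leaf 298) (.leaf 42))) (.node (.node (.leaf 490) (.leaf 234)) (.node (.leaf 362) (.leaf 106))))) (.node (.node (.node (.node (.leaf 282) (.leaf 26)) (.node (.leaf 410) (.leaf 154))) (.node (.node (.leaf 346) (.leaf 90)) (.node (.leaf 474) (.leaf 218)))) (.node (.node (.node (.leaf 314) (.leaf 58)) (.node (.leaf 442) (.leaf 186))) (.node (.node (.leaf 378) (.leaf 122)) (.node (.leaf 506) (.leaf 250))))))) (.node (.node (.node (.node (.node (.node (.leaf 38) (.leaf 294)) (.node (.leaf 166) (.leaf 422))) (.node (.node (.leaf 102) (.leaf 358)) (.node (.leaf 230) (.leaf 486)))) (.node (.node (.node (.leaf 6) (.leaf 262)) (.node (.leaf 134) (.leaf 390))) (.node (.node (.leaf 70) (.leaf 326)) (.node (.leaf 198) (.leaf 454))))) (.node (.node (.node (.node (.leaf 182) (.leaf 438)) (.node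 (.leaf 54) (.leaf 310))) (.node (.node (.leaf 246) (.leaf 502)) (.node (.leaf 118) (.leaf 374)))) (.node (.node (.node (.leaf 150) (.leaf 406)) (.node (.leaf 22) (.leaf 278))) (.node (.node (.leaf 214) (.leaf 470)) (.node (.leaf 86) (.leaf 342)))))) (.node (.node (.node (.node (.node (.leaf 430) (.leaf 174)) (.node (.leaf 302) (.leaf 46))) (.node (.node (.leaf 494) (.leaf 238)) (.node (.leaf 366) (.leaf 110)))) (.node (.node (.node (.leaf 398) (.leaf 142)) (.node (.leaf 270) (.leaf 14))) (.node (.node (.leaf 462) (.leaf 206)) (.node (.leaf 334) (.leaf 78))))) (.node (.node (.node (.node (.leaf 318) (.leaf 62)) (.node (.leaf 446) (.leaf 190))) (.node (.node (.leaf 382) (.leaf 126)) (.node (.leaf 510) (.leaf 254)))) (.node (.node (.node (.leaf 286) (.leaf 30)) (.node (.leaf 414) (.leaf 158))) (.node (.node (.leaf 350) (.leaf 94)) (.node (.leaf 478) (.leaf 222)))))))) (.node (.node (.node (.node (.node (.node (.node (.leaf 128) (.leaf 384)) (.node (.leaf 0) (.leaf 256))) (.node (.node (.leaf 192)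 (.leaf 448)) (.node (.leaf 64) (.leaf 320)))) (.node (.node (.node (.leaf 160) (.leaf 416)) (.node (.leaf 32) (.leaf 288))) (.node (.node (.leaf 224) (.leaf 480)) (.node (.leaf 96) (.leaf 352))))) (.node (.node (.node (.node (.leaf 16) (.leaf 272)) (.node (.leaf 144) (.leaf 400))) (.node (.node (.leaf 80) (.leaf 336)) (.node (.leaf 208) (.leaf 464)))) (.node (.node (.node (.leaf 48) (.leaf 304)) (.node (.leaf 176) (.leaf 432))) (.node (.node (.leaf 112) (.leaf 368)) (.node (.leaf 240) (.leaf 496)))))) (.node (.node (.node (.node (.node (.leaf 264) (.leaf 8)) (.node (.leaf 392) (.leaf 136))) (.node (.node (.leaf 328) (.leaf 72)) (.node (.leaf 456) (.leaf 200)))) (.node (.node (.node (.leaf 296) (.leaf 40)) (.node (.leaf 424) (.leaf 168))) (.node (.node (.leaf 360) (.leaf 104)) (.node (.leaf 488) (.leaf 232))))) (.node (.node (.node (.node (.leaf 408) (.leaf 152)) (.node (.leaf 280) (.leaf 24))) (.node (.node (.leaf 472) (.leaf 216)) (.node (.leaf 344) (.leaf 88)))) (.node (.node (.node (.leaf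 440) (.leaf 184)) (.node (.leaf 312) (.leaf 56))) (.node (.node (.leaf 504) (.leaf 248)) (.node (.leaf 376) (.leaf 120))))))) (.node (.node (.node (.node (.node (.node (.leaf 164) (.leaf 420)) (.node (.leaf 36) (.leaf 292))) (.node (.node (.leaf 228) (.leaf 484)) (.node (.leaf 100) (.leaf 356)))) (.node (.node (.node (.leaf 132) (.leaf 388)) (.node (.leaf 4) (.leaf 260))) (.node (.node (.leaf 196) (.leaf 452)) (.node (.leaf 68) (.leaf 324))))) (.node (.node (.node (.node (.leaf 52) (.leaf 308)) (.node (.leaf 180) (.leaf 436))) (.node (.node (.leaf 116) (.leaf 372)) (.node (.leaf 244) (.leaf 500)))) (.node (.node (.node (.leaf 20) (.leaf 276)) (.node (.leaf 148) (.leaf 404))) (.node (.node (.leaf 84) (.leaf 340)) (.node (.leaf 212) (.leaf 468)))))) (.node (.node (.node (.node (.node (.leaf 300) (.leaf 44)) (.node (.leaf 428) (.leaf 172))) (.node (.node (.leaf 364) (.leaf 108)) (.node (.leaf 492) (.leaf 236)))) (.node (.node (.node (.leaf 268) (.leaf 12)) (.node (.leaf 396) (.leaf 140))) (.node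 (.node (.leaf 332) (.leaf 76)) (.node (.leaf 460) (.leaf 204))))) (.node (.node (.node (.node (.leaf 444) (.leaf 188)) (.node (.leaf 316) (.leaf 60))) (.node (.node (.leaf 508) (.leaf 252)) (.node (.leaf 380) (.leaf 124)))) (.node (.node (.node (.leaf 412) (.leaf 156)) (.node (.leaf 284) (.leaf 28))) (.node (.node (.leaf 476) (.leaf 220)) (.node (.leaf 348) (.leaf 92))))))))) (.node (.node (.node (.node (.node (.node (.node (.node (.leaf 3) (.leaf 259)) (.node (.leaf 131) (.leaf 387))) (.node (.node (.leaf 67) (.leaf 323)) (.node (.leaf 195) (.leaf 451)))) (.node (.node (.node (.leaf 35) (.leaf 291)) (.node (.leaf 163) (.leaf 419))) (.node (.node (.leaf 99) (.leaf 355)) (.node (.leaf 227) (.leaf 483))))) (.node (.node (.node (.node (.leaf 147) (.leaf 403)) (.node (.leaf 19) (.leaf 275))) (.node (.node (.leaf 211) (.leaf 467)) (.node (.leaf 83) (.leaf 339)))) (.node (.node (.node (.leaf 179) (.leaf 435)) (.node (.leaf 51) (.leaf 307))) (.node (.node (.leaf 243) (.leaf 499)) (.node (.leaf 115)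 (.leaf 371)))))) (.node (.node (.node (.node (.node (.leaf 395) (.leaf 139)) (.node (.leaf 267) (.leaf 11))) (.node (.node (.leaf 459) (.leaf 203)) (.node (.leaf 331) (.leaf 75)))) (.node (.node (.node (.leaf 427) (.leaf 171)) (.node (.leaf 299) (.leaf 43))) (.node (.node (.leaf 491) (.leaf 235)) (.node (.leaf 363) (.leaf 107))))) (.node (.node (.node (.node (.leaf 283) (.leaf 27)) (.node (.leaf 411) (.leaf 155))) (.node (.node (.leaf 347) (.leaf 91)) (.node (.leaf 475) (.leaf 219)))) (.node (.node (.node (.leaf 315) (.leaf 59)) (.node (.leaf 443) (.leaf 187))) (.node (.node (.leaf 379) (.leaf 123)) (.node (.leaf 507) (.leaf 251))))))) (.node (.node (.node (.node (.node (.node (.leaf 39) (.leaf 295)) (.node (.leaf 167) (.leaf 423))) (.node (.node (.leaf 103) (.leaf 359)) (.node (.leaf 231) (.leaf 487)))) (.node (.node (.node (.leaf 7) (.leaf 263)) (.node (.leaf 135) (.leaf 391))) (.node (.node (.leaf 71) (.leaf 327)) (.node (.leaf 199) (.leaf 455))))) (.node (.node (.node (.node (.leaf 183)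 (.leaf 439)) (.node (.leaf 55) (.leaf 311))) (.node (.node (.leaf 247) (.leaf 503)) (.node (.leaf 119) (.leaf 375)))) (.node (.node (.node (.leaf 151) (.leaf 407)) (.node (.leaf 23) (.leaf 279))) (.node (.node (.leaf 215) (.leaf 471)) (.node (.leaf 87) (.leaf 343)))))) (.node (.node (.node (.node (.node (.leaf 431) (.leaf 175)) (.node (.leaf 303) (.leaf 47))) (.node (.node (.leaf 495) (.leaf 239)) (.node (.leaf 367) (.leaf 111)))) (.node (.node (.node (.leaf 399) (.leaf 143)) (.node (.leaf 271) (.leaf 15))) (.node (.node (.leaf 463) (.leaf 207)) (.node (.leaf 335) (.leaf 79))))) (.node (.node (.node (.node (.leaf 319) (.leaf 63)) (.node (.leaf 447) (.leaf 191))) (.node (.node (.leaf 383) (.leaf 127)) (.node (.leaf 511) (.leaf 255)))) (.node (.node (.node (.leaf 287) (.leaf 31)) (.node (.leaf 415) (.leaf 159))) (.node (.node (.leaf 351) (.leaf 95)) (.node (.leaf 479) (.leaf 223)))))))) (.node (.node (.node (.node (.node (.node (.node (.leaf 129) (.leaf 385)) (.node (.leaf 1) (.leaf 257))) (.node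 (.node (.leaf 193) (.leaf 449)) (.node (.leaf 65) (.leaf 321)))) (.node (.node (.node (.leaf 161) (.leaf 417)) (.node (.leaf 33) (.leaf 289))) (.node (.node (.leaf 225) (.leaf 481)) (.node (.leaf 97) (.leaf 353))))) (.node (.node (.node (.node (.leaf 17) (.leaf 273)) (.node (.leaf 145) (.leaf 401))) (.node (.node (.leaf 81) (.leaf 337)) (.node (.leaf 209) (.leaf 465)))) (.node (.node (.node (.leaf 49) (.leaf 305)) (.node (.leaf 177) (.leaf 433))) (.node (.node (.leaf 113) (.leaf 369)) (.node (.leaf 241) (.leaf 497)))))) (.node (.node (.node (.node (.node (.leaf 265) (.leaf 9)) (.node (.leaf 393) (.leaf 137))) (.node (.node (.leaf 329) (.leaf 73)) (.node (.leaf 457) (.leaf 201)))) (.node (.node (.node (.leaf 297) (.leaf 41)) (.node (.leaf 425) (.leaf 169))) (.node (.node (.leaf 361) (.leaf 105)) (.node (.leaf 489) (.leaf 233))))) (.node (.node (.node (.node (.leaf 409) (.leaf 153)) (.node (.leaf 281) (.leaf 25))) (.node (.node (.leaf 473) (.leaf 217)) (.node (.leaf 345) (.leaf 89)))) (.node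 (.node (.node (.leaf 441) (.leaf 185)) (.node (.leaf 313) (.leaf 57))) (.node (.node (.leaf 505) (.leaf 249)) (.node (.leaf 377) (.leaf 121))))))) (.node (.node (.node (.node (.node (.node (.leaf 165) (.leaf 421)) (.node (.leaf 37) (.leaf 293))) (.node (.node (.leaf 229) (.leaf 485)) (.node (.leaf 101) (.leaf 357)))) (.node (.node (.node (.leaf 133) (.leaf 389)) (.node (.leaf 5) (.leaf 261))) (.node (.node (.leaf 197) (.leaf 453)) (.node (.leaf 69) (.leaf 325))))) (.node (.node (.node (.node (.leaf 53) (.leaf 309)) (.node (.leaf 181) (.leaf 437))) (.node (.node (.leaf 117) (.leaf 373)) (.node (.leaf 245) (.leaf 501)))) (.node (.node (.node (.leaf 21) (.leaf 277)) (.node (.leaf 149) (.leaf 405))) (.node (.node (.leaf 85) (.leaf 341)) (.node (.leaf 213) (.leaf 469)))))) (.node (.node (.node (.node (.node (.leaf 301) (.leaf 45)) (.node (.leaf 429) (.leaf 173))) (.node (.node (.leaf 365) (.leaf 109)) (.node (.leaf 493) (.leaf 237)))) (.node (.node (.node (.leaf 269) (.leaf 13)) (.node (.leaf 397)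 (.leaf 141))) (.node (.node (.leaf 333) (.leaf 77)) (.node (.leaf 461) (.leaf 205))))) (.node (.node (.node (.node (.leaf 445) (.leaf 189)) (.node (.leaf 317) (.leaf 61))) (.node (.node (.leaf 509) (.leaf 253)) (.node (.leaf 381) (.leaf 125)))) (.node (.node (.node (.leaf 413) (.leaf 157)) (.node (.leaf 285) (.leaf 29))) (.node (.node (.leaf 477) (.leaf 221)) (.node (.leaf 349) (.leaf 93)))))))))),
  (.node (.node (.node (.node (.node (.node (.node (.node (.node (.leaf 4) (.leaf 260)) (.node (.leaf 132) (.leaf 388))) (.node (.node (.leaf 324) (.leaf 68)) (.node (.leaf 452) (.leaf 196)))) (.node (.node (.node (.leaf 36) (.leaf 292)) (.node (.leaf 164) (.leaf 420))) (.node (.node (.leaf 356) (.leaf 100)) (.node (.leaf 484) (.leaf 228))))) (.node (.node (.node (.node (.leaf 20) (.leaf 276)) (.node (.leaf 148) (.leaf 404))) (.node (.node (.leaf 340) (.leaf 84)) (.node (.leaf 468) (.leaf 212)))) (.node (.node (.node (.leaf 52) (.leaf 308)) (.node (.leaf 180) (.leaf 436))) (.node (.node (.leaf 372)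 (.leaf 116)) (.node (.leaf 500) (.leaf 244)))))) (.node (.node (.node (.node (.node (.leaf 268) (.leaf 12)) (.node (.leaf 396) (.leaf 140))) (.node (.node (.leaf 76) (.leaf 332)) (.node (.leaf 204) (.leaf 460)))) (.node (.node (.node (.leaf 300) (.leaf 44)) (.node (.leaf 428) (.leaf 172))) (.node (.node (.leaf 108) (.leaf 364)) (.node (.leaf 236) (.leaf 492))))) (.node (.node (.node (.node (.leaf 284) (.leaf 28)) (.node (.leaf 412) (.leaf 156))) (.node (.node (.leaf 92) (.leaf 348)) (.node (.leaf 220) (.leaf 476)))) (.node (.node (.node (.leaf 316) (.leaf 60)) (.node (.leaf 444) (.leaf 188))) (.node (.node (.leaf 124) (.leaf 380)) (.node (.leaf 252) (.leaf 508))))))) (.node (.node (.node (.node (.node (.node (.leaf 0) (.leaf 256)) (.node (.leaf 128) (.leaf 384))) (.node (.node (.leaf 320) (.leaf 64)) (.node (.leaf 448) (.leaf 192)))) (.node (.node (.node (.leaf 32) (.leaf 288)) (.node (.leaf 160) (.leaf 416))) (.node (.node (.leaf 352) (.leaf 96)) (.node (.leaf 480) (.leaf 224))))) (.node (.node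 (.node (.node (.leaf 16) (.leaf 272)) (.node (.leaf 144) (.leaf 400))) (.node (.node (.leaf 336) (.leaf 80)) (.node (.leaf 464) (.leaf 208)))) (.node (.node (.node (.leaf 48) (.leaf 304)) (.node (.leaf 176) (.leaf 432))) (.node (.node (.leaf 368) (.leaf 112)) (.node (.leaf 496) (.leaf 240)))))) (.node (.node (.node (.node (.node (.leaf 264) (.leaf 8)) (.node (.leaf 392) (.leaf 136))) (.node (.node (.leaf 72) (.leaf 328)) (.node (.leaf 200) (.leaf 456)))) (.node (.node (.node (.leaf 296) (.leaf 40)) (.node (.leaf 424) (.leaf 168))) (.node (.node (.leaf 104) (.leaf 360)) (.node (.leaf 232) (.leaf 488))))) (.node (.node (.node (.node (.leaf 280) (.leaf 24)) (.node (.leaf 408) (.leaf 152))) (.node (.node (.leaf 88) (.leaf 344)) (.node (.leaf 216) (.leaf 472)))) (.node (.node (.node (.leaf 312) (.leaf 56)) (.node (.leaf 440) (.leaf 184))) (.node (.node (.leaf 120) (.leaf 376)) (.node (.leaf 248) (.leaf 504)))))))) (.node (.node (.node (.node (.node (.node (.node (.leaf 6) (.leaf 262)) (.node (.leaf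 134) (.leaf 390))) (.node (.node (.leaf 326) (.leaf 70)) (.node (.leaf 454) (.leaf 198)))) (.node (.node (.node (.leaf 38) (.leaf 294)) (.node (.leaf 166) (.leaf 422))) (.node (.node (.leaf 358) (.leaf 102)) (.node (.leaf 486) (.leaf 230))))) (.node (.node (.node (.node (.leaf 22) (.leaf 278)) (.node (.leaf 150) (.leaf 406))) (.node (.node (.leaf 342) (.leaf 86)) (.node (.leaf 470) (.leaf 214)))) (.node (.node (.node (.leaf 54) (.leaf 310)) (.node (.leaf 182) (.leaf 438))) (.node (.node (.leaf 374) (.leaf 118)) (.node (.leaf 502) (.leaf 246)))))) (.node (.node (.node (.node (.node (.leaf 270) (.leaf 14)) (.node (.leaf 398) (.leaf 142))) (.node (.node (.leaf 78) (.leaf 334)) (.node (.leaf 206) (.leaf 462)))) (.node (.node (.node (.leaf 302) (.leaf 46)) (.node (.leaf 430) (.leaf 174))) (.node (.node (.leaf 110) (.leaf 366)) (.node (.leaf 238) (.leaf 494))))) (.node (.node (.node (.node (.leaf 286) (.leaf 30)) (.node (.leaf 414) (.leaf 158))) (.node (.node (.leaf 94) (.leaf 350)) (.node (.leaf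 222) (.leaf 478)))) (.node (.node (.node (.leaf 318) (.leaf 62)) (.node (.leaf 446) (.leaf 190))) (.node (.node (.leaf 126) (.leaf 382)) (.node (.leaf 254) (.leaf 510))))))) (.node (.node (.node (.node (.node (.node (.leaf 2) (.leaf 258)) (.node (.leaf 130) (.leaf 386))) (.node (.node (.leaf 322) (.leaf 66)) (.node (.leaf 450) (.leaf 194)))) (.node (.node (.node (.leaf 34) (.leaf 290)) (.node (.leaf 162) (.leaf 418))) (.node (.node (.leaf 354) (.leaf 98)) (.node (.leaf 482) (.leaf 226))))) (.node (.node (.node (.node (.leaf 18) (.leaf 274)) (.node (.leaf 146) (.leaf 402))) (.node (.node (.leaf 338) (.leaf 82)) (.node (.leaf 466) (.leaf 210)))) (.node (.node (.node (.leaf 50) (.leaf 306)) (.node (.leaf 178) (.leaf 434))) (.node (.node (.leaf 370) (.leaf 114)) (.node (.leaf 498) (.leaf 242)))))) (.node (.node (.node (.node (.node (.leaf 266) (.leaf 10)) (.node (.leaf 394) (.leaf 138))) (.node (.node (.leaf 74) (.leaf 330)) (.node (.leaf 202) (.leaf 458)))) (.node (.node (.node (.leaf 298) (.leaf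 42)) (.node (.leaf 426) (.leaf 170))) (.node (.node (.leaf 106) (.leaf 362)) (.node (.leaf 234) (.leaf 490))))) (.node (.node (.node (.node (.leaf 282) (.leaf 26)) (.node (.leaf 410) (.leaf 154))) (.node (.node (.leaf 90) (.leaf 346)) (.node (.leaf 218) (.leaf 474)))) (.node (.node (.node (.leaf 314) (.leaf 58)) (.node (.leaf 442) (.leaf 186))) (.node (.node (.leaf 122) (.leaf 378)) (.node (.leaf 250) (.leaf 506))))))))) (.node (.node (.node (.node (.node (.node (.node (.node (.leaf 5) (.leaf 261)) (.node (.leaf 133) (.leaf 389))) (.node (.node (.leaf 325) (.leaf 69)) (.node (.leaf 453) (.leaf 197)))) (.node (.node (.node (.leaf 37) (.leaf 293)) (.node (.leaf 165) (.leaf 421))) (.node (.node (.leaf 357) (.leaf 101)) (.node (.leaf 485) (.leaf 229))))) (.node (.node (.node (.node (.leaf 21) (.leaf 277)) (.node (.leaf 149) (.leaf 405))) (.node (.node (.leaf 341) (.leaf 85)) (.node (.leaf 469) (.leaf 213)))) (.node (.node (.node (.leaf 53) (.leaf 309)) (.node (.leaf 181) (.leaf 437))) (.node (.node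 (.leaf 373) (.leaf 117)) (.node (.leaf 501) (.leaf 245)))))) (.node (.node (.node (.node (.node (.leaf 269) (.leaf 13)) (.node (.leaf 397) (.leaf 141))) (.node (.node (.leaf 77) (.leaf 333)) (.node (.leaf 205) (.leaf 461)))) (.node (.node (.node (.leaf 301) (.leaf 45)) (.node (.leaf 429) (.leaf 173))) (.node (.node (.leaf 109) (.leaf 365)) (.node (.leaf 237) (.leaf 493))))) (.node (.node (.node (.node (.leaf 285) (.leaf 29)) (.node (.leaf 413) (.leaf 157))) (.node (.node (.leaf 93) (.leaf 349)) (.node (.leaf 221) (.leaf 477)))) (.node (.node (.node (.leaf 317) (.leaf 61)) (.node (.leaf 445) (.leaf 189))) (.node (.node (.leaf 125) (.leaf 381)) (.node (.leaf 253) (.leaf 509))))))) (.node (.node (.node (.node (.node (.node (.leaf 1) (.leaf 257)) (.node (.leaf 129) (.leaf 385))) (.node (.node (.leaf 321) (.leaf 65)) (.node (.leaf 449) (.leaf 193)))) (.node (.node (.node (.leaf 33) (.leaf 289)) (.node (.leaf 161) (.leaf 417))) (.node (.node (.leaf 353) (.leaf 97)) (.node (.leaf 481) (.leaf 225)))))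 (.node (.node (.node (.node (.leaf 17) (.leaf 273)) (.node (.leaf 145) (.leaf 401))) (.node (.node (.leaf 337) (.leaf 81)) (.node (.leaf 465) (.leaf 209)))) (.node (.node (.node (.leaf 49) (.leaf 305)) (.node (.leaf 177) (.leaf 433))) (.node (.node (.leaf 369) (.leaf 113)) (.node (.leaf 497) (.leaf 241)))))) (.node (.node (.node (.node (.node (.leaf 265) (.leaf 9)) (.node (.leaf 393) (.leaf 137))) (.node (.node (.leaf 73) (.leaf 329)) (.node (.leaf 201) (.leaf 457)))) (.node (.node (.node (.leaf 297) (.leaf 41)) (.node (.leaf 425) (.leaf 169))) (.node (.node (.leaf 105) (.leaf 361)) (.node (.leaf 233) (.leaf 489))))) (.node (.node (.node (.node (.leaf 281) (.leaf 25)) (.node (.leaf 409) (.leaf 153))) (.node (.node (.leaf 89) (.leaf 345)) (.node (.leaf 217) (.leaf 473)))) (.node (.node (.node (.leaf 313) (.leaf 57)) (.node (.leaf 441) (.leaf 185))) (.node (.node (.leaf 121) (.leaf 377)) (.node (.leaf 249) (.leaf 505)))))))) (.node (.node (.node (.node (.node (.node (.node (.leaf 7) (.leaf 263))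 (.node (.leaf 135) (.leaf 391))) (.node (.node (.leaf 327) (.leaf 71)) (.node (.leaf 455) (.leaf 199)))) (.node (.node (.node (.leaf 39) (.leaf 295)) (.node (.leaf 167) (.leaf 423))) (.node (.node (.leaf 359) (.leaf 103)) (.node (.leaf 487) (.leaf 231))))) (.node (.node (.node (.node (.leaf 23) (.leaf 279)) (.node (.leaf 151) (.leaf 407))) (.node (.node (.leaf 343) (.leaf 87)) (.node (.leaf 471) (.leaf 215)))) (.node (.node (.node (.leaf 55) (.leaf 311)) (.node (.leaf 183) (.leaf 439))) (.node (.node (.leaf 375) (.leaf 119)) (.node (.leaf 503) (.leaf 247)))))) (.node (.node (.node (.node (.node (.leaf 271) (.leaf 15)) (.node (.leaf 399) (.leaf 143))) (.node (.node (.leaf 79) (.leaf 335)) (.node (.leaf 207) (.leaf 463)))) (.node (.node (.node (.leaf 303) (.leaf 47)) (.node (.leaf 431) (.leaf 175))) (.node (.node (.leaf 111) (.leaf 367)) (.node (.leaf 239) (.leaf 495))))) (.node (.node (.node (.node (.leaf 287) (.leaf 31)) (.node (.leaf 415) (.leaf 159))) (.node (.node (.leaf 95) (.leaf 351))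 (.node (.leaf 223) (.leaf 479)))) (.node (.node (.node (.leaf 319) (.leaf 63)) (.node (.leaf 447) (.leaf 191))) (.node (.node (.leaf 127) (.leaf 383)) (.node (.leaf 255) (.leaf 511))))))) (.node (.node (.node (.node (.node (.node (.leaf 3) (.leaf 259)) (.node (.leaf 131) (.leaf 387))) (.node (.node (.leaf 323) (.leaf 67)) (.node (.leaf 451) (.leaf 195)))) (.node (.node (.node (.leaf 35) (.leaf 291)) (.node (.leaf 163) (.leaf 419))) (.node (.node (.leaf 355) (.leaf 99)) (.node (.leaf 483) (.leaf 227))))) (.node (.node (.node (.node (.leaf 19) (.leaf 275)) (.node (.leaf 147) (.leaf 403))) (.node (.node (.leaf 339) (.leaf 83)) (.node (.leaf 467) (.leaf 211)))) (.node (.node (.node (.leaf 51) (.leaf 307)) (.node (.leaf 179) (.leaf 435))) (.node (.node (.leaf 371) (.leaf 115)) (.node (.leaf 499) (.leaf 243)))))) (.node (.node (.node (.node (.node (.leaf 267) (.leaf 11)) (.node (.leaf 395) (.leaf 139))) (.node (.node (.leaf 75) (.leaf 331)) (.node (.leaf 203) (.leaf 459)))) (.node (.node (.node (.leaf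 299) (.leaf 43)) (.node (.leaf 427) (.leaf 171))) (.node (.node (.leaf 107) (.leaf 363)) (.node (.leaf 235) (.leaf 491))))) (.node (.node (.node (.node (.leaf 283) (.leaf 27)) (.node (.leaf 411) (.leaf 155))) (.node (.node (.leaf 91) (.leaf 347)) (.node (.leaf 219) (.leaf 475)))) (.node (.node (.node (.leaf 315) (.leaf 59)) (.node (.leaf 443) (.leaf 187))) (.node (.node (.leaf 123) (.leaf 379)) (.node (.leaf 251) (.leaf 507)))))))))),
  (.node (.node (.node (.node (.node (.node (.node (.node (.node (.leaf 8) (.leaf 264)) (.node (.leaf 136) (.leaf 392))) (.node (.node (.leaf 72) (.leaf 328)) (.node (.leaf 200) (.leaf 456)))) (.node (.node (.node (.leaf 40) (.leaf 296)) (.node (.leaf 168) (.leaf 424))) (.node (.node (.leaf 104) (.leaf 360)) (.node (.leaf 232) (.leaf 488))))) (.node (.node (.node (.node (.leaf 280) (.leaf 24)) (.node (.leaf 408) (.leaf 152))) (.node (.node (.leaf 344) (.leaf 88)) (.node (.leaf 472) (.leaf 216)))) (.node (.node (.node (.leaf 312) (.leaf 56)) (.node (.leaf 440)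 (.leaf 184))) (.node (.node (.leaf 376) (.leaf 120)) (.node (.leaf 504) (.leaf 248)))))) (.node (.node (.node (.node (.node (.leaf 256) (.leaf 0)) (.node (.leaf 384) (.leaf 128))) (.node (.node (.leaf 320) (.leaf 64)) (.node (.leaf 448) (.leaf 192)))) (.node (.node (.node (.leaf 288) (.leaf 32)) (.node (.leaf 416) (.leaf 160))) (.node (.node (.leaf 352) (.leaf 96)) (.node (.leaf 480) (.leaf 224))))) (.node (.node (.node (.node (.leaf 16) (.leaf 272)) (.node (.leaf 144) (.leaf 400))) (.node (.node (.leaf 80) (.leaf 336)) (.node (.leaf 208) (.leaf 464)))) (.node (.node (.node (.leaf 48) (.leaf 304)) (.node (.leaf 176) (.leaf 432))) (.node (.node (.leaf 112) (.leaf 368)) (.node (.leaf 240) (.leaf 496))))))) (.node (.node (.node (.node (.node (.node (.leaf 12) (.leaf 268)) (.node (.leaf 140) (.leaf 396))) (.node (.node (.leaf 76) (.leaf 332)) (.node (.leaf 204) (.leaf 460)))) (.node (.node (.node (.leaf 44) (.leaf 300)) (.node (.leaf 172) (.leaf 428))) (.node (.node (.leaf 108) (.leaf 364)) (.node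 (.leaf 236) (.leaf 492))))) (.node (.node (.node (.node (.leaf 284) (.leaf 28)) (.node (.leaf 412) (.leaf 156))) (.node (.node (.leaf 348) (.leaf 92)) (.node (.leaf 476) (.leaf 220)))) (.node (.node (.node (.leaf 316) (.leaf 60)) (.node (.leaf 444) (.leaf 188))) (.node (.node (.leaf 380) (.leaf 124)) (.node (.leaf 508) (.leaf 252)))))) (.node (.node (.node (.node (.node (.leaf 260) (.leaf 4)) (.node (.leaf 388) (.leaf 132))) (.node (.node (.leaf 324) (.leaf 68)) (.node (.leaf 452) (.leaf 196)))) (.node (.node (.node (.leaf 292) (.leaf 36)) (.node (.leaf 420) (.leaf 164))) (.node (.node (.leaf 356) (.leaf 100)) (.node (.leaf 484) (.leaf 228))))) (.node (.node (.node (.node (.leaf 20) (.leaf 276)) (.node (.leaf 148) (.leaf 404))) (.node (.node (.leaf 84) (.leaf 340)) (.node (.leaf 212) (.leaf 468)))) (.node (.node (.node (.leaf 52) (.leaf 308)) (.node (.leaf 180) (.leaf 436))) (.node (.node (.leaf 116) (.leaf 372)) (.node (.leaf 244) (.leaf 500)))))))) (.node (.node (.node (.node (.node (.node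 (.node (.leaf 10) (.leaf 266)) (.node (.leaf 138) (.leaf 394))) (.node (.node (.leaf 74) (.leaf 330)) (.node (.leaf 202) (.leaf 458)))) (.node (.node (.node (.leaf 42) (.leaf 298)) (.node (.leaf 170) (.leaf 426))) (.node (.node (.leaf 106) (.leaf 362)) (.node (.leaf 234) (.leaf 490))))) (.node (.node (.node (.node (.leaf 282) (.leaf 26)) (.node (.leaf 410) (.leaf 154))) (.node (.node (.leaf 346) (.leaf 90)) (.node (.leaf 474) (.leaf 218)))) (.node (.node (.node (.leaf 314) (.leaf 58)) (.node (.leaf 442) (.leaf 186))) (.node (.node (.leaf 378) (.leaf 122)) (.node (.leaf 506) (.leaf 250)))))) (.node (.node (.node (.node (.node (.leaf 258) (.leaf 2)) (.node (.leaf 386) (.leaf 130))) (.node (.node (.leaf 322) (.leaf 66)) (.node (.leaf 450) (.leaf 194)))) (.node (.node (.node (.leaf 290) (.leaf 34)) (.node (.leaf 418) (.leaf 162))) (.node (.node (.leaf 354) (.leaf 98)) (.node (.leaf 482) (.leaf 226))))) (.node (.node (.node (.node (.leaf 18) (.leaf 274)) (.node (.leaf 146) (.leaf 402))) (.node (.node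 (.leaf 82) (.leaf 338)) (.node (.leaf 210) (.leaf 466)))) (.node (.node (.node (.leaf 50) (.leaf 306)) (.node (.leaf 178) (.leaf 434))) (.node (.node (.leaf 114) (.leaf 370)) (.node (.leaf 242) (.leaf 498))))))) (.node (.node (.node (.node (.node (.node (.leaf 14) (.leaf 270)) (.node (.leaf 142) (.leaf 398))) (.node (.node (.leaf 78) (.leaf 334)) (.node (.leaf 206) (.leaf 462)))) (.node (.node (.node (.leaf 46) (.leaf 302)) (.node (.leaf 174) (.leaf 430))) (.node (.node (.leaf 110) (.leaf 366)) (.node (.leaf 238) (.leaf 494))))) (.node (.node (.node (.node (.leaf 286) (.leaf 30)) (.node (.leaf 414) (.leaf 158))) (.node (.node (.leaf 350) (.leaf 94)) (.node (.leaf 478) (.leaf 222)))) (.node (.node (.node (.leaf 318) (.leaf 62)) (.node (.leaf 446) (.leaf 190))) (.node (.node (.leaf 382) (.leaf 126)) (.node (.leaf 510) (.leaf 254)))))) (.node (.node (.node (.node (.node (.leaf 262) (.leaf 6)) (.node (.leaf 390) (.leaf 134))) (.node (.node (.leaf 326) (.leaf 70)) (.node (.leaf 454) (.leaf 198))))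 (.node (.node (.node (.leaf 294) (.leaf 38)) (.node (.leaf 422) (.leaf 166))) (.node (.node (.leaf 358) (.leaf 102)) (.node (.leaf 486) (.leaf 230))))) (.node (.node (.node (.node (.leaf 22) (.leaf 278)) (.node (.leaf 150) (.leaf 406))) (.node (.node (.leaf 86) (.leaf 342)) (.node (.leaf 214) (.leaf 470)))) (.node (.node (.node (.leaf 54) (.leaf 310)) (.node (.leaf 182) (.leaf 438))) (.node (.node (.leaf 118) (.leaf 374)) (.node (.leaf 246) (.leaf 502))))))))) (.node (.node (.node (.node (.node (.node (.node (.node (.leaf 9) (.leaf 265)) (.node (.leaf 137) (.leaf 393))) (.node (.node (.leaf 73) (.leaf 329)) (.node (.leaf 201) (.leaf 457)))) (.node (.node (.node (.leaf 41) (.leaf 297)) (.node (.leaf 169) (.leaf 425))) (.node (.node (.leaf 105) (.leaf 361)) (.node (.leaf 233) (.leaf 489))))) (.node (.node (.node (.node (.leaf 281) (.leaf 25)) (.node (.leaf 409) (.leaf 153))) (.node (.node (.leaf 345) (.leaf 89)) (.node (.leaf 473) (.leaf 217)))) (.node (.node (.node (.leaf 313) (.leaf 57)) (.node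 (.leaf 441) (.leaf 185))) (.node (.node (.leaf 377) (.leaf 121)) (.node (.leaf 505) (.leaf 249)))))) (.node (.node (.node (.node (.node (.leaf 257) (.leaf 1)) (.node (.leaf 385) (.leaf 129))) (.node (.node (.leaf 321) (.leaf 65)) (.node (.leaf 449) (.leaf 193)))) (.node (.node (.node (.leaf 289) (.leaf 33)) (.node (.leaf 417) (.leaf 161))) (.node (.node (.leaf 353) (.leaf 97)) (.node (.leaf 481) (.leaf 225))))) (.node (.node (.node (.node (.leaf 17) (.leaf 273)) (.node (.leaf 145) (.leaf 401))) (.node (.node (.leaf 81) (.leaf 337)) (.node (.leaf 209) (.leaf 465)))) (.node (.node (.node (.leaf 49) (.leaf 305)) (.node (.leaf 177) (.leaf 433))) (.node (.node (.leaf 113) (.leaf 369)) (.node (.leaf 241) (.leaf 497))))))) (.node (.node (.node (.node (.node (.node (.leaf 13) (.leaf 269)) (.node (.leaf 141) (.leaf 397))) (.node (.node (.leaf 77) (.leaf 333)) (.node (.leaf 205) (.leaf 461)))) (.node (.node (.node (.leaf 45) (.leaf 301)) (.node (.leaf 173) (.leaf 429))) (.node (.node (.leaf 109) (.leaf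 365)) (.node (.leaf 237) (.leaf 493))))) (.node (.node (.node (.node (.leaf 285) (.leaf 29)) (.node (.leaf 413) (.leaf 157))) (.node (.node (.leaf 349) (.leaf 93)) (.node (.leaf 477) (.leaf 221)))) (.node (.node (.node (.leaf 317) (.leaf 61)) (.node (.leaf 445) (.leaf 189))) (.node (.node (.leaf 381) (.leaf 125)) (.node (.leaf 509) (.leaf 253)))))) (.node (.node (.node (.node (.node (.leaf 261) (.leaf 5)) (.node (.leaf 389) (.leaf 133))) (.node (.node (.leaf 325) (.leaf 69)) (.node (.leaf 453) (.leaf 197)))) (.node (.node (.node (.leaf 293) (.leaf 37)) (.node (.leaf 421) (.leaf 165))) (.node (.node (.leaf 357) (.leaf 101)) (.node (.leaf 485) (.leaf 229))))) (.node (.node (.node (.node (.leaf 21) (.leaf 277)) (.node (.leaf 149) (.leaf 405))) (.node (.node (.leaf 85) (.leaf 341)) (.node (.leaf 213) (.leaf 469)))) (.node (.node (.node (.leaf 53) (.leaf 309)) (.node (.leaf 181) (.leaf 437))) (.node (.node (.leaf 117) (.leaf 373)) (.node (.leaf 245) (.leaf 501)))))))) (.node (.node (.node (.node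 (.node (.node (.node (.leaf 11) (.leaf 267)) (.node (.leaf 139) (.leaf 395))) (.node (.node (.leaf 75) (.leaf 331)) (.node (.leaf 203) (.leaf 459)))) (.node (.node (.node (.leaf 43) (.leaf 299)) (.node (.leaf 171) (.leaf 427))) (.node (.node (.leaf 107) (.leaf 363)) (.node (.leaf 235) (.leaf 491))))) (.node (.node (.node (.node (.leaf 283) (.leaf 27)) (.node (.leaf 411) (.leaf 155))) (.node (.node (.leaf 347) (.leaf 91)) (.node (.leaf 475) (.leaf 219)))) (.node (.node (.node (.leaf 315) (.leaf 59)) (.node (.leaf 443) (.leaf 187))) (.node (.node (.leaf 379) (.leaf 123)) (.node (.leaf 507) (.leaf 251)))))) (.node (.node (.node (.node (.node (.leaf 259) (.leaf 3)) (.node (.leaf 387) (.leaf 131))) (.node (.node (.leaf 323) (.leaf 67)) (.node (.leaf 451) (.leaf 195)))) (.node (.node (.node (.leaf 291) (.leaf 35)) (.node (.leaf 419) (.leaf 163))) (.node (.node (.leaf 355) (.leaf 99)) (.node (.leaf 483) (.leaf 227))))) (.node (.node (.node (.node (.leaf 19) (.leaf 275)) (.node (.leaf 147) (.leaf 403)))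 (.node (.node (.leaf 83) (.leaf 339)) (.node (.leaf 211) (.leaf 467)))) (.node (.node (.node (.leaf 51) (.leaf 307)) (.node (.leaf 179) (.leaf 435))) (.node (.node (.leaf 115) (.leaf 371)) (.node (.leaf 243) (.leaf 499))))))) (.node (.node (.node (.node (.node (.node (.leaf 15) (.leaf 271)) (.node (.leaf 143) (.leaf 399))) (.node (.node (.leaf 79) (.leaf 335)) (.node (.leaf 207) (.leaf 463)))) (.node (.node (.node (.leaf 47) (.leaf 303)) (.node (.leaf 175) (.leaf 431))) (.node (.node (.leaf 111) (.leaf 367)) (.node (.leaf 239) (.leaf 495))))) (.node (.node (.node (.node (.leaf 287) (.leaf 31)) (.node (.leaf 415) (.leaf 159))) (.node (.node (.leaf 351) (.leaf 95)) (.node (.leaf 479) (.leaf 223)))) (.node (.node (.node (.leaf 319) (.leaf 63)) (.node (.leaf 447) (.leaf 191))) (.node (.node (.leaf 383) (.leaf 127)) (.node (.leaf 511) (.leaf 255)))))) (.node (.node (.node (.node (.node (.leaf 263) (.leaf 7)) (.node (.leaf 391) (.leaf 135))) (.node (.node (.leaf 327) (.leaf 71)) (.node (.leaf 455)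 (.leaf 199)))) (.node (.node (.node (.leaf 295) (.leaf 39)) (.node (.leaf 423) (.leaf 167))) (.node (.node (.leaf 359) (.leaf 103)) (.node (.leaf 487) (.leaf 231))))) (.node (.node (.node (.node (.leaf 23) (.leaf 279)) (.node (.leaf 151) (.leaf 407))) (.node (.node (.leaf 87) (.leaf 343)) (.node (.leaf 215) (.leaf 471)))) (.node (.node (.node (.leaf 55) (.leaf 311)) (.node (.leaf 183) (.leaf 439))) (.node (.node (.leaf 119) (.leaf 375)) (.node (.leaf 247) (.leaf 503)))))))))),
  (.node (.node (.node (.node (.node (.node (.node (.node (.node (.leaf 16) (.leaf 272)) (.node (.leaf 144) (.leaf 400))) (.node (.node (.leaf 80) (.leaf 336)) (.node (.leaf 208) (.leaf 464)))) (.node (.node (.node (.leaf 48) (.leaf 304)) (.node (.leaf 176) (.leaf 432))) (.node (.node (.leaf 112) (.leaf 368)) (.node (.leaf 240) (.leaf 496))))) (.node (.node (.node (.node (.leaf 0) (.leaf 256)) (.node (.leaf 128) (.leaf 384))) (.node (.node (.leaf 64) (.leaf 320)) (.node (.leaf 192) (.leaf 448)))) (.node (.node (.node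 (.leaf 32) (.leaf 288)) (.node (.leaf 160) (.leaf 416))) (.node (.node (.leaf 96) (.leaf 352)) (.node (.leaf 224) (.leaf 480)))))) (.node (.node (.node (.node (.node (.leaf 24) (.leaf 280)) (.node (.leaf 152) (.leaf 408))) (.node (.node (.leaf 88) (.leaf 344)) (.node (.leaf 216) (.leaf 472)))) (.node (.node (.node (.leaf 56) (.leaf 312)) (.node (.leaf 184) (.leaf 440))) (.node (.node (.leaf 120) (.leaf 376)) (.node (.leaf 248) (.leaf 504))))) (.node (.node (.node (.node (.leaf 8) (.leaf 264)) (.node (.leaf 136) (.leaf 392))) (.node (.node (.leaf 72) (.leaf 328)) (.node (.leaf 200) (.leaf 456)))) (.node (.node (.node (.leaf 40) (.leaf 296)) (.node (.leaf 168) (.leaf 424))) (.node (.node (.leaf 104) (.leaf 360)) (.node (.leaf 232) (.leaf 488))))))) (.node (.node (.node (.node (.node (.node (.leaf 20) (.leaf 276)) (.node (.leaf 148) (.leaf 404))) (.node (.node (.leaf 84) (.leaf 340)) (.node (.leaf 212) (.leaf 468)))) (.node (.node (.node (.leaf 52) (.leaf 308)) (.node (.leaf 180) (.leaf 436)))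 (.node (.node (.leaf 116) (.leaf 372)) (.node (.leaf 244) (.leaf 500))))) (.node (.node (.node (.node (.leaf 4) (.leaf 260)) (.node (.leaf 132) (.leaf 388))) (.node (.node (.leaf 68) (.leaf 324)) (.node (.leaf 196) (.leaf 452)))) (.node (.node (.node (.leaf 36) (.leaf 292)) (.node (.leaf 164) (.leaf 420))) (.node (.node (.leaf 100) (.leaf 356)) (.node (.leaf 228) (.leaf 484)))))) (.node (.node (.node (.node (.node (.leaf 28) (.leaf 284)) (.node (.leaf 156) (.leaf 412))) (.node (.node (.leaf 92) (.leaf 348)) (.node (.leaf 220) (.leaf 476)))) (.node (.node (.node (.leaf 60) (.leaf 316)) (.node (.leaf 188) (.leaf 444))) (.node (.node (.leaf 124) (.leaf 380)) (.node (.leaf 252) (.leaf 508))))) (.node (.node (.node (.node (.leaf 12) (.leaf 268)) (.node (.leaf 140) (.leaf 396))) (.node (.node (.leaf 76) (.leaf 332)) (.node (.leaf 204) (.leaf 460)))) (.node (.node (.node (.leaf 44) (.leaf 300)) (.node (.leaf 172) (.leaf 428))) (.node (.node (.leaf 108) (.leaf 364)) (.node (.leaf 236) (.leaf 492))))))))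 (.node (.node (.node (.node (.node (.node (.node (.leaf 18) (.leaf 274)) (.node (.leaf 146) (.leaf 402))) (.node (.node (.leaf 82) (.leaf 338)) (.node (.leaf 210) (.leaf 466)))) (.node (.node (.node (.leaf 50) (.leaf 306)) (.node (.leaf 178) (.leaf 434))) (.node (.node (.leaf 114) (.leaf 370)) (.node (.leaf 242) (.leaf 498))))) (.node (.node (.node (.node (.leaf 2) (.leaf 258)) (.node (.leaf 130) (.leaf 386))) (.node (.node (.leaf 66) (.leaf 322)) (.node (.leaf 194) (.leaf 450)))) (.node (.node (.node (.leaf 34) (.leaf 290)) (.node (.leaf 162) (.leaf 418))) (.node (.node (.leaf 98) (.leaf 354)) (.node (.leaf 226) (.leaf 482)))))) (.node (.node (.node (.node (.node (.leaf 26) (.leaf 282)) (.node (.leaf 154) (.leaf 410))) (.node (.node (.leaf 90) (.leaf 346)) (.node (.leaf 218) (.leaf 474)))) (.node (.node (.node (.leaf 58) (.leaf 314)) (.node (.leaf 186) (.leaf 442))) (.node (.node (.leaf 122) (.leaf 378)) (.node (.leaf 250) (.leaf 506))))) (.node (.node (.node (.node (.leaf 10) (.leaf 266))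 (.node (.leaf 138) (.leaf 394))) (.node (.node (.leaf 74) (.leaf 330)) (.node (.leaf 202) (.leaf 458)))) (.node (.node (.node (.leaf 42) (.leaf 298)) (.node (.leaf 170) (.leaf 426))) (.node (.node (.leaf 106) (.leaf 362)) (.node (.leaf 234) (.leaf 490))))))) (.node (.node (.node (.node (.node (.node (.leaf 22) (.leaf 278)) (.node (.leaf 150) (.leaf 406))) (.node (.node (.leaf 86) (.leaf 342)) (.node (.leaf 214) (.leaf 470)))) (.node (.node (.node (.leaf 54) (.leaf 310)) (.node (.leaf 182) (.leaf 438))) (.node (.node (.leaf 118) (.leaf 374)) (.node (.leaf 246) (.leaf 502))))) (.node (.node (.node (.node (.leaf 6) (.leaf 262)) (.node (.leaf 134) (.leaf 390))) (.node (.node (.leaf 70) (.leaf 326)) (.node (.leaf 198) (.leaf 454)))) (.node (.node (.node (.leaf 38) (.leaf 294)) (.node (.leaf 166) (.leaf 422))) (.node (.node (.leaf 102) (.leaf 358)) (.node (.leaf 230) (.leaf 486)))))) (.node (.node (.node (.node (.node (.leaf 30) (.leaf 286)) (.node (.leaf 158) (.leaf 414))) (.node (.node (.leaf 94)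 (.leaf 350)) (.node (.leaf 222) (.leaf 478)))) (.node (.node (.node (.leaf 62) (.leaf 318)) (.node (.leaf 190) (.leaf 446))) (.node (.node (.leaf 126) (.leaf 382)) (.node (.leaf 254) (.leaf 510))))) (.node (.node (.node (.node (.leaf 14) (.leaf 270)) (.node (.leaf 142) (.leaf 398))) (.node (.node (.leaf 78) (.leaf 334)) (.node (.leaf 206) (.leaf 462)))) (.node (.node (.node (.leaf 46) (.leaf 302)) (.node (.leaf 174) (.leaf 430))) (.node (.node (.leaf 110) (.leaf 366)) (.node (.leaf 238) (.leaf 494))))))))) (.node (.node (.node (.node (.node (.node (.node (.node (.leaf 17) (.leaf 273)) (.node (.leaf 145) (.leaf 401))) (.node (.node (.leaf 81) (.leaf 337)) (.node (.leaf 209) (.leaf 465)))) (.node (.node (.node (.leaf 49) (.leaf 305)) (.node (.leaf 177) (.leaf 433))) (.node (.node (.leaf 113) (.leaf 369)) (.node (.leaf 241) (.leaf 497))))) (.node (.node (.node (.node (.leaf 1) (.leaf 257)) (.node (.leaf 129) (.leaf 385))) (.node (.node (.leaf 65) (.leaf 321)) (.node (.leaf 193) (.leaf 449))))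 (.node (.node (.node (.leaf 33) (.leaf 289)) (.node (.leaf 161) (.leaf 417))) (.node (.node (.leaf 97) (.leaf 353)) (.node (.leaf 225) (.leaf 481)))))) (.node (.node (.node (.node (.node (.leaf 25) (.leaf 281)) (.node (.leaf 153) (.leaf 409))) (.node (.node (.leaf 89) (.leaf 345)) (.node (.leaf 217) (.leaf 473)))) (.node (.node (.node (.leaf 57) (.leaf 313)) (.node (.leaf 185) (.leaf 441))) (.node (.node (.leaf 121) (.leaf 377)) (.node (.leaf 249) (.leaf 505))))) (.node (.node (.node (.node (.leaf 9) (.leaf 265)) (.node (.leaf 137) (.leaf 393))) (.node (.node (.leaf 73) (.leaf 329)) (.node (.leaf 201) (.leaf 457)))) (.node (.node (.node (.leaf 41) (.leaf 297)) (.node (.leaf 169) (.leaf 425))) (.node (.node (.leaf 105) (.leaf 361)) (.node (.leaf 233) (.leaf 489))))))) (.node (.node (.node (.node (.node (.node (.leaf 21) (.leaf 277)) (.node (.leaf 149) (.leaf 405))) (.node (.node (.leaf 85) (.leaf 341)) (.node (.leaf 213) (.leaf 469)))) (.node (.node (.node (.leaf 53) (.leaf 309)) (.node (.leaf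 181) (.leaf 437))) (.node (.node (.leaf 117) (.leaf 373)) (.node (.leaf 245) (.leaf 501))))) (.node (.node (.node (.node (.leaf 5) (.leaf 261)) (.node (.leaf 133) (.leaf 389))) (.node (.node (.leaf 69) (.leaf 325)) (.node (.leaf 197) (.leaf 453)))) (.node (.node (.node (.leaf 37) (.leaf 293)) (.node (.leaf 165) (.leaf 421))) (.node (.node (.leaf 101) (.leaf 357)) (.node (.leaf 229) (.leaf 485)))))) (.node (.node (.node (.node (.node (.leaf 29) (.leaf 285)) (.node (.leaf 157) (.leaf 413))) (.node (.node (.leaf 93) (.leaf 349)) (.node (.leaf 221) (.leaf 477)))) (.node (.node (.node (.leaf 61) (.leaf 317)) (.node (.leaf 189) (.leaf 445))) (.node (.node (.leaf 125) (.leaf 381)) (.node (.leaf 253) (.leaf 509))))) (.node (.node (.node (.node (.leaf 13) (.leaf 269)) (.node (.leaf 141) (.leaf 397))) (.node (.node (.leaf 77) (.leaf 333)) (.node (.leaf 205) (.leaf 461)))) (.node (.node (.node (.leaf 45) (.leaf 301)) (.node (.leaf 173) (.leaf 429))) (.node (.node (.leaf 109) (.leaf 365)) (.node (.leaf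 237) (.leaf 493)))))))) (.node (.node (.node (.node (.node (.node (.node (.leaf 19) (.leaf 275)) (.node (.leaf 147) (.leaf 403))) (.node (.node (.leaf 83) (.leaf 339)) (.node (.leaf 211) (.leaf 467)))) (.node (.node (.node (.leaf 51) (.leaf 307)) (.node (.leaf 179) (.leaf 435))) (.node (.node (.leaf 115) (.leaf 371)) (.node (.leaf 243) (.leaf 499))))) (.node (.node (.node (.node (.leaf 3) (.leaf 259)) (.node (.leaf 131) (.leaf 387))) (.node (.node (.leaf 67) (.leaf 323)) (.node (.leaf 195) (.leaf 451)))) (.node (.node (.node (.leaf 35) (.leaf 291)) (.node (.leaf 163) (.leaf 419))) (.node (.node (.leaf 99) (.leaf 355)) (.node (.leaf 227) (.leaf 483)))))) (.node (.node (.node (.node (.node (.leaf 27) (.leaf 283)) (.node (.leaf 155) (.leaf 411))) (.node (.node (.leaf 91) (.leaf 347)) (.node (.leaf 219) (.leaf 475)))) (.node (.node (.node (.leaf 59) (.leaf 315)) (.node (.leaf 187) (.leaf 443))) (.node (.node (.leaf 123) (.leaf 379)) (.node (.leaf 251) (.leaf 507))))) (.node (.node (.node (.node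 (.leaf 11) (.leaf 267)) (.node (.leaf 139) (.leaf 395))) (.node (.node (.leaf 75) (.leaf 331)) (.node (.leaf 203) (.leaf 459)))) (.node (.node (.node (.leaf 43) (.leaf 299)) (.node (.leaf 171) (.leaf 427))) (.node (.node (.leaf 107) (.leaf 363)) (.node (.leaf 235) (.leaf 491))))))) (.node (.node (.node (.node (.node (.node (.leaf 23) (.leaf 279)) (.node (.leaf 151) (.leaf 407))) (.node (.node (.leaf 87) (.leaf 343)) (.node (.leaf 215) (.leaf 471)))) (.node (.node (.node (.leaf 55) (.leaf 311)) (.node (.leaf 183) (.leaf 439))) (.node (.node (.leaf 119) (.leaf 375)) (.node (.leaf 247) (.leaf 503))))) (.node (.node (.node (.node (.leaf 7) (.leaf 263)) (.node (.leaf 135) (.leaf 391))) (.node (.node (.leaf 71) (.leaf 327)) (.node (.leaf 199) (.leaf 455)))) (.node (.node (.node (.leaf 39) (.leaf 295)) (.node (.leaf 167) (.leaf 423))) (.node (.node (.leaf 103) (.leaf 359)) (.node (.leaf 231) (.leaf 487)))))) (.node (.node (.node (.node (.node (.leaf 31) (.leaf 287)) (.node (.leaf 159) (.leaf 415)))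 (.node (.node (.leaf 95) (.leaf 351)) (.node (.leaf 223) (.leaf 479)))) (.node (.node (.node (.leaf 63) (.leaf 319)) (.node (.leaf 191) (.leaf 447))) (.node (.node (.leaf 127) (.leaf 383)) (.node (.leaf 255) (.leaf 511))))) (.node (.node (.node (.node (.leaf 15) (.leaf 271)) (.node (.leaf 143) (.leaf 399))) (.node (.node (.leaf 79) (.leaf 335)) (.node (.leaf 207) (.leaf 463)))) (.node (.node (.node (.leaf 47) (.leaf 303)) (.node (.leaf 175) (.leaf 431))) (.node (.node (.leaf 111) (.leaf 367)) (.node (.leaf 239) (.leaf 495)))))))))),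
  (.node (.node (.node (.node (.node (.node (.node (.node (.node (.leaf 32) (.leaf 288)) (.node (.leaf 160) (.leaf 416))) (.node (.node (.leaf 96) (.leaf 352)) (.node (.leaf 224) (.leaf 480)))) (.node (.node (.node (.leaf 0) (.leaf 256)) (.node (.leaf 128) (.leaf 384))) (.node (.node (.leaf 64) (.leaf 320)) (.node (.leaf 192) (.leaf 448))))) (.node (.node (.node (.node (.leaf 48) (.leaf 304)) (.node (.leaf 176) (.leaf 432))) (.node (.node (.leaf 112) (.leaf 368)) (.node (.leaf 240) (.leaf 496)))) (.node (.node (.node (.leaf 16) (.leaf 272)) (.node (.leaf 144) (.leaf 400))) (.node (.node (.leaf 80) (.leaf 336)) (.node (.leaf 208) (.leaf 464)))))) (.node (.node (.node (.node (.node (.leaf 40) (.leaf 296)) (.node (.leaf 168) (.leaf 424))) (.node (.node (.leaf 104) (.leaf 360)) (.node (.leaf 232) (.leaf 488)))) (.node (.node (.node (.leaf 8) (.leaf 264)) (.node (.leaf 136) (.leaf 392))) (.node (.node (.leaf 72) (.leaf 328)) (.node (.leaf 200) (.leaf 456))))) (.node (.node (.node (.node (.leaf 56)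 (.leaf 312)) (.node (.leaf 184) (.leaf 440))) (.node (.node (.leaf 120) (.leaf 376)) (.node (.leaf 248) (.leaf 504)))) (.node (.node (.node (.leaf 24) (.leaf 280)) (.node (.leaf 152) (.leaf 408))) (.node (.node (.leaf 88) (.leaf 344)) (.node (.leaf 216) (.leaf 472))))))) (.node (.node (.node (.node (.node (.node (.leaf 36) (.leaf 292)) (.node (.leaf 164) (.leaf 420))) (.node (.node (.leaf 100) (.leaf 356)) (.node (.leaf 228) (.leaf 484)))) (.node (.node (.node (.leaf 4) (.leaf 260)) (.node (.leaf 132) (.leaf 388))) (.node (.node (.leaf 68) (.leaf 324)) (.node (.leaf 196) (.leaf 452))))) (.node (.node (.node (.node (.leaf 52) (.leaf 308)) (.node (.leaf 180) (.leaf 436))) (.node (.node (.leaf 116) (.leaf 372)) (.node (.leaf 244) (.leaf 500)))) (.node (.node (.node (.leaf 20) (.leaf 276)) (.node (.leaf 148) (.leaf 404))) (.node (.node (.leaf 84) (.leaf 340)) (.node (.leaf 212) (.leaf 468)))))) (.node (.node (.node (.node (.node (.leaf 44) (.leaf 300)) (.node (.leaf 172) (.leaf 428))) (.node (.node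 (.leaf 108) (.leaf 364)) (.node (.leaf 236) (.leaf 492)))) (.node (.node (.node (.leaf 12) (.leaf 268)) (.node (.leaf 140) (.leaf 396))) (.node (.node (.leaf 76) (.leaf 332)) (.node (.leaf 204) (.leaf 460))))) (.node (.node (.node (.node (.leaf 60) (.leaf 316)) (.node (.leaf 188) (.leaf 444))) (.node (.node (.leaf 124) (.leaf 380)) (.node (.leaf 252) (.leaf 508)))) (.node (.node (.node (.leaf 28) (.leaf 284)) (.node (.leaf 156) (.leaf 412))) (.node (.node (.leaf 92) (.leaf 348)) (.node (.leaf 220) (.leaf 476)))))))) (.node (.node (.node (.node (.node (.node (.node (.leaf 34) (.leaf 290)) (.node (.leaf 162) (.leaf 418))) (.node (.node (.leaf 98) (.leaf 354)) (.node (.leaf 226) (.leaf 482)))) (.node (.node (.node (.leaf 2) (.leaf 258)) (.node (.leaf 130) (.leaf 386))) (.node (.node (.leaf 66) (.leaf 322)) (.node (.leaf 194) (.leaf 450))))) (.node (.node (.node (.node (.leaf 50) (.leaf 306)) (.node (.leaf 178) (.leaf 434))) (.node (.node (.leaf 114) (.leaf 370)) (.node (.leaf 242) (.leaf 498))))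 (.node (.node (.node (.leaf 18) (.leaf 274)) (.node (.leaf 146) (.leaf 402))) (.node (.node (.leaf 82) (.leaf 338)) (.node (.leaf 210) (.leaf 466)))))) (.node (.node (.node (.node (.node (.leaf 42) (.leaf 298)) (.node (.leaf 170) (.leaf 426))) (.node (.node (.leaf 106) (.leaf 362)) (.node (.leaf 234) (.leaf 490)))) (.node (.node (.node (.leaf 10) (.leaf 266)) (.node (.leaf 138) (.leaf 394))) (.node (.node (.leaf 74) (.leaf 330)) (.node (.leaf 202) (.leaf 458))))) (.node (.node (.node (.node (.leaf 58) (.leaf 314)) (.node (.leaf 186) (.leaf 442))) (.node (.node (.leaf 122) (.leaf 378)) (.node (.leaf 250) (.leaf 506)))) (.node (.node (.node (.leaf 26) (.leaf 282)) (.node (.leaf 154) (.leaf 410))) (.node (.node (.leaf 90) (.leaf 346)) (.node (.leaf 218) (.leaf 474))))))) (.node (.node (.node (.node (.node (.node (.leaf 38) (.leaf 294)) (.node (.leaf 166) (.leaf 422))) (.node (.node (.leaf 102) (.leaf 358)) (.node (.leaf 230) (.leaf 486)))) (.node (.node (.node (.leaf 6) (.leaf 262)) (.node (.leaf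 134) (.leaf 390))) (.node (.node (.leaf 70) (.leaf 326)) (.node (.leaf 198) (.leaf 454))))) (.node (.node (.node (.node (.leaf 54) (.leaf 310)) (.node (.leaf 182) (.leaf 438))) (.node (.node (.leaf 118) (.leaf 374)) (.node (.leaf 246) (.leaf 502)))) (.node (.node (.node (.leaf 22) (.leaf 278)) (.node (.leaf 150) (.leaf 406))) (.node (.node (.leaf 86) (.leaf 342)) (.node (.leaf 214) (.leaf 470)))))) (.node (.node (.node (.node (.node (.leaf 46) (.leaf 302)) (.node (.leaf 174) (.leaf 430))) (.node (.node (.leaf 110) (.leaf 366)) (.node (.leaf 238) (.leaf 494)))) (.node (.node (.node (.leaf 14) (.leaf 270)) (.node (.leaf 142) (.leaf 398))) (.node (.node (.leaf 78) (.leaf 334)) (.node (.leaf 206) (.leaf 462))))) (.node (.node (.node (.node (.leaf 62) (.leaf 318)) (.node (.leaf 190) (.leaf 446))) (.node (.node (.leaf 126) (.leaf 382)) (.node (.leaf 254) (.leaf 510)))) (.node (.node (.node (.leaf 30) (.leaf 286)) (.node (.leaf 158) (.leaf 414))) (.node (.node (.leaf 94) (.leaf 350)) (.node (.leaf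 222) (.leaf 478))))))))) (.node (.node (.node (.node (.node (.node (.node (.node (.leaf 33) (.leaf 289)) (.node (.leaf 161) (.leaf 417))) (.node (.node (.leaf 97) (.leaf 353)) (.node (.leaf 225) (.leaf 481)))) (.node (.node (.node (.leaf 1) (.leaf 257)) (.node (.leaf 129) (.leaf 385))) (.node (.node (.leaf 65) (.leaf 321)) (.node (.leaf 193) (.leaf 449))))) (.node (.node (.node (.node (.leaf 49) (.leaf 305)) (.node (.leaf 177) (.leaf 433))) (.node (.node (.leaf 113) (.leaf 369)) (.node (.leaf 241) (.leaf 497)))) (.node (.node (.node (.leaf 17) (.leaf 273)) (.node (.leaf 145) (.leaf 401))) (.node (.node (.leaf 81) (.leaf 337)) (.node (.leaf 209) (.leaf 465)))))) (.node (.node (.node (.node (.node (.leaf 41) (.leaf 297)) (.node (.leaf 169) (.leaf 425))) (.node (.node (.leaf 105) (.leaf 361)) (.node (.leaf 233) (.leaf 489)))) (.node (.node (.node (.leaf 9) (.leaf 265)) (.node (.leaf 137) (.leaf 393))) (.node (.node (.leaf 73) (.leaf 329)) (.node (.leaf 201) (.leaf 457))))) (.node (.node (.node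 (.node (.leaf 57) (.leaf 313)) (.node (.leaf 185) (.leaf 441))) (.node (.node (.leaf 121) (.leaf 377)) (.node (.leaf 249) (.leaf 505)))) (.node (.node (.node (.leaf 25) (.leaf 281)) (.node (.leaf 153) (.leaf 409))) (.node (.node (.leaf 89) (.leaf 345)) (.node (.leaf 217) (.leaf 473))))))) (.node (.node (.node (.node (.node (.node (.leaf 37) (.leaf 293)) (.node (.leaf 165) (.leaf 421))) (.node (.node (.leaf 101) (.leaf 357)) (.node (.leaf 229) (.leaf 485)))) (.node (.node (.node (.leaf 5) (.leaf 261)) (.node (.leaf 133) (.leaf 389))) (.node (.node (.leaf 69) (.leaf 325)) (.node (.leaf 197) (.leaf 453))))) (.node (.node (.node (.node (.leaf 53) (.leaf 309)) (.node (.leaf 181) (.leaf 437))) (.node (.node (.leaf 117) (.leaf 373)) (.node (.leaf 245) (.leaf 501)))) (.node (.node (.node (.leaf 21) (.leaf 277)) (.node (.leaf 149) (.leaf 405))) (.node (.node (.leaf 85) (.leaf 341)) (.node (.leaf 213) (.leaf 469)))))) (.node (.node (.node (.node (.node (.leaf 45) (.leaf 301)) (.node (.leaf 173) (.leaf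 429))) (.node (.node (.leaf 109) (.leaf 365)) (.node (.leaf 237) (.leaf 493)))) (.node (.node (.node (.leaf 13) (.leaf 269)) (.node (.leaf 141) (.leaf 397))) (.node (.node (.leaf 77) (.leaf 333)) (.node (.leaf 205) (.leaf 461))))) (.node (.node (.node (.node (.leaf 61) (.leaf 317)) (.node (.leaf 189) (.leaf 445))) (.node (.node (.leaf 125) (.leaf 381)) (.node (.leaf 253) (.leaf 509)))) (.node (.node (.node (.leaf 29) (.leaf 285)) (.node (.leaf 157) (.leaf 413))) (.node (.node (.leaf 93) (.leaf 349)) (.node (.leaf 221) (.leaf 477)))))))) (.node (.node (.node (.node (.node (.node (.node (.leaf 35) (.leaf 291)) (.node (.leaf 163) (.leaf 419))) (.node (.node (.leaf 99) (.leaf 355)) (.node (.leaf 227) (.leaf 483)))) (.node (.node (.node (.leaf 3) (.leaf 259)) (.node (.leaf 131) (.leaf 387))) (.node (.node (.leaf 67) (.leaf 323)) (.node (.leaf 195) (.leaf 451))))) (.node (.node (.node (.node (.leaf 51) (.leaf 307)) (.node (.leaf 179) (.leaf 435))) (.node (.node (.leaf 115) (.leaf 371)) (.node (.leaf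 243) (.leaf 499)))) (.node (.node (.node (.leaf 19) (.leaf 275)) (.node (.leaf 147) (.leaf 403))) (.node (.node (.leaf 83) (.leaf 339)) (.node (.leaf 211) (.leaf 467)))))) (.node (.node (.node (.node (.node (.leaf 43) (.leaf 299)) (.node (.leaf 171) (.leaf 427))) (.node (.node (.leaf 107) (.leaf 363)) (.node (.leaf 235) (.leaf 491)))) (.node (.node (.node (.leaf 11) (.leaf 267)) (.node (.leaf 139) (.leaf 395))) (.node (.node (.leaf 75) (.leaf 331)) (.node (.leaf 203) (.leaf 459))))) (.node (.node (.node (.node (.leaf 59) (.leaf 315)) (.node (.leaf 187) (.leaf 443))) (.node (.node (.leaf 123) (.leaf 379)) (.node (.leaf 251) (.leaf 507)))) (.node (.node (.node (.leaf 27) (.leaf 283)) (.node (.leaf 155) (.leaf 411))) (.node (.node (.leaf 91) (.leaf 347)) (.node (.leaf 219) (.leaf 475))))))) (.node (.node (.node (.node (.node (.node (.leaf 39) (.leaf 295)) (.node (.leaf 167) (.leaf 423))) (.node (.node (.leaf 103) (.leaf 359)) (.node (.leaf 231) (.leaf 487)))) (.node (.node (.node (.leaf 7) (.leaf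 263)) (.node (.leaf 135) (.leaf 391))) (.node (.node (.leaf 71) (.leaf 327)) (.node (.leaf 199) (.leaf 455))))) (.node (.node (.node (.node (.leaf 55) (.leaf 311)) (.node (.leaf 183) (.leaf 439))) (.node (.node (.leaf 119) (.leaf 375)) (.node (.leaf 247) (.leaf 503)))) (.node (.node (.node (.leaf 23) (.leaf 279)) (.node (.leaf 151) (.leaf 407))) (.node (.node (.leaf 87) (.leaf 343)) (.node (.leaf 215) (.leaf 471)))))) (.node (.node (.node (.node (.node (.leaf 47) (.leaf 303)) (.node (.leaf 175) (.leaf 431))) (.node (.node (.leaf 111) (.leaf 367)) (.node (.leaf 239) (.leaf 495)))) (.node (.node (.node (.leaf 15) (.leaf 271)) (.node (.leaf 143) (.leaf 399))) (.node (.node (.leaf 79) (.leaf 335)) (.node (.leaf 207) (.leaf 463))))) (.node (.node (.node (.node (.leaf 63) (.leaf 319)) (.node (.leaf 191) (.leaf 447))) (.node (.node (.leaf 127) (.leaf 383)) (.node (.leaf 255) (.leaf 511)))) (.node (.node (.node (.leaf 31) (.leaf 287)) (.node (.leaf 159) (.leaf 415))) (.node (.node (.leaf 95) (.leaf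 351)) (.node (.leaf 223) (.leaf 479)))))))))),
  (.node (.node (.node (.node (.node (.node (.node (.node (.node (.leaf 64) (.leaf 320)) (.node (.leaf 192) (.leaf 448))) (.node (.node (.leaf 0) (.leaf 256)) (.node (.leaf 128) (.leaf 384)))) (.node (.node (.node (.leaf 96) (.leaf 352)) (.node (.leaf 224) (.leaf 480))) (.node (.node (.leaf 32) (.leaf 288)) (.node (.leaf 160) (.leaf 416))))) (.node (.node (.node (.node (.leaf 80) (.leaf 336)) (.node (.leaf 208) (.leaf 464))) (.node (.node (.leaf 16) (.leaf 272)) (.node (.leaf 144) (.leaf 400)))) (.node (.node (.node (.leaf 112) (.leaf 368)) (.node (.leaf 240) (.leaf 496))) (.node (.node (.leaf 48) (.leaf 304)) (.node (.leaf 176) (.leaf 432)))))) (.node (.node (.node (.node (.node (.leaf 72) (.leaf 328)) (.node (.leaf 200) (.leaf 456))) (.node (.node (.leaf 8) (.leaf 264)) (.node (.leaf 136) (.leaf 392)))) (.node (.node (.node (.leaf 104) (.leaf 360)) (.node (.leaf 232) (.leaf 488))) (.node (.node (.leaf 40) (.leaf 296)) (.node (.leaf 168) (.leaf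 424))))) (.node (.node (.node (.node (.leaf 88) (.leaf 344)) (.node (.leaf 216) (.leaf 472))) (.node (.node (.leaf 24) (.leaf 280)) (.node (.leaf 152) (.leaf 408)))) (.node (.node (.node (.leaf 120) (.leaf 376)) (.node (.leaf 248) (.leaf 504))) (.node (.node (.leaf 56) (.leaf 312)) (.node (.leaf 184) (.leaf 440))))))) (.node (.node (.node (.node (.node (.node (.leaf 68) (.leaf 324)) (.node (.leaf 196) (.leaf 452))) (.node (.node (.leaf 4) (.leaf 260)) (.node (.leaf 132) (.leaf 388)))) (.node (.node (.node (.leaf 100) (.leaf 356)) (.node (.leaf 228) (.leaf 484))) (.node (.node (.leaf 36) (.leaf 292)) (.node (.leaf 164) (.leaf 420))))) (.node (.node (.node (.node (.leaf 84) (.leaf 340)) (.node (.leaf 212) (.leaf 468))) (.node (.node (.leaf 20) (.leaf 276)) (.node (.leaf 148) (.leaf 404)))) (.node (.node (.node (.leaf 116) (.leaf 372)) (.node (.leaf 244) (.leaf 500))) (.node (.node (.leaf 52) (.leaf 308)) (.node (.leaf 180) (.leaf 436)))))) (.node (.node (.node (.node (.node (.leaf 76) (.leaf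 332)) (.node (.leaf 204) (.leaf 460))) (.node (.node (.leaf 12) (.leaf 268)) (.node (.leaf 140) (.leaf 396)))) (.node (.node (.node (.leaf 108) (.leaf 364)) (.node (.leaf 236) (.leaf 492))) (.node (.node (.leaf 44) (.leaf 300)) (.node (.leaf 172) (.leaf 428))))) (.node (.node (.node (.node (.leaf 92) (.leaf 348)) (.node (.leaf 220) (.leaf 476))) (.node (.node (.leaf 28) (.leaf 284)) (.node (.leaf 156) (.leaf 412)))) (.node (.node (.node (.leaf 124) (.leaf 380)) (.node (.leaf 252) (.leaf 508))) (.node (.node (.leaf 60) (.leaf 316)) (.node (.leaf 188) (.leaf 444)))))))) (.node (.node (.node (.node (.node (.node (.node (.leaf 66) (.leaf 322)) (.node (.leaf 194) (.leaf 450))) (.node (.node (.leaf 2) (.leaf 258)) (.node (.leaf 130) (.leaf 386)))) (.node (.node (.node (.leaf 98) (.leaf 354)) (.node (.leaf 226) (.leaf 482))) (.node (.node (.leaf 34) (.leaf 290)) (.node (.leaf 162) (.leaf 418))))) (.node (.node (.node (.node (.leaf 82) (.leaf 338)) (.node (.leaf 210) (.leaf 466))) (.node (.node (.leaf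 18) (.leaf 274)) (.node (.leaf 146) (.leaf 402)))) (.node (.node (.node (.leaf 114) (.leaf 370)) (.node (.leaf 242) (.leaf 498))) (.node (.node (.leaf 50) (.leaf 306)) (.node (.leaf 178) (.leaf 434)))))) (.node (.node (.node (.node (.node (.leaf 74) (.leaf 330)) (.node (.leaf 202) (.leaf 458))) (.node (.node (.leaf 10) (.leaf 266)) (.node (.leaf 138) (.leaf 394)))) (.node (.node (.node (.leaf 106) (.leaf 362)) (.node (.leaf 234) (.leaf 490))) (.node (.node (.leaf 42) (.leaf 298)) (.node (.leaf 170) (.leaf 426))))) (.node (.node (.node (.node (.leaf 90) (.leaf 346)) (.node (.leaf 218) (.leaf 474))) (.node (.node (.leaf 26) (.leaf 282)) (.node (.leaf 154) (.leaf 410)))) (.node (.node (.node (.leaf 122) (.leaf 378)) (.node (.leaf 250) (.leaf 506))) (.node (.node (.leaf 58) (.leaf 314)) (.node (.leaf 186) (.leaf 442))))))) (.node (.node (.node (.node (.node (.node (.leaf 70) (.leaf 326)) (.node (.leaf 198) (.leaf 454))) (.node (.node (.leaf 6) (.leaf 262)) (.node (.leaf 134) (.leaf 390)))) (.node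 (.node (.node (.leaf 102) (.leaf 358)) (.node (.leaf 230) (.leaf 486))) (.node (.node (.leaf 38) (.leaf 294)) (.node (.leaf 166) (.leaf 422))))) (.node (.node (.node (.node (.leaf 86) (.leaf 342)) (.node (.leaf 214) (.leaf 470))) (.node (.node (.leaf 22) (.leaf 278)) (.node (.leaf 150) (.leaf 406)))) (.node (.node (.node (.leaf 118) (.leaf 374)) (.node (.leaf 246) (.leaf 502))) (.node (.node (.leaf 54) (.leaf 310)) (.node (.leaf 182) (.leaf 438)))))) (.node (.node (.node (.node (.node (.leaf 78) (.leaf 334)) (.node (.leaf 206) (.leaf 462))) (.node (.node (.leaf 14) (.leaf 270)) (.node (.leaf 142) (.leaf 398)))) (.node (.node (.node (.leaf 110) (.leaf 366)) (.node (.leaf 238) (.leaf 494))) (.node (.node (.leaf 46) (.leaf 302)) (.node (.leaf 174) (.leaf 430))))) (.node (.node (.node (.node (.leaf 94) (.leaf 350)) (.node (.leaf 222) (.leaf 478))) (.node (.node (.leaf 30) (.leaf 286)) (.node (.leaf 158) (.leaf 414)))) (.node (.node (.node (.leaf 126) (.leaf 382)) (.node (.leaf 254) (.leaf 510)))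 (.node (.node (.leaf 62) (.leaf 318)) (.node (.leaf 190) (.leaf 446))))))))) (.node (.node (.node (.node (.node (.node (.node (.node (.leaf 65) (.leaf 321)) (.node (.leaf 193) (.leaf 449))) (.node (.node (.leaf 1) (.leaf 257)) (.node (.leaf 129) (.leaf 385)))) (.node (.node (.node (.leaf 97) (.leaf 353)) (.node (.leaf 225) (.leaf 481))) (.node (.node (.leaf 33) (.leaf 289)) (.node (.leaf 161) (.leaf 417))))) (.node (.node (.node (.node (.leaf 81) (.leaf 337)) (.node (.leaf 209) (.leaf 465))) (.node (.node (.leaf 17) (.leaf 273)) (.node (.leaf 145) (.leaf 401)))) (.node (.node (.node (.leaf 113) (.leaf 369)) (.node (.leaf 241) (.leaf 497))) (.node (.node (.leaf 49) (.leaf 305)) (.node (.leaf 177) (.leaf 433)))))) (.node (.node (.node (.node (.node (.leaf 73) (.leaf 329)) (.node (.leaf 201) (.leaf 457))) (.node (.node (.leaf 9) (.leaf 265)) (.node (.leaf 137) (.leaf 393)))) (.node (.node (.node (.leaf 105) (.leaf 361)) (.node (.leaf 233) (.leaf 489))) (.node (.node (.leaf 41) (.leaf 297)) (.node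 (.leaf 169) (.leaf 425))))) (.node (.node (.node (.node (.leaf 89) (.leaf 345)) (.node (.leaf 217) (.leaf 473))) (.node (.node (.leaf 25) (.leaf 281)) (.node (.leaf 153) (.leaf 409)))) (.node (.node (.node (.leaf 121) (.leaf 377)) (.node (.leaf 249) (.leaf 505))) (.node (.node (.leaf 57) (.leaf 313)) (.node (.leaf 185) (.leaf 441))))))) (.node (.node (.node (.node (.node (.node (.leaf 69) (.leaf 325)) (.node (.leaf 197) (.leaf 453))) (.node (.node (.leaf 5) (.leaf 261)) (.node (.leaf 133) (.leaf 389)))) (.node (.node (.node (.leaf 101) (.leaf 357)) (.node (.leaf 229) (.leaf 485))) (.node (.node (.leaf 37) (.leaf 293)) (.node (.leaf 165) (.leaf 421))))) (.node (.node (.node (.node (.leaf 85) (.leaf 341)) (.node (.leaf 213) (.leaf 469))) (.node (.node (.leaf 21) (.leaf 277)) (.node (.leaf 149) (.leaf 405)))) (.node (.node (.node (.leaf 117) (.leaf 373)) (.node (.leaf 245) (.leaf 501))) (.node (.node (.leaf 53) (.leaf 309)) (.node (.leaf 181) (.leaf 437)))))) (.node (.node (.node (.node (.node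 (.leaf 77) (.leaf 333)) (.node (.leaf 205) (.leaf 461))) (.node (.node (.leaf 13) (.leaf 269)) (.node (.leaf 141) (.leaf 397)))) (.node (.node (.node (.leaf 109) (.leaf 365)) (.node (.leaf 237) (.leaf 493))) (.node (.node (.leaf 45) (.leaf 301)) (.node (.leaf 173) (.leaf 429))))) (.node (.node (.node (.node (.leaf 93) (.leaf 349)) (.node (.leaf 221) (.leaf 477))) (.node (.node (.leaf 29) (.leaf 285)) (.node (.leaf 157) (.leaf 413)))) (.node (.node (.node (.leaf 125) (.leaf 381)) (.node (.leaf 253) (.leaf 509))) (.node (.node (.leaf 61) (.leaf 317)) (.node (.leaf 189) (.leaf 445)))))))) (.node (.node (.node (.node (.node (.node (.node (.leaf 67) (.leaf 323)) (.node (.leaf 195) (.leaf 451))) (.node (.node (.leaf 3) (.leaf 259)) (.node (.leaf 131) (.leaf 387)))) (.node (.node (.node (.leaf 99) (.leaf 355)) (.node (.leaf 227) (.leaf 483))) (.node (.node (.leaf 35) (.leaf 291)) (.node (.leaf 163) (.leaf 419))))) (.node (.node (.node (.node (.leaf 83) (.leaf 339)) (.node (.leaf 211) (.leaf 467)))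 (.node (.node (.leaf 19) (.leaf 275)) (.node (.leaf 147) (.leaf 403)))) (.node (.node (.node (.leaf 115) (.leaf 371)) (.node (.leaf 243) (.leaf 499))) (.node (.node (.leaf 51) (.leaf 307)) (.node (.leaf 179) (.leaf 435)))))) (.node (.node (.node (.node (.node (.leaf 75) (.leaf 331)) (.node (.leaf 203) (.leaf 459))) (.node (.node (.leaf 11) (.leaf 267)) (.node (.leaf 139) (.leaf 395)))) (.node (.node (.node (.leaf 107) (.leaf 363)) (.node (.leaf 235) (.leaf 491))) (.node (.node (.leaf 43) (.leaf 299)) (.node (.leaf 171) (.leaf 427))))) (.node (.node (.node (.node (.leaf 91) (.leaf 347)) (.node (.leaf 219) (.leaf 475))) (.node (.node (.leaf 27) (.leaf 283)) (.node (.leaf 155) (.leaf 411)))) (.node (.node (.node (.leaf 123) (.leaf 379)) (.node (.leaf 251) (.leaf 507))) (.node (.node (.leaf 59) (.leaf 315)) (.node (.leaf 187) (.leaf 443))))))) (.node (.node (.node (.node (.node (.node (.leaf 71) (.leaf 327)) (.node (.leaf 199) (.leaf 455))) (.node (.node (.leaf 7) (.leaf 263)) (.node (.leaf 135)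 (.leaf 391)))) (.node (.node (.node (.leaf 103) (.leaf 359)) (.node (.leaf 231) (.leaf 487))) (.node (.node (.leaf 39) (.leaf 295)) (.node (.leaf 167) (.leaf 423))))) (.node (.node (.node (.node (.leaf 87) (.leaf 343)) (.node (.leaf 215) (.leaf 471))) (.node (.node (.leaf 23) (.leaf 279)) (.node (.leaf 151) (.leaf 407)))) (.node (.node (.node (.leaf 119) (.leaf 375)) (.node (.leaf 247) (.leaf 503))) (.node (.node (.leaf 55) (.leaf 311)) (.node (.leaf 183) (.leaf 439)))))) (.node (.node (.node (.node (.node (.leaf 79) (.leaf 335)) (.node (.leaf 207) (.leaf 463))) (.node (.node (.leaf 15) (.leaf 271)) (.node (.leaf 143) (.leaf 399)))) (.node (.node (.node (.leaf 111) (.leaf 367)) (.node (.leaf 239) (.leaf 495))) (.node (.node (.leaf 47) (.leaf 303)) (.node (.leaf 175) (.leaf 431))))) (.node (.node (.node (.node (.leaf 95) (.leaf 351)) (.node (.leaf 223) (.leaf 479))) (.node (.node (.leaf 31) (.leaf 287)) (.node (.leaf 159) (.leaf 415)))) (.node (.node (.node (.leaf 127) (.leaf 383)) (.node (.leaf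 255) (.leaf 511))) (.node (.node (.leaf 63) (.leaf 319)) (.node (.leaf 191) (.leaf 447)))))))))),
  (.node (.node (.node (.node (.node (.node (.node (.node (.node (.leaf 128) (.leaf 384)) (.node (.leaf 0) (.leaf 256))) (.node (.node (.leaf 192) (.leaf 448)) (.node (.leaf 64) (.leaf 320)))) (.node (.node (.node (.leaf 160) (.leaf 416)) (.node (.leaf 32) (.leaf 288))) (.node (.node (.leaf 224) (.leaf 480)) (.node (.leaf 96) (.leaf 352))))) (.node (.node (.node (.node (.leaf 144) (.leaf 400)) (.node (.leaf 16) (.leaf 272))) (.node (.node (.leaf 208) (.leaf 464)) (.node (.leaf 80) (.leaf 336)))) (.node (.node (.node (.leaf 176) (.leaf 432)) (.node (.leaf 48) (.leaf 304))) (.node (.node (.leaf 240) (.leaf 496)) (.node (.leaf 112) (.leaf 368)))))) (.node (.node (.node (.node (.node (.leaf 136) (.leaf 392)) (.node (.leaf 8) (.leaf 264))) (.node (.node (.leaf 200) (.leaf 456)) (.node (.leaf 72) (.leaf 328)))) (.node (.node (.node (.leaf 168) (.leaf 424)) (.node (.leaf 40) (.leaf 296))) (.node (.node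 (.leaf 232) (.leaf 488)) (.node (.leaf 104) (.leaf 360))))) (.node (.node (.node (.node (.leaf 152) (.leaf 408)) (.node (.leaf 24) (.leaf 280))) (.node (.node (.leaf 216) (.leaf 472)) (.node (.leaf 88) (.leaf 344)))) (.node (.node (.node (.leaf 184) (.leaf 440)) (.node (.leaf 56) (.leaf 312))) (.node (.node (.leaf 248) (.leaf 504)) (.node (.leaf 120) (.leaf 376))))))) (.node (.node (.node (.node (.node (.node (.leaf 132) (.leaf 388)) (.node (.leaf 4) (.leaf 260))) (.node (.node (.leaf 196) (.leaf 452)) (.node (.leaf 68) (.leaf 324)))) (.node (.node (.node (.leaf 164) (.leaf 420)) (.node (.leaf 36) (.leaf 292))) (.node (.node (.leaf 228) (.leaf 484)) (.node (.leaf 100) (.leaf 356))))) (.node (.node (.node (.node (.leaf 148) (.leaf 404)) (.node (.leaf 20) (.leaf 276))) (.node (.node (.leaf 212) (.leaf 468)) (.node (.leaf 84) (.leaf 340)))) (.node (.node (.node (.leaf 180) (.leaf 436)) (.node (.leaf 52) (.leaf 308))) (.node (.node (.leaf 244) (.leaf 500)) (.node (.leaf 116) (.leaf 372)))))) (.node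 (.node (.node (.node (.node (.leaf 140) (.leaf 396)) (.node (.leaf 12) (.leaf 268))) (.node (.node (.leaf 204) (.leaf 460)) (.node (.leaf 76) (.leaf 332)))) (.node (.node (.node (.leaf 172) (.leaf 428)) (.node (.leaf 44) (.leaf 300))) (.node (.node (.leaf 236) (.leaf 492)) (.node (.leaf 108) (.leaf 364))))) (.node (.node (.node (.node (.leaf 156) (.leaf 412)) (.node (.leaf 28) (.leaf 284))) (.node (.node (.leaf 220) (.leaf 476)) (.node (.leaf 92) (.leaf 348)))) (.node (.node (.node (.leaf 188) (.leaf 444)) (.node (.leaf 60) (.leaf 316))) (.node (.node (.leaf 252) (.leaf 508)) (.node (.leaf 124) (.leaf 380)))))))) (.node (.node (.node (.node (.node (.node (.node (.leaf 130) (.leaf 386)) (.node (.leaf 2) (.leaf 258))) (.node (.node (.leaf 194) (.leaf 450)) (.node (.leaf 66) (.leaf 322)))) (.node (.node (.node (.leaf 162) (.leaf 418)) (.node (.leaf 34) (.leaf 290))) (.node (.node (.leaf 226) (.leaf 482)) (.node (.leaf 98) (.leaf 354))))) (.node (.node (.node (.node (.leaf 146) (.leaf 402)) (.node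 (.leaf 18) (.leaf 274))) (.node (.node (.leaf 210) (.leaf 466)) (.node (.leaf 82) (.leaf 338)))) (.node (.node (.node (.leaf 178) (.leaf 434)) (.node (.leaf 50) (.leaf 306))) (.node (.node (.leaf 242) (.leaf 498)) (.node (.leaf 114) (.leaf 370)))))) (.node (.node (.node (.node (.node (.leaf 138) (.leaf 394)) (.node (.leaf 10) (.leaf 266))) (.node (.node (.leaf 202) (.leaf 458)) (.node (.leaf 74) (.leaf 330)))) (.node (.node (.node (.leaf 170) (.leaf 426)) (.node (.leaf 42) (.leaf 298))) (.node (.node (.leaf 234) (.leaf 490)) (.node (.leaf 106) (.leaf 362))))) (.node (.node (.node (.node (.leaf 154) (.leaf 410)) (.node (.leaf 26) (.leaf 282))) (.node (.node (.leaf 218) (.leaf 474)) (.node (.leaf 90) (.leaf 346)))) (.node (.node (.node (.leaf 186) (.leaf 442)) (.node (.leaf 58) (.leaf 314))) (.node (.node (.leaf 250) (.leaf 506)) (.node (.leaf 122) (.leaf 378))))))) (.node (.node (.node (.node (.node (.node (.leaf 134) (.leaf 390)) (.node (.leaf 6) (.leaf 262))) (.node (.node (.leaf 198) (.leaf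 454)) (.node (.leaf 70) (.leaf 326)))) (.node (.node (.node (.leaf 166) (.leaf 422)) (.node (.leaf 38) (.leaf 294))) (.node (.node (.leaf 230) (.leaf 486)) (.node (.leaf 102) (.leaf 358))))) (.node (.node (.node (.node (.leaf 150) (.leaf 406)) (.node (.leaf 22) (.leaf 278))) (.node (.node (.leaf 214) (.leaf 470)) (.node (.leaf 86) (.leaf 342)))) (.node (.node (.node (.leaf 182) (.leaf 438)) (.node (.leaf 54) (.leaf 310))) (.node (.node (.leaf 246) (.leaf 502)) (.node (.leaf 118) (.leaf 374)))))) (.node (.node (.node (.node (.node (.leaf 142) (.leaf 398)) (.node (.leaf 14) (.leaf 270))) (.node (.node (.leaf 206) (.leaf 462)) (.node (.leaf 78) (.leaf 334)))) (.node (.node (.node (.leaf 174) (.leaf 430)) (.node (.leaf 46) (.leaf 302))) (.node (.node (.leaf 238) (.leaf 494)) (.node (.leaf 110) (.leaf 366))))) (.node (.node (.node (.node (.leaf 158) (.leaf 414)) (.node (.leaf 30) (.leaf 286))) (.node (.node (.leaf 222) (.leaf 478)) (.node (.leaf 94) (.leaf 350)))) (.node (.node (.node (.leaf 190)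 (.leaf 446)) (.node (.leaf 62) (.leaf 318))) (.node (.node (.leaf 254) (.leaf 510)) (.node (.leaf 126) (.leaf 382))))))))) (.node (.node (.node (.node (.node (.node (.node (.node (.leaf 129) (.leaf 385)) (.node (.leaf 1) (.leaf 257))) (.node (.node (.leaf 193) (.leaf 449)) (.node (.leaf 65) (.leaf 321)))) (.node (.node (.node (.leaf 161) (.leaf 417)) (.node (.leaf 33) (.leaf 289))) (.node (.node (.leaf 225) (.leaf 481)) (.node (.leaf 97) (.leaf 353))))) (.node (.node (.node (.node (.leaf 145) (.leaf 401)) (.node (.leaf 17) (.leaf 273))) (.node (.node (.leaf 209) (.leaf 465)) (.node (.leaf 81) (.leaf 337)))) (.node (.node (.node (.leaf 177) (.leaf 433)) (.node (.leaf 49) (.leaf 305))) (.node (.node (.leaf 241) (.leaf 497)) (.node (.leaf 113) (.leaf 369)))))) (.node (.node (.node (.node (.node (.leaf 137) (.leaf 393)) (.node (.leaf 9) (.leaf 265))) (.node (.node (.leaf 201) (.leaf 457)) (.node (.leaf 73) (.leaf 329)))) (.node (.node (.node (.leaf 169) (.leaf 425)) (.node (.leaf 41) (.leaf 297)))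 (.node (.node (.leaf 233) (.leaf 489)) (.node (.leaf 105) (.leaf 361))))) (.node (.node (.node (.node (.leaf 153) (.leaf 409)) (.node (.leaf 25) (.leaf 281))) (.node (.node (.leaf 217) (.leaf 473)) (.node (.leaf 89) (.leaf 345)))) (.node (.node (.node (.leaf 185) (.leaf 441)) (.node (.leaf 57) (.leaf 313))) (.node (.node (.leaf 249) (.leaf 505)) (.node (.leaf 121) (.leaf 377))))))) (.node (.node (.node (.node (.node (.node (.leaf 133) (.leaf 389)) (.node (.leaf 5) (.leaf 261))) (.node (.node (.leaf 197) (.leaf 453)) (.node (.leaf 69) (.leaf 325)))) (.node (.node (.node (.leaf 165) (.leaf 421)) (.node (.leaf 37) (.leaf 293))) (.node (.node (.leaf 229) (.leaf 485)) (.node (.leaf 101) (.leaf 357))))) (.node (.node (.node (.node (.leaf 149) (.leaf 405)) (.node (.leaf 21) (.leaf 277))) (.node (.node (.leaf 213) (.leaf 469)) (.node (.leaf 85) (.leaf 341)))) (.node (.node (.node (.leaf 181) (.leaf 437)) (.node (.leaf 53) (.leaf 309))) (.node (.node (.leaf 245) (.leaf 501)) (.node (.leaf 117) (.leaf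 373)))))) (.node (.node (.node (.node (.node (.leaf 141) (.leaf 397)) (.node (.leaf 13) (.leaf 269))) (.node (.node (.leaf 205) (.leaf 461)) (.node (.leaf 77) (.leaf 333)))) (.node (.node (.node (.leaf 173) (.leaf 429)) (.node (.leaf 45) (.leaf 301))) (.node (.node (.leaf 237) (.leaf 493)) (.node (.leaf 109) (.leaf 365))))) (.node (.node (.node (.node (.leaf 157) (.leaf 413)) (.node (.leaf 29) (.leaf 285))) (.node (.node (.leaf 221) (.leaf 477)) (.node (.leaf 93) (.leaf 349)))) (.node (.node (.node (.leaf 189) (.leaf 445)) (.node (.leaf 61) (.leaf 317))) (.node (.node (.leaf 253) (.leaf 509)) (.node (.leaf 125) (.leaf 381)))))))) (.node (.node (.node (.node (.node (.node (.node (.leaf 131) (.leaf 387)) (.node (.leaf 3) (.leaf 259))) (.node (.node (.leaf 195) (.leaf 451)) (.node (.leaf 67) (.leaf 323)))) (.node (.node (.node (.leaf 163) (.leaf 419)) (.node (.leaf 35) (.leaf 291))) (.node (.node (.leaf 227) (.leaf 483)) (.node (.leaf 99) (.leaf 355))))) (.node (.node (.node (.node (.leaf 147)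 (.leaf 403)) (.node (.leaf 19) (.leaf 275))) (.node (.node (.leaf 211) (.leaf 467)) (.node (.leaf 83) (.leaf 339)))) (.node (.node (.node (.leaf 179) (.leaf 435)) (.node (.leaf 51) (.leaf 307))) (.node (.node (.leaf 243) (.leaf 499)) (.node (.leaf 115) (.leaf 371)))))) (.node (.node (.node (.node (.node (.leaf 139) (.leaf 395)) (.node (.leaf 11) (.leaf 267))) (.node (.node (.leaf 203) (.leaf 459)) (.node (.leaf 75) (.leaf 331)))) (.node (.node (.node (.leaf 171) (.leaf 427)) (.node (.leaf 43) (.leaf 299))) (.node (.node (.leaf 235) (.leaf 491)) (.node (.leaf 107) (.leaf 363))))) (.node (.node (.node (.node (.leaf 155) (.leaf 411)) (.node (.leaf 27) (.leaf 283))) (.node (.node (.leaf 219) (.leaf 475)) (.node (.leaf 91) (.leaf 347)))) (.node (.node (.node (.leaf 187) (.leaf 443)) (.node (.leaf 59) (.leaf 315))) (.node (.node (.leaf 251) (.leaf 507)) (.node (.leaf 123) (.leaf 379))))))) (.node (.node (.node (.node (.node (.node (.leaf 135) (.leaf 391)) (.node (.leaf 7) (.leaf 263))) (.node (.node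 (.leaf 199) (.leaf 455)) (.node (.leaf 71) (.leaf 327)))) (.node (.node (.node (.leaf 167) (.leaf 423)) (.node (.leaf 39) (.leaf 295))) (.node (.node (.leaf 231) (.leaf 487)) (.node (.leaf 103) (.leaf 359))))) (.node (.node (.node (.node (.leaf 151) (.leaf 407)) (.node (.leaf 23) (.leaf 279))) (.node (.node (.leaf 215) (.leaf 471)) (.node (.leaf 87) (.leaf 343)))) (.node (.node (.node (.leaf 183) (.leaf 439)) (.node (.leaf 55) (.leaf 311))) (.node (.node (.leaf 247) (.leaf 503)) (.node (.leaf 119) (.leaf 375)))))) (.node (.node (.node (.node (.node (.leaf 143) (.leaf 399)) (.node (.leaf 15) (.leaf 271))) (.node (.node (.leaf 207) (.leaf 463)) (.node (.leaf 79) (.leaf 335)))) (.node (.node (.node (.leaf 175) (.leaf 431)) (.node (.leaf 47) (.leaf 303))) (.node (.node (.leaf 239) (.leaf 495)) (.node (.leaf 111) (.leaf 367))))) (.node (.node (.node (.node (.leaf 159) (.leaf 415)) (.node (.leaf 31) (.leaf 287))) (.node (.node (.leaf 223) (.leaf 479)) (.node (.leaf 95) (.leaf 351)))) (.node (.node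 (.node (.leaf 191) (.leaf 447)) (.node (.leaf 63) (.leaf 319))) (.node (.node (.leaf 255) (.leaf 511)) (.node (.leaf 127) (.leaf 383)))))))))),
  (.node (.node (.node (.node (.node (.node (.node (.node (.node (.leaf 256) (.leaf 0)) (.node (.leaf 384) (.leaf 128))) (.node (.node (.leaf 320) (.leaf 64)) (.node (.leaf 448) (.leaf 192)))) (.node (.node (.node (.leaf 288) (.leaf 32)) (.node (.leaf 416) (.leaf 160))) (.node (.node (.leaf 352) (.leaf 96)) (.node (.leaf 480) (.leaf 224))))) (.node (.node (.node (.node (.leaf 272) (.leaf 16)) (.node (.leaf 400) (.leaf 144))) (.node (.node (.leaf 336) (.leaf 80)) (.node (.leaf 464) (.leaf 208)))) (.node (.node (.node (.leaf 304) (.leaf 48)) (.node (.leaf 432) (.leaf 176))) (.node (.node (.leaf 368) (.leaf 112)) (.node (.leaf 496) (.leaf 240)))))) (.node (.node (.node (.node (.node (.leaf 264) (.leaf 8)) (.node (.leaf 392) (.leaf 136))) (.node (.node (.leaf 328) (.leaf 72)) (.node (.leaf 456) (.leaf 200)))) (.node (.node (.node (.leaf 296) (.leaf 40))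 (.node (.leaf 424) (.leaf 168))) (.node (.node (.leaf 360) (.leaf 104)) (.node (.leaf 488) (.leaf 232))))) (.node (.node (.node (.node (.leaf 280) (.leaf 24)) (.node (.leaf 408) (.leaf 152))) (.node (.node (.leaf 344) (.leaf 88)) (.node (.leaf 472) (.leaf 216)))) (.node (.node (.node (.leaf 312) (.leaf 56)) (.node (.leaf 440) (.leaf 184))) (.node (.node (.leaf 376) (.leaf 120)) (.node (.leaf 504) (.leaf 248))))))) (.node (.node (.node (.node (.node (.node (.leaf 260) (.leaf 4)) (.node (.leaf 388) (.leaf 132))) (.node (.node (.leaf 324) (.leaf 68)) (.node (.leaf 452) (.leaf 196)))) (.node (.node (.node (.leaf 292) (.leaf 36)) (.node (.leaf 420) (.leaf 164))) (.node (.node (.leaf 356) (.leaf 100)) (.node (.leaf 484) (.leaf 228))))) (.node (.node (.node (.node (.leaf 276) (.leaf 20)) (.node (.leaf 404) (.leaf 148))) (.node (.node (.leaf 340) (.leaf 84)) (.node (.leaf 468) (.leaf 212)))) (.node (.node (.node (.leaf 308) (.leaf 52)) (.node (.leaf 436) (.leaf 180))) (.node (.node (.leaf 372) (.leaf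 116)) (.node (.leaf 500) (.leaf 244)))))) (.node (.node (.node (.node (.node (.leaf 268) (.leaf 12)) (.node (.leaf 396) (.leaf 140))) (.node (.node (.leaf 332) (.leaf 76)) (.node (.leaf 460) (.leaf 204)))) (.node (.node (.node (.leaf 300) (.leaf 44)) (.node (.leaf 428) (.leaf 172))) (.node (.node (.leaf 364) (.leaf 108)) (.node (.leaf 492) (.leaf 236))))) (.node (.node (.node (.node (.leaf 284) (.leaf 28)) (.node (.leaf 412) (.leaf 156))) (.node (.node (.leaf 348) (.leaf 92)) (.node (.leaf 476) (.leaf 220)))) (.node (.node (.node (.leaf 316) (.leaf 60)) (.node (.leaf 444) (.leaf 188))) (.node (.node (.leaf 380) (.leaf 124)) (.node (.leaf 508) (.leaf 252)))))))) (.node (.node (.node (.node (.node (.node (.node (.leaf 258) (.leaf 2)) (.node (.leaf 386) (.leaf 130))) (.node (.node (.leaf 322) (.leaf 66)) (.node (.leaf 450) (.leaf 194)))) (.node (.node (.node (.leaf 290) (.leaf 34)) (.node (.leaf 418) (.leaf 162))) (.node (.node (.leaf 354) (.leaf 98)) (.node (.leaf 482) (.leaf 226))))) (.node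 (.node (.node (.node (.leaf 274) (.leaf 18)) (.node (.leaf 402) (.leaf 146))) (.node (.node (.leaf 338) (.leaf 82)) (.node (.leaf 466) (.leaf 210)))) (.node (.node (.node (.leaf 306) (.leaf 50)) (.node (.leaf 434) (.leaf 178))) (.node (.node (.leaf 370) (.leaf 114)) (.node (.leaf 498) (.leaf 242)))))) (.node (.node (.node (.node (.node (.leaf 266) (.leaf 10)) (.node (.leaf 394) (.leaf 138))) (.node (.node (.leaf 330) (.leaf 74)) (.node (.leaf 458) (.leaf 202)))) (.node (.node (.node (.leaf 298) (.leaf 42)) (.node (.leaf 426) (.leaf 170))) (.node (.node (.leaf 362) (.leaf 106)) (.node (.leaf 490) (.leaf 234))))) (.node (.node (.node (.node (.leaf 282) (.leaf 26)) (.node (.leaf 410) (.leaf 154))) (.node (.node (.leaf 346) (.leaf 90)) (.node (.leaf 474) (.leaf 218)))) (.node (.node (.node (.leaf 314) (.leaf 58)) (.node (.leaf 442) (.leaf 186))) (.node (.node (.leaf 378) (.leaf 122)) (.node (.leaf 506) (.leaf 250))))))) (.node (.node (.node (.node (.node (.node (.leaf 262) (.leaf 6)) (.node (.leaf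 390) (.leaf 134))) (.node (.node (.leaf 326) (.leaf 70)) (.node (.leaf 454) (.leaf 198)))) (.node (.node (.node (.leaf 294) (.leaf 38)) (.node (.leaf 422) (.leaf 166))) (.node (.node (.leaf 358) (.leaf 102)) (.node (.leaf 486) (.leaf 230))))) (.node (.node (.node (.node (.leaf 278) (.leaf 22)) (.node (.leaf 406) (.leaf 150))) (.node (.node (.leaf 342) (.leaf 86)) (.node (.leaf 470) (.leaf 214)))) (.node (.node (.node (.leaf 310) (.leaf 54)) (.node (.leaf 438) (.leaf 182))) (.node (.node (.leaf 374) (.leaf 118)) (.node (.leaf 502) (.leaf 246)))))) (.node (.node (.node (.node (.node (.leaf 270) (.leaf 14)) (.node (.leaf 398) (.leaf 142))) (.node (.node (.leaf 334) (.leaf 78)) (.node (.leaf 462) (.leaf 206)))) (.node (.node (.node (.leaf 302) (.leaf 46)) (.node (.leaf 430) (.leaf 174))) (.node (.node (.leaf 366) (.leaf 110)) (.node (.leaf 494) (.leaf 238))))) (.node (.node (.node (.node (.leaf 286) (.leaf 30)) (.node (.leaf 414) (.leaf 158))) (.node (.node (.leaf 350) (.leaf 94)) (.node (.leaf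 478) (.leaf 222)))) (.node (.node (.node (.leaf 318) (.leaf 62)) (.node (.leaf 446) (.leaf 190))) (.node (.node (.leaf 382) (.leaf 126)) (.node (.leaf 510) (.leaf 254))))))))) (.node (.node (.node (.node (.node (.node (.node (.node (.leaf 257) (.leaf 1)) (.node (.leaf 385) (.leaf 129))) (.node (.node (.leaf 321) (.leaf 65)) (.node (.leaf 449) (.leaf 193)))) (.node (.node (.node (.leaf 289) (.leaf 33)) (.node (.leaf 417) (.leaf 161))) (.node (.node (.leaf 353) (.leaf 97)) (.node (.leaf 481) (.leaf 225))))) (.node (.node (.node (.node (.leaf 273) (.leaf 17)) (.node (.leaf 401) (.leaf 145))) (.node (.node (.leaf 337) (.leaf 81)) (.node (.leaf 465) (.leaf 209)))) (.node (.node (.node (.leaf 305) (.leaf 49)) (.node (.leaf 433) (.leaf 177))) (.node (.node (.leaf 369) (.leaf 113)) (.node (.leaf 497) (.leaf 241)))))) (.node (.node (.node (.node (.node (.leaf 265) (.leaf 9)) (.node (.leaf 393) (.leaf 137))) (.node (.node (.leaf 329) (.leaf 73)) (.node (.leaf 457) (.leaf 201)))) (.node (.node (.node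 (.leaf 297) (.leaf 41)) (.node (.leaf 425) (.leaf 169))) (.node (.node (.leaf 361) (.leaf 105)) (.node (.leaf 489) (.leaf 233))))) (.node (.node (.node (.node (.leaf 281) (.leaf 25)) (.node (.leaf 409) (.leaf 153))) (.node (.node (.leaf 345) (.leaf 89)) (.node (.leaf 473) (.leaf 217)))) (.node (.node (.node (.leaf 313) (.leaf 57)) (.node (.leaf 441) (.leaf 185))) (.node (.node (.leaf 377) (.leaf 121)) (.node (.leaf 505) (.leaf 249))))))) (.node (.node (.node (.node (.node (.node (.leaf 261) (.leaf 5)) (.node (.leaf 389) (.leaf 133))) (.node (.node (.leaf 325) (.leaf 69)) (.node (.leaf 453) (.leaf 197)))) (.node (.node (.node (.leaf 293) (.leaf 37)) (.node (.leaf 421) (.leaf 165))) (.node (.node (.leaf 357) (.leaf 101)) (.node (.leaf 485) (.leaf 229))))) (.node (.node (.node (.node (.leaf 277) (.leaf 21)) (.node (.leaf 405) (.leaf 149))) (.node (.node (.leaf 341) (.leaf 85)) (.node (.leaf 469) (.leaf 213)))) (.node (.node (.node (.leaf 309) (.leaf 53)) (.node (.leaf 437) (.leaf 181))) (.node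 (.node (.leaf 373) (.leaf 117)) (.node (.leaf 501) (.leaf 245)))))) (.node (.node (.node (.node (.node (.leaf 269) (.leaf 13)) (.node (.leaf 397) (.leaf 141))) (.node (.node (.leaf 333) (.leaf 77)) (.node (.leaf 461) (.leaf 205)))) (.node (.node (.node (.leaf 301) (.leaf 45)) (.node (.leaf 429) (.leaf 173))) (.node (.node (.leaf 365) (.leaf 109)) (.node (.leaf 493) (.leaf 237))))) (.node (.node (.node (.node (.leaf 285) (.leaf 29)) (.node (.leaf 413) (.leaf 157))) (.node (.node (.leaf 349) (.leaf 93)) (.node (.leaf 477) (.leaf 221)))) (.node (.node (.node (.leaf 317) (.leaf 61)) (.node (.leaf 445) (.leaf 189))) (.node (.node (.leaf 381) (.leaf 125)) (.node (.leaf 509) (.leaf 253)))))))) (.node (.node (.node (.node (.node (.node (.node (.leaf 259) (.leaf 3)) (.node (.leaf 387) (.leaf 131))) (.node (.node (.leaf 323) (.leaf 67)) (.node (.leaf 451) (.leaf 195)))) (.node (.node (.node (.leaf 291) (.leaf 35)) (.node (.leaf 419) (.leaf 163))) (.node (.node (.leaf 355) (.leaf 99)) (.node (.leaf 483)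 (.leaf 227))))) (.node (.node (.node (.node (.leaf 275) (.leaf 19)) (.node (.leaf 403) (.leaf 147))) (.node (.node (.leaf 339) (.leaf 83)) (.node (.leaf 467) (.leaf 211)))) (.node (.node (.node (.leaf 307) (.leaf 51)) (.node (.leaf 435) (.leaf 179))) (.node (.node (.leaf 371) (.leaf 115)) (.node (.leaf 499) (.leaf 243)))))) (.node (.node (.node (.node (.node (.leaf 267) (.leaf 11)) (.node (.leaf 395) (.leaf 139))) (.node (.node (.leaf 331) (.leaf 75)) (.node (.leaf 459) (.leaf 203)))) (.node (.node (.node (.leaf 299) (.leaf 43)) (.node (.leaf 427) (.leaf 171))) (.node (.node (.leaf 363) (.leaf 107)) (.node (.leaf 491) (.leaf 235))))) (.node (.node (.node (.node (.leaf 283) (.leaf 27)) (.node (.leaf 411) (.leaf 155))) (.node (.node (.leaf 347) (.leaf 91)) (.node (.leaf 475) (.leaf 219)))) (.node (.node (.node (.leaf 315) (.leaf 59)) (.node (.leaf 443) (.leaf 187))) (.node (.node (.leaf 379) (.leaf 123)) (.node (.leaf 507) (.leaf 251))))))) (.node (.node (.node (.node (.node (.node (.leaf 263)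 (.leaf 7)) (.node (.leaf 391) (.leaf 135))) (.node (.node (.leaf 327) (.leaf 71)) (.node (.leaf 455) (.leaf 199)))) (.node (.node (.node (.leaf 295) (.leaf 39)) (.node (.leaf 423) (.leaf 167))) (.node (.node (.leaf 359) (.leaf 103)) (.node (.leaf 487) (.leaf 231))))) (.node (.node (.node (.node (.leaf 279) (.leaf 23)) (.node (.leaf 407) (.leaf 151))) (.node (.node (.leaf 343) (.leaf 87)) (.node (.leaf 471) (.leaf 215)))) (.node (.node (.node (.leaf 311) (.leaf 55)) (.node (.leaf 439) (.leaf 183))) (.node (.node (.leaf 375) (.leaf 119)) (.node (.leaf 503) (.leaf 247)))))) (.node (.node (.node (.node (.node (.leaf 271) (.leaf 15)) (.node (.leaf 399) (.leaf 143))) (.node (.node (.leaf 335) (.leaf 79)) (.node (.leaf 463) (.leaf 207)))) (.node (.node (.node (.leaf 303) (.leaf 47)) (.node (.leaf 431) (.leaf 175))) (.node (.node (.leaf 367) (.leaf 111)) (.node (.leaf 495) (.leaf 239))))) (.node (.node (.node (.node (.leaf 287) (.leaf 31)) (.node (.leaf 415) (.leaf 159))) (.node (.node (.leaf 351)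 (.leaf 95)) (.node (.leaf 479) (.leaf 223)))) (.node (.node (.node (.leaf 319) (.leaf 63)) (.node (.leaf 447) (.leaf 191))) (.node (.node (.leaf 383) (.leaf 127)) (.node (.leaf 511) (.leaf 255))))))))))]

def aList : List Nat := [0, 10, 18, 24, 32, 42, 50, 56, 64, 74, 82, 88, 96, 106, 114, 120, 128, 138, 146, 152, 160, 170, 178, 184, 192, 202, 210, 216, 224, 234, 242, 248, 256, 266, 274, 280, 288, 298, 306, 312, 320, 330, 338, 344, 352, 362, 370, 376, 384, 394, 402, 408, 416, 426, 434, 440, 448, 458, 466, 472, 480, 490, 498, 504]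

def aGens : List Nat := [10, 18, 24, 32, 64, 128]

def inAMask : Nat := 53195797182961990977541243877865646765770651377855325724397608148067328170796890503514301326564310582406379773320980341406195703839568387520552413430785

def clearTab : List (List (Nat × Nat × Nat × Nat)) := [
  [(1, 2, 16, 34), (129, 4, 0, 1), (17, 4, 0, 2), (65, 4, 0, 3), (145, 4, 1, 2), (193, 4, 1, 3), (337, 4, 2, 3), (465, 4, 4, 3), (2, 2, 17, 32), (130, 4, 8, 0), (34, 4, 8, 2), (386, 4, 8, 3), (162, 4, 9, 2), (258, 4, 9, 3), (418, 4, 10, 3), (290, 4, 12, 3)],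
  [(4, 2, 16, 72), (20, 4, 16, 0), (36, 4, 16, 1), (260, 4, 16, 3), (180, 4, 17, 1), (292, 4, 18, 3), (276, 4, 19, 0), (436, 4, 21, 0), (8, 2, 20, 64), (72, 4, 24, 0), (392, 4, 24, 1), (264, 4, 24, 2), (456, 4, 25, 1), (136, 4, 26, 2), (328, 4, 27, 0), (200, 4, 29, 0)],
  [(16, 3, 1, 4), (144, 4, 32, 1), (272, 4, 32, 3), (400, 4, 33, 3), (3, 2, 17, 33), (131, 4, 36, 0), (179, 4, 36, 2), (451, 4, 36, 3), (51, 4, 37, 2), (323, 4, 37, 3), (115, 4, 38, 3), (243, 4, 40, 3), (5, 0, 0, 0), (21, 4, 44, 0), (165, 4, 44, 1), (69, 4, 44, 3)],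
  [(53, 4, 45, 1), (341, 4, 45, 3), (181, 4, 46, 2), (229, 4, 46, 3), (85, 4, 47, 0), (37, 4, 48, 2), (373, 4, 48, 3), (325, 4, 49, 0), (149, 4, 50, 1), (501, 4, 50, 3), (117, 4, 51, 0), (277, 4, 52, 3), (133, 4, 53, 1), (101, 4, 53, 3), (485, 4, 54, 0), (261, 4, 55, 3)],
  [(469, 4, 56, 3), (357, 4, 57, 0), (309, 4, 58, 3), (197, 4, 60, 3), (245, 4, 61, 0), (421, 4, 62, 3), (453, 4, 64, 0), (293, 4, 65, 3), (213, 4, 67, 0), (437, 4, 68, 3), (389, 4, 70, 3), (405, 4, 72, 3), (6, 1, 0, 0), (150, 4, 76, 0), (38, 4, 76, 1), (134, 4, 76, 3)],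
  [(54, 4, 77, 1), (182, 4, 77, 2), (278, 4, 77, 3), (166, 4, 78, 3), (22, 4, 79, 0), (438, 4, 80, 3), (310, 4, 81, 3), (390, 4, 82, 0), (406, 4, 84, 3), (422, 4, 85, 0), (294, 4, 86, 0), (262, 4, 87, 3), (9, 1, 0, 0), (73, 4, 92, 0), (265, 4, 92, 1), (25, 4, 92, 2)],
  [(329, 4, 93, 1), (345, 4, 93, 2), (281, 4, 94, 2), (89, 4, 95, 0), (409, 4, 95, 1), (217, 4, 97, 1), (153, 4, 98, 1), (473, 4, 99, 1), (393, 4, 100, 2), (457, 4, 101, 2), (137, 4, 102, 2), (201, 4, 103, 2), (12, 2, 20, 68), (348, 4, 108, 0), (428, 4, 108, 1), (268, 4, 108, 2)],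
  [(124, 4, 109, 1), (172, 4, 110, 2), (92, 4, 111, 0), (380, 4, 113, 0), (33, 2, 3, 16), (161, 4, 116, 0), (49, 4, 116, 2), (97, 4, 116, 3), (177, 4, 117, 2), (225, 4, 117, 3), (369, 4, 118, 3), (497, 4, 120, 3), (40, 2, 20, 64), (232, 4, 124, 0), (424, 4, 124, 1), (296, 4, 124, 2)],
  [(360, 4, 125, 1), (168, 4, 126, 2), (488, 4, 127, 0), (104, 4, 129, 0), (48, 3, 4, 3), (176, 4, 132, 0), (304, 4, 132, 3), (432, 4, 133, 3), (66, 2, 17, 32), (194, 4, 136, 0), (354, 4, 136, 2), (450, 4, 136, 3), (482, 4, 137, 2), (322, 4, 137, 3), (226, 4, 138, 3), (98, 4, 140, 3)],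
  [(68, 2, 12, 16), (84, 4, 144, 0), (100, 4, 144, 1), (324, 4, 144, 2), (244, 4, 145, 1), (340, 4, 145, 2), (356, 4, 146, 2), (500, 4, 148, 2), (80, 3, 1, 12), (208, 4, 152, 1), (336, 4, 152, 2), (464, 4, 153, 2), (132, 2, 16, 72), (148, 4, 156, 0), (164, 4, 156, 1), (388, 4, 156, 3)],
  [(52, 4, 157, 1), (420, 4, 158, 3), (404, 4, 159, 0), (308, 4, 161, 0), (257, 2, 16, 34), (385, 4, 164, 1), (273, 4, 164, 2), (321, 4, 164, 3), (401, 4, 165, 2), (449, 4, 165, 3), (81, 4, 166, 3), (209, 4, 168, 3), (7, 0, 0, 0), (151, 4, 172, 0), (167, 4, 172, 1), (183, 4, 172, 2)],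
  [(455, 4, 172, 3), (39, 4, 173, 2), (87, 4, 173, 3), (23, 4, 174, 2), (359, 4, 174, 3), (119, 4, 175, 3), (343, 4, 176, 0), (55, 4, 177, 0), (135, 4, 177, 1), (487, 4, 177, 3), (199, 4, 178, 0), (215, 4, 179, 3), (375, 4, 180, 0), (103, 4, 181, 0), (231, 4, 182, 2), (407, 4, 182, 3)],
  [(247, 4, 183, 3), (327, 4, 184, 3), (503, 4, 185, 0), (263, 4, 186, 3), (71, 4, 187, 0), (439, 4, 188, 3), (471, 4, 189, 2), (423, 4, 189, 3), (295, 4, 190, 3), (311, 4, 194, 3), (391, 4, 196, 3), (279, 4, 198, 3), (11, 1, 0, 0), (203, 4, 204, 0), (267, 4, 204, 1), (187, 4, 204, 2)],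
  [(459, 4, 204, 3), (379, 4, 205, 2), (443, 4, 206, 2), (251, 4, 207, 0), (315, 4, 207, 1), (123, 4, 207, 3), (507, 4, 210, 0), (59, 4, 210, 1), (331, 4, 211, 2), (395, 4, 212, 2), (75, 4, 214, 2), (139, 4, 215, 2), (13, 0, 0, 0), (349, 4, 220, 0), (301, 4, 220, 1), (29, 4, 220, 2)],
  [(77, 4, 220, 3), (253, 4, 221, 1), (317, 4, 222, 2), (365, 4, 222, 3), (333, 4, 223, 0), (445, 4, 223, 1), (285, 4, 224, 0), (493, 4, 225, 2), (237, 4, 226, 0), (157, 4, 226, 1), (125, 4, 226, 3), (189, 4, 227, 0), (109, 4, 228, 1), (93, 4, 228, 2), (269, 4, 228, 3), (429, 4, 229, 2)],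
  [(61, 4, 231, 0), (205, 4, 231, 1), (461, 4, 232, 1), (509, 4, 232, 2), (173, 4, 232, 3), (141, 4, 233, 2), (477, 4, 233, 3), (381, 4, 236, 2), (45, 4, 236, 3), (413, 4, 240, 1), (221, 4, 242, 2), (397, 4, 242, 3), (14, 1, 0, 0), (478, 4, 252, 0), (430, 4, 252, 1), (302, 4, 252, 2)],
  [(142, 4, 252, 3), (254, 4, 253, 1), (510, 4, 253, 2), (94, 4, 253, 3), (126, 4, 255, 0), (350, 4, 256, 0), (222, 4, 257, 2), (382, 4, 257, 3), (174, 4, 258, 0), (398, 4, 259, 0), (270, 4, 262, 0), (46, 4, 263, 0), (19, 2, 2, 33), (147, 4, 268, 0), (163, 4, 268, 2), (211, 4, 268, 3)],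
  [(35, 4, 269, 2), (83, 4, 269, 3), (355, 4, 270, 3), (483, 4, 272, 3), (26, 1, 0, 0), (218, 4, 276, 0), (282, 4, 276, 1), (314, 4, 276, 2), (154, 4, 276, 3), (474, 4, 277, 1), (250, 4, 277, 2), (90, 4, 277, 3), (58, 4, 278, 2), (410, 4, 278, 3), (378, 4, 279, 0), (442, 4, 279, 3)],
  [(506, 4, 281, 2), (346, 4, 281, 3), (186, 4, 282, 0), (122, 4, 282, 3), (28, 2, 8, 68), (332, 4, 292, 0), (316, 4, 292, 1), (284, 4, 292, 2), (236, 4, 293, 1), (76, 4, 293, 3), (60, 4, 294, 2), (492, 4, 296, 3), (41, 1, 0, 0), (233, 4, 300, 0), (297, 4, 300, 1), (57, 4, 300, 2)],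
  [(105, 4, 300, 3), (489, 4, 301, 1), (505, 4, 301, 2), (169, 4, 301, 3), (313, 4, 302, 2), (361, 4, 302, 3), (249, 4, 303, 0), (441, 4, 303, 1), (377, 4, 303, 3), (425, 4, 305, 3), (121, 4, 306, 1), (185, 4, 306, 3), (44, 2, 20, 68), (508, 4, 316, 0), (396, 4, 316, 1), (300, 4, 316, 2)],
  [(220, 4, 317, 1), (140, 4, 318, 2), (252, 4, 319, 0), (476, 4, 321, 0), (67, 2, 17, 33), (195, 4, 324, 0), (499, 4, 324, 2), (387, 4, 324, 3), (371, 4, 325, 2), (259, 4, 325, 3), (307, 4, 326, 3), (435, 4, 328, 3), (70, 1, 0, 0), (214, 4, 332, 0), (102, 4, 332, 1), (358, 4, 332, 2)],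
  [(198, 4, 332, 3), (118, 4, 333, 1), (502, 4, 333, 2), (342, 4, 333, 3), (326, 4, 334, 2), (230, 4, 334, 3), (374, 4, 335, 0), (486, 4, 335, 3), (86, 4, 336, 0), (454, 4, 339, 0), (470, 4, 340, 0), (246, 4, 341, 0), (112, 3, 16, 3), (240, 4, 348, 0), (368, 4, 348, 2), (496, 4, 349, 2)],
  [(196, 2, 12, 16), (212, 4, 352, 0), (228, 4, 352, 1), (452, 4, 352, 2), (116, 4, 353, 1), (468, 4, 353, 2), (484, 4, 354, 2), (372, 4, 356, 2), (289, 2, 3, 16), (417, 4, 360, 0), (305, 4, 360, 2), (353, 4, 360, 3), (433, 4, 361, 2), (481, 4, 361, 3), (113, 4, 362, 3), (241, 4, 364, 3)],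
  [(15, 0, 0, 0), (479, 4, 368, 0), (303, 4, 368, 1), (191, 4, 368, 2), (463, 4, 368, 3), (127, 4, 369, 1), (111, 4, 369, 2), (287, 4, 369, 3), (415, 4, 370, 2), (239, 4, 370, 3), (495, 4, 371, 0), (31, 4, 372, 0), (319, 4, 374, 0), (335, 4, 374, 1), (431, 4, 374, 3), (207, 4, 375, 0)],
  [(79, 4, 376, 0), (63, 4, 376, 1), (351, 4, 376, 3), (447, 4, 377, 0), (95, 4, 378, 2), (47, 4, 378, 3), (175, 4, 379, 2), (223, 4, 379, 3), (159, 4, 380, 1), (399, 4, 380, 2), (511, 4, 380, 3), (255, 4, 381, 2), (143, 4, 381, 3), (383, 4, 383, 2), (271, 4, 383, 3), (367, 4, 384, 1)],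
  [(27, 1, 0, 0), (219, 4, 400, 0), (411, 4, 400, 1), (171, 4, 400, 2), (347, 4, 401, 1), (363, 4, 401, 2), (299, 4, 402, 2), (235, 4, 403, 0), (427, 4, 403, 1), (107, 4, 405, 1), (43, 4, 406, 1), (491, 4, 407, 1), (283, 4, 408, 2), (475, 4, 409, 2), (155, 4, 410, 2), (91, 4, 411, 2)],
  [(30, 1, 0, 0), (462, 4, 416, 0), (318, 4, 416, 1), (414, 4, 416, 3), (110, 4, 417, 1), (494, 4, 417, 2), (334, 4, 417, 3), (190, 4, 418, 3), (78, 4, 419, 0), (238, 4, 420, 3), (366, 4, 421, 3), (158, 4, 422, 0), (206, 4, 424, 3), (446, 4, 425, 0), (62, 4, 426, 0), (286, 4, 427, 3)],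
  [(99, 2, 1, 18), (227, 4, 432, 1), (467, 4, 432, 2), (419, 4, 432, 3), (339, 4, 433, 2), (291, 4, 433, 3), (275, 4, 434, 3), (403, 4, 436, 3), (108, 2, 4, 24), (444, 4, 440, 0), (460, 4, 440, 1), (364, 4, 440, 3), (156, 4, 441, 1), (188, 4, 441, 2), (204, 4, 442, 3), (412, 4, 444, 2)]]

def posTab : Tbl := (.node (.node (.node (.node (.node (.node (.node (.node (.node (.leaf 0) (.leaf 0)) (.node (.leaf 0) (.leaf 0))) (.node (.node (.leaf 0) (.leaf 0)) (.node (.leaf 0) (.leaf 0)))) (.node (.node (.node (.leaf 0) (.leaf 0)) (.node (.leaf 0) (.leaf 0))) (.node (.node (.leaf 0) (.leaf 0)) (.node (.leaf 0) (.leaf 0))))) (.node (.node (.node (.node (.leaf 32) (.leaf 34)) (.node (.leaf 33) (.leaf 35))) (.node (.node (.leaf 152) (.leaf 154)) (.node (.leaf 153) (.leaf 155)))) (.node (.node (.node (.leaf 132) (.leaf 134)) (.node (.leaf 133) (.leaf 135))) (.node (.node (.leaf 348) (.leaf 350)) (.node (.leaf 349) (.leaf 351)))))) (.node (.node (.node (.node (.node (.leaf 24) (.leaf 27)) (.node (.leaf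 29) (.leaf 26))) (.node (.node (.leaf 25) (.leaf 30)) (.node (.leaf 31) (.leaf 28)))) (.node (.node (.node (.leaf 124) (.leaf 127)) (.node (.leaf 129) (.leaf 126))) (.node (.node (.leaf 131) (.leaf 128)) (.node (.leaf 125) (.leaf 130))))) (.node (.node (.node (.node (.leaf 0) (.leaf 0)) (.node (.leaf 0) (.leaf 0))) (.node (.node (.leaf 0) (.leaf 0)) (.node (.leaf 0) (.leaf 0)))) (.node (.node (.node (.leaf 0) (.leaf 0)) (.node (.leaf 0) (.leaf 0))) (.node (.node (.leaf 0) (.leaf 0)) (.node (.leaf 0) (.leaf 0))))))) (.node (.node (.node (.node (.node (.node (.leaf 16) (.leaf 19)) (.node (.leaf 156) (.leaf 159))) (.node (.node (.leaf 144) (.leaf 147)) (.node (.leaf 352) (.leaf 355)))) (.node (.node (.node (.leaf 18) (.leaf 21)) (.node (.leaf 158) (.leaf 161))) (.node (.node (.leaf 146) (.leaf 150)) (.node (.leaf 354) (.leaf 358))))) (.node (.node (.node (.node (.leaf 17) (.leaf 22)) (.node (.leaf 157) (.leaf 162))) (.node (.node (.leaf 145) (.leaf 149)) (.node (.leaf 353) (.leaf 357)))) (.node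 (.node (.node (.leaf 160) (.leaf 163)) (.node (.leaf 20) (.leaf 23))) (.node (.node (.leaf 356) (.leaf 359)) (.node (.leaf 148) (.leaf 151)))))) (.node (.node (.node (.node (.node (.leaf 108) (.leaf 111)) (.node (.leaf 321) (.leaf 318))) (.node (.node (.leaf 297) (.leaf 293)) (.node (.leaf 446) (.leaf 442)))) (.node (.node (.node (.leaf 316) (.leaf 319)) (.node (.leaf 113) (.leaf 110))) (.node (.node (.leaf 440) (.leaf 443)) (.node (.leaf 296) (.leaf 299))))) (.node (.node (.node (.node (.leaf 292) (.leaf 295)) (.node (.leaf 444) (.leaf 447))) (.node (.node (.leaf 114) (.leaf 109)) (.node (.leaf 320) (.leaf 323)))) (.node (.node (.node (.leaf 298) (.leaf 294)) (.node (.leaf 445) (.leaf 441))) (.node (.node (.leaf 112) (.leaf 115)) (.node (.leaf 322) (.leaf 317)))))))) (.node (.node (.node (.node (.node (.node (.node (.leaf 8) (.leaf 13)) (.node (.leaf 9) (.leaf 11))) (.node (.node (.leaf 136) (.leaf 141)) (.node (.leaf 137) (.leaf 139)))) (.node (.node (.node (.leaf 10) (.leaf 15)) (.node (.leaf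 12) (.leaf 14))) (.node (.node (.leaf 143) (.leaf 138)) (.node (.leaf 142) (.leaf 140))))) (.node (.node (.node (.node (.leaf 0) (.leaf 0)) (.node (.leaf 0) (.leaf 0))) (.node (.node (.leaf 0) (.leaf 0)) (.node (.leaf 0) (.leaf 0)))) (.node (.node (.node (.leaf 0) (.leaf 0)) (.node (.leaf 0) (.leaf 0))) (.node (.node (.leaf 0) (.leaf 0)) (.node (.leaf 0) (.leaf 0)))))) (.node (.node (.node (.node (.node (.leaf 0) (.leaf 0)) (.node (.leaf 0) (.leaf 0))) (.node (.node (.leaf 0) (.leaf 0)) (.node (.leaf 0) (.leaf 0)))) (.node (.node (.node (.leaf 0) (.leaf 0)) (.node (.leaf 0) (.leaf 0))) (.node (.node (.leaf 0) (.leaf 0)) (.node (.leaf 0) (.leaf 0))))) (.node (.node (.node (.node (.leaf 276) (.leaf 278)) (.node (.leaf 280) (.leaf 285))) (.node (.node (.leaf 283) (.leaf 289)) (.node (.leaf 277) (.leaf 281)))) (.node (.node (.node (.leaf 284) (.leaf 279)) (.node (.leaf 290) (.leaf 287))) (.node (.node (.leaf 291) (.leaf 286)) (.node (.leaf 282) (.leaf 288))))))) (.node (.node (.node (.node (.node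 (.node (.leaf 76) (.leaf 91)) (.node (.leaf 79) (.leaf 87))) (.node (.node (.leaf 332) (.leaf 340)) (.node (.leaf 336) (.leaf 345)))) (.node (.node (.node (.leaf 78) (.leaf 90)) (.node (.leaf 83) (.leaf 89))) (.node (.node (.leaf 334) (.leaf 335)) (.node (.leaf 341) (.leaf 343))))) (.node (.node (.node (.node (.leaf 84) (.leaf 82)) (.node (.leaf 77) (.leaf 88))) (.node (.node (.leaf 344) (.leaf 339)) (.node (.leaf 333) (.leaf 346)))) (.node (.node (.node (.leaf 80) (.leaf 86)) (.node (.leaf 81) (.leaf 85))) (.node (.node (.leaf 337) (.leaf 342)) (.node (.leaf 347) (.leaf 338)))))) (.node (.node (.node (.node (.node (.leaf 252) (.leaf 266)) (.node (.leaf 256) (.leaf 265))) (.node (.node (.leaf 424) (.leaf 422)) (.node (.leaf 428) (.leaf 417)))) (.node (.node (.node (.leaf 267) (.leaf 255)) (.node (.leaf 264) (.leaf 254))) (.node (.node (.leaf 420) (.leaf 426)) (.node (.leaf 425) (.leaf 421))))) (.node (.node (.node (.node (.leaf 416) (.leaf 431)) (.node (.leaf 427) (.leaf 419))) (.node (.node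 (.leaf 259) (.leaf 261)) (.node (.leaf 262) (.leaf 253)))) (.node (.node (.node (.leaf 430) (.leaf 418)) (.node (.leaf 423) (.leaf 429))) (.node (.node (.leaf 260) (.leaf 263)) (.node (.leaf 257) (.leaf 258))))))))) (.node (.node (.node (.node (.node (.node (.node (.node (.leaf 0) (.leaf 164)) (.node (.leaf 1) (.leaf 165))) (.node (.node (.leaf 3) (.leaf 167)) (.node (.leaf 5) (.leaf 169)))) (.node (.node (.node (.leaf 116) (.leaf 360)) (.node (.leaf 117) (.leaf 361))) (.node (.node (.leaf 119) (.leaf 363)) (.node (.leaf 121) (.leaf 365))))) (.node (.node (.node (.node (.leaf 2) (.leaf 166)) (.node (.leaf 4) (.leaf 168))) (.node (.node (.leaf 170) (.leaf 6)) (.node (.leaf 171) (.leaf 7)))) (.node (.node (.node (.leaf 118) (.leaf 362)) (.node (.leaf 120) (.leaf 364))) (.node (.node (.leaf 366) (.leaf 122)) (.node (.leaf 367) (.leaf 123)))))) (.node (.node (.node (.node (.node (.leaf 92) (.leaf 94)) (.node (.leaf 106) (.leaf 104))) (.node (.node (.leaf 93) (.leaf 96)) (.node (.leaf 107) (.leaf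 105)))) (.node (.node (.node (.leaf 300) (.leaf 302)) (.node (.leaf 307) (.leaf 313))) (.node (.node (.leaf 304) (.leaf 309)) (.node (.leaf 301) (.leaf 305))))) (.node (.node (.node (.node (.leaf 95) (.leaf 98)) (.node (.leaf 102) (.leaf 100))) (.node (.node (.leaf 99) (.leaf 97)) (.node (.leaf 101) (.leaf 103)))) (.node (.node (.node (.leaf 303) (.leaf 308)) (.node (.leaf 315) (.leaf 311))) (.node (.node (.leaf 314) (.leaf 312)) (.node (.leaf 310) (.leaf 306))))))) (.node (.node (.node (.node (.node (.node (.leaf 44) (.leaf 63)) (.node (.leaf 60) (.leaf 74))) (.node (.node (.leaf 47) (.leaf 55)) (.node (.leaf 67) (.leaf 70)))) (.node (.node (.node (.leaf 53) (.leaf 71)) (.node (.leaf 46) (.leaf 69))) (.node (.node (.leaf 61) (.leaf 65)) (.node (.leaf 51) (.leaf 62))))) (.node (.node (.node (.node (.leaf 45) (.leaf 59)) (.node (.leaf 56) (.leaf 75))) (.node (.node (.leaf 52) (.leaf 49)) (.node (.leaf 72) (.leaf 64)))) (.node (.node (.node (.leaf 48) (.leaf 66)) (.node (.leaf 50) (.leaf 73)))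 (.node (.node (.leaf 58) (.leaf 54)) (.node (.leaf 68) (.leaf 57)))))) (.node (.node (.node (.node (.node (.leaf 220) (.leaf 238)) (.node (.leaf 245) (.leaf 251))) (.node (.node (.leaf 224) (.leaf 228)) (.node (.leaf 241) (.leaf 242)))) (.node (.node (.node (.leaf 248) (.leaf 222)) (.node (.leaf 244) (.leaf 239))) (.node (.node (.leaf 236) (.leaf 227)) (.node (.leaf 232) (.leaf 231))))) (.node (.node (.node (.node (.leaf 223) (.leaf 230)) (.node (.leaf 233) (.leaf 249))) (.node (.node (.leaf 237) (.leaf 221)) (.node (.leaf 250) (.leaf 246)))) (.node (.node (.node (.leaf 240) (.leaf 226)) (.node (.leaf 235) (.leaf 229))) (.node (.node (.leaf 234) (.leaf 247)) (.node (.leaf 225) (.leaf 243)))))))) (.node (.node (.node (.node (.node (.node (.node (.leaf 36) (.leaf 329)) (.node (.leaf 37) (.leaf 327))) (.node (.node (.leaf 324) (.leaf 41)) (.node (.leaf 325) (.leaf 39)))) (.node (.node (.node (.leaf 272) (.leaf 437)) (.node (.leaf 270) (.leaf 435))) (.node (.node (.leaf 432) (.leaf 274)) (.node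 (.leaf 433) (.leaf 275))))) (.node (.node (.node (.node (.leaf 268) (.leaf 438)) (.node (.leaf 269) (.leaf 439))) (.node (.node (.leaf 273) (.leaf 436)) (.node (.leaf 271) (.leaf 434)))) (.node (.node (.node (.leaf 40) (.leaf 330)) (.node (.leaf 38) (.leaf 331))) (.node (.node (.leaf 42) (.leaf 328)) (.node (.leaf 43) (.leaf 326)))))) (.node (.node (.node (.node (.node (.leaf 204) (.leaf 206)) (.node (.leaf 219) (.leaf 217))) (.node (.node (.leaf 218) (.leaf 216)) (.node (.leaf 205) (.leaf 208)))) (.node (.node (.node (.leaf 410) (.leaf 406)) (.node (.leaf 403) (.leaf 408))) (.node (.node (.leaf 409) (.leaf 405)) (.node (.leaf 407) (.leaf 411))))) (.node (.node (.node (.node (.leaf 400) (.leaf 412)) (.node (.leaf 414) (.leaf 402))) (.node (.node (.leaf 415) (.leaf 404)) (.node (.leaf 401) (.leaf 413)))) (.node (.node (.node (.leaf 215) (.leaf 212)) (.node (.leaf 207) (.leaf 210))) (.node (.node (.leaf 213) (.leaf 209)) (.node (.leaf 211) (.leaf 214))))))) (.node (.node (.node (.node (.node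 (.node (.leaf 172) (.leaf 195)) (.node (.leaf 184) (.leaf 202))) (.node (.node (.leaf 196) (.leaf 193)) (.node (.leaf 186) (.leaf 176)))) (.node (.node (.node (.leaf 177) (.leaf 200)) (.node (.leaf 174) (.leaf 199))) (.node (.node (.leaf 189) (.leaf 180)) (.node (.leaf 190) (.leaf 185))))) (.node (.node (.node (.node (.leaf 179) (.leaf 203)) (.node (.leaf 173) (.leaf 191))) (.node (.node (.leaf 178) (.leaf 182)) (.node (.leaf 187) (.leaf 198)))) (.node (.node (.node (.leaf 183) (.leaf 201)) (.node (.leaf 175) (.leaf 197))) (.node (.node (.leaf 181) (.leaf 188)) (.node (.leaf 192) (.leaf 194)))))) (.node (.node (.node (.node (.node (.leaf 368) (.leaf 398)) (.node (.leaf 396) (.leaf 393))) (.node (.node (.leaf 384) (.leaf 381)) (.node (.leaf 383) (.leaf 372)))) (.node (.node (.node (.leaf 389) (.leaf 370)) (.node (.leaf 390) (.leaf 382))) (.node (.node (.leaf 374) (.leaf 399)) (.node (.leaf 377) (.leaf 378))))) (.node (.node (.node (.node (.leaf 379) (.leaf 375)) (.node (.leaf 392) (.leaf 376)))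 (.node (.node (.leaf 388) (.leaf 386)) (.node (.leaf 391) (.leaf 369)))) (.node (.node (.node (.leaf 385) (.leaf 380)) (.node (.leaf 371) (.leaf 387))) (.node (.node (.leaf 373) (.leaf 397)) (.node (.leaf 395) (.leaf 394))))))))))

def witTab : List (List Nat) := [[2, 4], [5, 8], [7, 8], [8, 1], [5, 2], [7, 1], [5, 3], [5, 2], [6, 9], [5, 10], [7, 9], [13, 2], [5, 2], [6, 1], [5, 3]]

def defTab : List (Nat × Option Nat) := [(5, none), (22, none), (25, none), (2, none), (8, none)]

end H97.M24Loc
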