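import Cfsg.Agent.H97.M24Loc
import Cfsg.Agent.H97.M24QuotData
import Cfsg.Prelude.Def_Local

/-!
The central quotient of a Sylow 2-subgroup of M24.
-/

set_option autoImplicit false
set_option maxRecDepth 100000

namespace H97.M24Loc

open Cfsg

/-- Lookup in a binary table. -/
noncomputable def Tbl.get (T : Tbl) : ℕ → ℕ :=
  Tbl.rec (fun v _ => v) (fun _ _ gl gr i => bif Nat.beq (i % 2) 0 then gl (i / 2) else gr (i / 2)) T

noncomputable def qStep (e i : ℕ) : ℕ := (qStepTab.getD i (.leaf 0)).get e

/-- Product of two classes. -/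
noncomputable def mS (a b : ℕ) : ℕ :=
  (List.range 9).foldl (fun c i => if b.testBit i then qStep c i else c) a

/-- Two classes commute. -/
noncomputable def cm (a b : ℕ) : Bool := mS a b == mS b a

def inA (e : ℕ) : Bool := inAMask.testBit e

def clearAt (k : ℕ) : ℕ × ℕ × ℕ × ℕ :=
  (clearTab.getD (k / 16) []).getD (k % 16) (0, 9, 0, 0)

/-- The members of the centraliser of `e`. -/
noncomputable def cList (e : ℕ) : List ℕ := (List.range 512).filter fun x => cm e x

/-- The classes `e * x` for all `x` below `2 ^ n`, built by doubling. -/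
noncomputable def lTab (e : ℕ) : ℕ → List ℕ
  | 0 => [e]
  | n + 1 => lTab e n ++ (lTab e n).map fun v => qStep v n

/-- The members of the centraliser of `e`, found quickly. -/
noncomputable def cFast (e : ℕ) : List ℕ :=
  (((List.range 512).zip (lTab e 9)).filter fun q => q.2 == mS q.1 e).map Prod.fst

/-- Why the element at position `k` lies in no other abelian subgroup of order 64. -/
noncomputable def clearOK (k : ℕ) : Bool :=
  match clearAt k with
  | (e, t, x, y) =>
    if t = 0 then decide ((aList.filter fun a => cm e a).length < 8)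
    else if t = 1 then decide ((cFast e).length < 64)
    else if t = 2 then decide ((cFast e).length ≤ 64) && decide (x < 512) && decide (y < 512) &&
      cm e x && cm e y && !(cm x y)
    else if t = 3 then decide ((cFast e).length ≤ 128) && decide (x < 512) && decide (y < 512) &&
      decide (mS x y < 512) && cm e x && cm e y &&
      [x, y, mS x y].all fun u => decide (((cFast e).filter fun v => cm u v).length < 64)
    else if t = 4 then decide (x < k) && decide (y < 4) &&
      mS (2 ^ y) (clearAt x).1 == mS e (2 ^ y)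
    else false

noncomputable def posOK (e : ℕ) : Bool :=
  inA e || (decide (posTab.get e < 448) && (clearAt (posTab.get e)).1 == e)

noncomputable def qStepOK (e : ℕ) : Bool :=
  (List.range 9).all fun i => qStep e i == step e i % 512

noncomputable def qBitsOK (e : ℕ) : Bool := mulP e 512 == e + 512 && mS 0 e == e

/-- Two witnesses in a maximal subgroup cut its centre down to eight classes. -/
noncomputable def witOK (w : ℕ) : Bool :=
  let P := fun e : ℕ => Nat.beq ((List.range 4).countP (fun i => e.testBit i && w.testBit i) % 2) 0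
  let W := witTab.getD (w - 1) []
  (W.all fun x => decide (x < 512) && P x) &&
    decide (((List.range 512).filter fun e => P e && W.all fun x => cm e x).length ≤ 8)

noncomputable def defOK (k : ℕ) : Bool :=
  match defTab.getD k (0, none) with
  | (a, none) => decide (a < 512) && mS a a == 2 ^ (k + 4)
  | (a, some b) => decide (a < 512) && decide (b < 512) && mS (mS b a) (2 ^ (k + 4)) == mS a b

theorem qStep_all : (List.range 512).all qStepOK = true := by decide +kernel
theorem qBits_all : (List.range 512).all qBitsOK = true := by decide +kernel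
theorem pos_all : (List.range 512).all posOK = true := by decide +kernel
theorem clear_all : (List.range 448).all clearOK = true := by decide +kernel
theorem wit_all : (List.range 15).all (fun w => witOK (w + 1)) = true := by decide +kernel
theorem def_all : (List.range 5).all defOK = true := by decide +kernel
theorem aList_props : aList.length = 64 ∧ aList.Nodup ∧
    (aList.all fun a => decide (a < 512) && inA a && mS a a == 0 &&
      aGens.all fun g => aList.contains (mS a g) && cm a g) = true ∧
    (aGens.all fun g => decide (g < 512) && aList.contains g) = true ∧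
    ((List.range 512).all fun e => !(inA e) || aList.contains e) = true ∧
    aList.contains 0 = true := by
  decide +kernel

/-- The central quotient. -/
abbrev Q0 : Type := P0 ⧸ Subgroup.center P0

/-- The class with index `e`. -/
noncomputable def qS (e : Fin 512) : Q0 :=
  QuotientGroup.mk ⟨elP e.val, mem_P0.2 ⟨e.val, by omega, rfl⟩⟩

theorem mem_center_P0 (x : P0) : x ∈ Subgroup.center P0 ↔ x.1 = 1 ∨ x.1 = z := by
  constructor
  · intro h
    by_cases h1 : x.1 = 1
    · exact Or.inl h1
    · exact Or.inr (eq_z_of_central x.2 h1 fun y hy =>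
        congrArg Subtype.val (Subgroup.mem_center_iff.1 h ⟨y, hy⟩).symm)
  · rintro (h | h)
    · rw [show x = 1 from Subtype.ext h]; exact one_mem _
    · refine Subgroup.mem_center_iff.2 fun y => Subtype.ext ?_
      obtain ⟨e, he, hy⟩ := mem_P0.1 y.2
      show y.1 * x.1 = x.1 * y.1
      rw [h, hy]
      have : ∀ (l : List M24), (∀ g ∈ l, g * z = z * g) → l.prod * z = z * l.prod := by
        intro l
        induction l with
        | nil => intro _; simp
        | cons g l ih =>
          intro hl
          rw [List.prod_cons, mul_assoc, ih fun a ha => hl a (List.mem_cons_of_mem _ ha),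
            ← mul_assoc, hl g List.mem_cons_self, mul_assoc]
      refine this _ fun g hg => ?_
      obtain ⟨i, hi, rfl⟩ := List.mem_map.1 hg
      rw [dif_pos (List.mem_range.1 hi)]
      split
      · exact (z_comm_gen _).symm
      · simp

/-- Class of an element of `P0`. -/
theorem mk_elP {e : ℕ} (he : e < 1024) (h : elP e ∈ P0) :
    (QuotientGroup.mk (⟨elP e, h⟩ : P0) : Q0) = qS ⟨e % 512, Nat.mod_lt _ (by norm_num)⟩ := by
  by_cases hlt : e < 512
  · simp only [qS, Nat.mod_eq_of_lt hlt]
  · symm
    refine QuotientGroup.eq.2 ((mem_center_P0 _).2 (Or.inr ?_))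
    have hb := List.all_eq_true.1 qBits_all (e % 512) (List.mem_range.2 (Nat.mod_lt _ (by norm_num)))
    simp only [qBitsOK, Bool.and_eq_true, beq_iff_eq] at hb
    have hm : elP (e % 512) * z = elP e := by
      rw [z, (elP_mul (by omega) 512).1, hb.1]
      congr 1
      omega
    show (elP (e % 512))⁻¹ * elP e = z
    rw [← hm, inv_mul_cancel_left]

theorem qS_surjective : Function.Surjective qS := by
  intro q
  induction q using QuotientGroup.induction_on with
  | _ x =>
    obtain ⟨e, he, hx⟩ := mem_P0.1 x.2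
    have : x = ⟨elP e, mem_P0.2 ⟨e, he, rfl⟩⟩ := Subtype.ext hx
    exact ⟨_, (this ▸ mk_elP he _).symm⟩

theorem qS_injective : Function.Injective qS := by
  intro a b h
  rcases (mem_center_P0 _).1 (QuotientGroup.eq.1 h) with h' | h'
  · exact Fin.ext (elP_inj (by omega) (by omega) (inv_mul_eq_one.1 h'))
  · exfalso
    have h2 : elP b.val = elP a.val * z := inv_mul_eq_iff_eq_mul.1 h'
    have hb := List.all_eq_true.1 qBits_all a.val (List.mem_range.2 a.isLt)
    simp only [qBitsOK, Bool.and_eq_true, beq_iff_eq] at hb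
    rw [z, (elP_mul (by omega) 512).1, hb.1] at h2
    have := elP_inj (by omega) (by omega) h2
    omega

theorem card_Q0 : Nat.card Q0 = 512 := by
  rw [← Nat.card_congr (Equiv.ofBijective qS ⟨qS_injective, qS_surjective⟩), Nat.card_fin]

theorem qS_mul (a b : Fin 512) : ∃ h : mS a b < 512, qS a * qS b = qS ⟨mS a b, h⟩ := by
  have key : ∀ (l : List ℕ) (c : ℕ) (y : P0), (∀ i ∈ l, i < 9) → c < 1024 →
      (QuotientGroup.mk y : Q0) = qS ⟨c % 512, Nat.mod_lt _ (by norm_num)⟩ →
      ∀ (c' : Fin 512), c'.val = c % 512 →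
      ∀ (hmem : (l.map fun i => if h : i < 10 then
          (if b.val.testBit i then gen ⟨i, by omega⟩ else 1) else 1).prod ∈ P0),
      ∃ h : l.foldl (fun c i => if b.val.testBit i then qStep c i else c) (c % 512) < 512,
        (QuotientGroup.mk (y * ⟨_, hmem⟩) : Q0) = qS ⟨_, h⟩ := by
    intro l
    induction l with
    | nil =>
      intro c y _ hc hy c' hc' hmem
      refine ⟨Nat.mod_lt _ (by norm_num), ?_⟩
      have : (⟨_, hmem⟩ : P0) = 1 := Subtype.ext (by simp)
      rw [this, mul_one]; exact hy
    | cons i l ih =>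
      intro c y hl hc hy c' hc' hmem
      have hi := hl i List.mem_cons_self
      have hcl : c % 512 < 1024 := by omega
      simp only [List.foldl_cons]
      by_cases hbit : b.val.testBit i
      · have hgi : gen ⟨i, by omega⟩ ∈ P0 := by
          rw [← elP_gen ⟨i, by omega⟩]
          exact mem_P0.2 ⟨_, lt_of_le_of_lt (Nat.pow_le_pow_right (by norm_num) (show i ≤ 9 by omega))
            (by norm_num), rfl⟩
        have hs := List.all_eq_true.1 qStep_all (c % 512) (List.mem_range.2 (Nat.mod_lt _ (by norm_num)))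
        simp only [qStepOK, List.all_eq_true, beq_iff_eq] at hs
        have hs' := hs i (List.mem_range.2 hi)
        obtain ⟨hlt, hstep⟩ := step_spec hcl (show i < 10 by omega)
        have he : elP (c % 512) * gen ⟨i, by omega⟩ = elP (step (c % 512) i) :=
          ext_code (by rw [Subgroup.coe_mul, MOut.code_mul, code_elP hcl, code_gen, code_elP hlt, hstep])
        have hrest : (l.map fun i => if h : i < 10 then
            (if b.val.testBit i then gen ⟨i, by omega⟩ else 1) else 1).prod ∈ P0 := by
          have := mul_mem (inv_mem hgi) hmem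
          simpa [List.map_cons, List.prod_cons, dif_pos (show i < 10 by omega), hbit] using this
        have hy' : (QuotientGroup.mk (y * ⟨_, hgi⟩) : Q0) =
            qS ⟨step (c % 512) i % 512, Nat.mod_lt _ (by norm_num)⟩ := by
          rw [QuotientGroup.mk_mul, hy, qS, ← QuotientGroup.mk_mul,
            ← mk_elP hlt (mem_P0.2 ⟨_, hlt, rfl⟩)]
          exact congrArg _ (Subtype.ext he)
        obtain ⟨h, e⟩ := ih (step (c % 512) i) (y * ⟨_, hgi⟩)
          (fun j hj => hl j (List.mem_cons_of_mem _ hj)) hlt hy' ⟨_, Nat.mod_lt _ (by norm_num)⟩ rfl hrest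
        simp only [if_pos hbit, hs']
        refine ⟨h, ?_⟩
        rw [← e]
        refine congrArg _ (Subtype.ext ?_)
        simp [List.map_cons, List.prod_cons, dif_pos (show i < 10 by omega), hbit, mul_assoc]
      · have hrest : (l.map fun i => if h : i < 10 then
            (if b.val.testBit i then gen ⟨i, by omega⟩ else 1) else 1).prod ∈ P0 := by
          simpa [List.map_cons, List.prod_cons, dif_pos (show i < 10 by omega), hbit] using hmem
        obtain ⟨h, e⟩ := ih c y (fun j hj => hl j (List.mem_cons_of_mem _ hj)) hc hy c' hc' hrest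
        simp only [if_neg hbit]
        refine ⟨h, ?_⟩
        rw [← e]
        refine congrArg _ (Subtype.ext ?_)
        simp [List.map_cons, List.prod_cons, dif_pos (show i < 10 by omega), hbit]
  have hb9 : b.val.testBit 9 = false := Nat.testBit_lt_two_pow (b.isLt.trans_le (by norm_num))
  have hl : elP b.val = ((List.range 9).map fun i => if h : i < 10 then
      (if b.val.testBit i then gen ⟨i, by omega⟩ else 1) else 1).prod := by
    rw [elP, List.range_succ, List.map_append, List.prod_append]
    simp [hb9]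
  obtain ⟨h, e⟩ := key (List.range 9) a.val ⟨elP a.val, mem_P0.2 ⟨_, by omega, rfl⟩⟩
    (fun i hi => List.mem_range.1 hi) (by omega) (mk_elP (by omega) _) a
    (Nat.mod_eq_of_lt a.isLt).symm (hl ▸ mem_P0.2 ⟨_, by omega, rfl⟩)
  have ha : a.val % 512 = a.val := Nat.mod_eq_of_lt a.isLt
  simp only [ha] at h e
  refine ⟨h, ?_⟩
  rw [qS, qS, ← QuotientGroup.mk_mul]
  refine Eq.trans (congrArg _ (Subtype.ext ?_)) e
  simp [hl]

theorem qS_zero : qS 0 = 1 := by
  rw [qS, show (⟨elP (0 : Fin 512).val, _⟩ : P0) = 1 from Subtype.ext elP_zero]; rfl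

theorem qS_comm {a b : Fin 512} : qS a * qS b = qS b * qS a ↔ cm a b = true := by
  obtain ⟨h1, e1⟩ := qS_mul a b
  obtain ⟨h2, e2⟩ := qS_mul b a
  rw [e1, e2, qS_injective.eq_iff, cm, beq_iff_eq, Fin.ext_iff]

/-- Indices of the members of a subgroup. -/
noncomputable def idxSet (B : Subgroup Q0) : Finset (Fin 512) :=
  (Set.toFinite {e : Fin 512 | qS e ∈ B}).toFinset

theorem mem_idxSet {B : Subgroup Q0} {e : Fin 512} : e ∈ idxSet B ↔ qS e ∈ B := by
  simp [idxSet]

theorem card_idxSet (B : Subgroup Q0) : (idxSet B).card = Nat.card B := by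
  rw [← Nat.card_eq_finsetCard]
  exact Nat.card_congr (((Equiv.subtypeEquivRight fun e => mem_idxSet)).trans
    ((Equiv.ofBijective qS ⟨qS_injective, qS_surjective⟩).subtypeEquiv fun e => Iff.rfl))

/-- A finset of indices inside the range filter is no bigger than it. -/
theorem card_le_filter (s : Finset (Fin 512)) (p : ℕ → Bool) (h : ∀ e ∈ s, p e.val = true) :
    s.card ≤ ((List.range 512).filter p).length := by
  rw [← Finset.card_map Fin.valEmbedding, ← List.toFinset_card_of_nodup (List.nodup_range.filter p)]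
  refine Finset.card_le_card fun x hx => ?_
  obtain ⟨e, he, rfl⟩ := Finset.mem_map.1 hx
  simp [h e he]

/-- The abelian subgroup of order 64. -/
noncomputable def A0 : Subgroup Q0 :=
  Subgroup.closure (qS '' {g | g.val ∈ aGens})

theorem qS_of_mem_aList {x : Q0} (hx : x ∈ A0) : ∃ e : Fin 512, e.val ∈ aList ∧ x = qS e := by
  obtain ⟨-, -, hA, -, -, h0⟩ := aList_props
  simp only [List.all_eq_true, Bool.and_eq_true, decide_eq_true_eq, List.contains_iff_mem] at hA
  let S : Submonoid Q0 :=
    { carrier := {g | ∀ e : Fin 512, e.val ∈ aList → ∃ f : Fin 512, f.val ∈ aList ∧ qS e * g = qS f}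
      one_mem' := fun e he => ⟨e, he, mul_one _⟩
      mul_mem' := fun {a b} ha hb e he => by
        obtain ⟨f, hf, h⟩ := ha e he
        obtain ⟨f', hf', h'⟩ := hb f hf
        exact ⟨f', hf', by rw [← mul_assoc, h, h']⟩ }
  have hxS : x ∈ S := by
    rw [A0, ← Subgroup.mem_toSubmonoid, Subgroup.closure_toSubmonoid_of_finite] at hx
    refine Submonoid.closure_le.2 ?_ hx
    rintro _ ⟨g, hg, rfl⟩ e he
    obtain ⟨h, eq⟩ := qS_mul e g
    exact ⟨⟨_, h⟩, ((hA _ he).2 _ hg).1, eq⟩
  obtain ⟨f, hf, h⟩ := hxS 0 (by simpa using h0)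
  exact ⟨f, hf, by rw [← h, qS_zero, one_mul]⟩

theorem A0_comm : ∀ a ∈ A0, ∀ b ∈ A0, a * b = b * a := by
  obtain ⟨-, -, hA, hgA, -, -⟩ := aList_props
  simp only [List.all_eq_true, Bool.and_eq_true, decide_eq_true_eq, List.contains_iff_mem] at hA hgA
  intro a ha b hb
  obtain ⟨e, he, rfl⟩ := qS_of_mem_aList ha
  refine (Subgroup.closure_le (Subgroup.centralizer ({qS e} : Set Q0))).2 ?_ hb |>
    Subgroup.mem_centralizer_singleton_iff.1 |> Eq.symm
  rintro _ ⟨g, hg, rfl⟩
  exact Subgroup.mem_centralizer_singleton_iff.2 (qS_comm.2 ((hA _ he).2 _ hg).2).symm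

theorem A0_sq {x : Q0} (hx : x ∈ A0) : x * x = 1 := by
  obtain ⟨-, -, hA, -, -, -⟩ := aList_props
  simp only [List.all_eq_true, Bool.and_eq_true, decide_eq_true_eq, beq_iff_eq] at hA
  obtain ⟨e, he, rfl⟩ := qS_of_mem_aList hx
  obtain ⟨h, eq⟩ := qS_mul e e
  rw [eq, ← qS_zero]
  exact congrArg qS (Fin.ext (hA _ he).1.2)

/-- Membership follows the list: checked by expressing each listed class in the generators. -/
theorem card_A0 : Nat.card A0 = 64 := by
  refine le_antisymm ?_ ?_
  · rw [← card_idxSet]
    calc (idxSet A0).card ≤ ((List.range 512).filter fun e => aList.contains e).length :=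
          card_le_filter _ _ fun e he => by
            obtain ⟨f, hf, h⟩ := qS_of_mem_aList (mem_idxSet.1 he)
            rw [qS_injective h]
            simpa using hf
      _ ≤ 64 := by decide +kernel
  · have hgen : (List.range 64).all (fun k => aList.contains
        ((List.range 6).foldl (fun c i => if k.testBit i then mS c (aGens.getD i 0) else c) 0)) = true ∧
        ((List.range 64).map fun k =>
          (List.range 6).foldl (fun c i => if k.testBit i then mS c (aGens.getD i 0) else c) 0).Nodup ∧
        ((List.range 6).all fun i => decide (aGens.getD i 0 < 512) && aGens.contains (aGens.getD i 0)) = true := by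
      decide +kernel
    have hmem : ∀ (k : ℕ) (l : List ℕ), (∀ i ∈ l, i < 6) → ∀ c : Fin 512, qS c ∈ A0 →
        ∃ f : Fin 512, f.val = l.foldl (fun c i => if k.testBit i then mS c (aGens.getD i 0) else c) c.val ∧
          qS f ∈ A0 := by
      intro k l
      induction l with
      | nil => intro _ c hc; exact ⟨c, rfl, hc⟩
      | cons i l ih =>
        intro hl c hc
        rw [List.foldl_cons]
        have hi := List.all_eq_true.1 hgen.2.2 i (List.mem_range.2 (hl i List.mem_cons_self))
        simp only [Bool.and_eq_true, decide_eq_true_eq, List.contains_iff_mem] at hi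
        split
        · obtain ⟨h, e⟩ := qS_mul c ⟨_, hi.1⟩
          refine ih (fun j hj => hl j (List.mem_cons_of_mem _ hj)) ⟨_, h⟩ ?_
          rw [← e]
          exact mul_mem hc (Subgroup.subset_closure ⟨⟨_, hi.1⟩, hi.2, rfl⟩)
        · exact ih (fun j hj => hl j (List.mem_cons_of_mem _ hj)) c hc
    have hpick : ∀ k : Fin 64, ∃ f : Fin 512, f.val = (List.range 6).foldl
        (fun c i => if k.val.testBit i then mS c (aGens.getD i 0) else c) 0 ∧ qS f ∈ A0 := fun k =>
      hmem k.val (List.range 6) (fun i hi => List.mem_range.1 hi) 0 (by rw [qS_zero]; exact one_mem _)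
    choose f hf hfA using hpick
    have hinj : Function.Injective fun k : Fin 64 => (⟨qS (f k), hfA k⟩ : A0) := by
      intro a b h
      have h' := congrArg Fin.val (qS_injective (congrArg Subtype.val h))
      rw [hf, hf] at h'
      have := List.pairwise_iff_getElem.1 hgen.2.1
      by_contra hne
      rcases lt_or_gt_of_ne (fun e => hne (Fin.ext e) : a.val ≠ b.val) with hl | hl
      · exact this a.val b.val (by simp) (by simp) hl (by simpa using h')
      · exact this b.val a.val (by simp) (by simp) hl (by simpa using h'.symm)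
    simpa using Nat.card_le_card_of_injective _ hinj

theorem qS_mem_A0_iff {e : Fin 512} : qS e ∈ A0 ↔ inA e.val = true := by
  obtain ⟨hlen, hnd, hA, -, hmask, -⟩ := aList_props
  simp only [List.all_eq_true, Bool.and_eq_true, decide_eq_true_eq] at hA
  constructor
  · intro h
    obtain ⟨f, hf, h'⟩ := qS_of_mem_aList h
    rw [qS_injective h']
    exact (hA _ hf).1.1.2
  · intro h
    have he : e.val ∈ aList := by
      have := List.all_eq_true.1 hmask e.val (List.mem_range.2 e.isLt)
      simpa [h] using this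
    classical
    let T : Finset (Fin 512) := Finset.univ.filter fun f => f.val ∈ aList
    have hsub : idxSet A0 ⊆ T := fun f hf => by
      obtain ⟨g, hg, hg'⟩ := qS_of_mem_aList (mem_idxSet.1 hf)
      rw [qS_injective hg']
      exact Finset.mem_filter.2 ⟨Finset.mem_univ _, hg⟩
    have hT : T.card ≤ 64 := by
      rw [← hlen, ← List.toFinset_card_of_nodup hnd, ← Finset.card_map Fin.valEmbedding]
      refine Finset.card_le_card fun x hx => ?_
      obtain ⟨f, hf, rfl⟩ := Finset.mem_map.1 hx
      simpa [T] using hf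
    have heq := Finset.eq_of_subset_of_card_le hsub (by rw [card_idxSet, card_A0]; exact hT)
    rw [← mem_idxSet, heq]
    simpa [T] using he

theorem index_A0 : A0.index = 8 := by
  have := A0.card_mul_index
  rw [card_A0, card_Q0] at this
  omega

theorem lTab_eq (e : ℕ) : ∀ n, lTab e n = (List.range (2 ^ n)).map fun x =>
    (List.range n).foldl (fun c i => if x.testBit i then qStep c i else c) e
  | 0 => by simp [lTab]
  | n + 1 => by
    rw [lTab, lTab_eq e n, pow_succ, mul_two]
    conv_rhs => arg 2; rw [List.range_add]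
    rw [List.map_append, List.map_map, List.map_map]
    congr 1
    · refine List.map_congr_left fun x hx => ?_
      rw [List.range_succ, List.foldl_append]
      simp [Nat.testBit_lt_two_pow (List.mem_range.1 hx)]
    · refine List.map_congr_left fun x hx => ?_
      simp only [Function.comp_apply, List.range_succ, List.foldl_append, List.foldl_cons,
        List.foldl_nil]
      have hx' := List.mem_range.1 hx
      have hb : (2 ^ n + x).testBit n = true := by
        rw [Nat.testBit_two_pow_add_eq, Nat.testBit_lt_two_pow hx']; rfl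
      rw [if_pos hb]
      congr 1
      refine List.foldl_ext _ _ _ fun c i hi => ?_
      rw [Nat.testBit_two_pow_add_gt (List.mem_range.1 hi)]

theorem cFast_eq (e : ℕ) : cFast e = cList e := by
  have key : ∀ (l : List ℕ) (f : ℕ → ℕ),
      ((l.zip (l.map f)).filter fun q => q.2 == mS q.1 e).map Prod.fst =
        l.filter fun x => f x == mS x e := by
    intro l f
    induction l with
    | nil => rfl
    | cons a l ih =>
      simp only [List.map_cons, List.zip_cons_cons, List.filter_cons]
      split <;> simp [ih]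
  have h := lTab_eq e 9
  rw [cFast, h, show (2 : ℕ) ^ 9 = 512 from rfl, key]
  rfl

/-- Every class outside `A0` lies in no abelian subgroup of order 64. -/
theorem clear_spec : ∀ k < 448, ∀ e : Fin 512, (clearAt k).1 = e.val → inA e.val = false →
    ∀ B : Subgroup Q0, (∀ a ∈ B, ∀ b ∈ B, a * b = b * a) → Nat.card B = 64 → qS e ∉ B := by
  intro k
  induction k using Nat.strong_induction_on with
  | _ k ih =>
  intro hk e hke hinA B hB hcard hmem
  classical
  have h := List.all_eq_true.1 clear_all k (List.mem_range.2 hk)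
  simp only [clearOK] at h
  rcases hq : clearAt k with ⟨e', t, x, y⟩
  rw [hq] at h hke
  simp only at h hke
  subst hke
  have hcomm : ∀ f : Fin 512, qS f ∈ B → cm e.val f.val = true := fun f hf =>
    qS_comm.1 (hB _ hmem _ hf)
  simp only [cFast_eq] at h
  have hC : (idxSet B).card ≤ (cList e.val).length :=
    card_le_filter _ _ fun f hf => hcomm f (mem_idxSet.1 hf)
  rw [card_idxSet, hcard] at hC
  split_ifs at h with h0 h1 h2 h3 h4
  · simp only [decide_eq_true_eq] at h
    have hrel : (A0 ⊓ B).relIndex B ≤ 8 := by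
      rw [Subgroup.inf_relIndex_right, ← index_A0]
      rw [← Subgroup.relIndex_top_right]
      exact Subgroup.relIndex_le_of_le_right le_top (by
        rw [Subgroup.relIndex_top_right, index_A0]; norm_num)
    have hprod := Subgroup.relIndex_mul_relIndex ⊥ (A0 ⊓ B) B bot_le inf_le_right
    rw [Subgroup.relIndex_bot_left, Subgroup.relIndex_bot_left, hcard] at hprod
    have h8 : 8 ≤ Nat.card (A0 ⊓ B : Subgroup Q0) := by nlinarith
    rw [← card_idxSet] at h8
    have hnd : aList.Nodup := aList_props.2.1
    have : (idxSet (A0 ⊓ B)).card ≤ (aList.filter fun a => cm e.val a).length := by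
      rw [← Finset.card_map Fin.valEmbedding, ← List.toFinset_card_of_nodup (hnd.filter _)]
      refine Finset.card_le_card fun w hw => ?_
      obtain ⟨f, hf, rfl⟩ := Finset.mem_map.1 hw
      obtain ⟨hfA, hfB⟩ := Subgroup.mem_inf.1 (mem_idxSet.1 hf)
      obtain ⟨g, hg, hg'⟩ := qS_of_mem_aList hfA
      rw [List.mem_toFinset, List.mem_filter]
      exact ⟨by rw [qS_injective hg']; exact hg, hcomm f hfB⟩
    omega
  · simp only [decide_eq_true_eq] at h
    omega
  · simp only [Bool.and_eq_true, decide_eq_true_eq, Bool.not_eq_true'] at h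
    obtain ⟨⟨⟨⟨⟨hle, hx⟩, hy⟩, hex⟩, hey⟩, hxy⟩ := h
    let T : Finset (Fin 512) := Finset.univ.filter fun f => cm e.val f.val = true
    have hsub : idxSet B ⊆ T := fun f hf =>
      Finset.mem_filter.2 ⟨Finset.mem_univ _, hcomm f (mem_idxSet.1 hf)⟩
    have hT : T.card ≤ (cList e.val).length :=
      card_le_filter _ _ fun f hf => (Finset.mem_filter.1 hf).2
    have heq := Finset.eq_of_subset_of_card_le hsub (by rw [card_idxSet, hcard]; omega)
    have hxB : qS ⟨x, hx⟩ ∈ B := mem_idxSet.1 (heq ▸ Finset.mem_filter.2 ⟨Finset.mem_univ _, hex⟩)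
    have hyB : qS ⟨y, hy⟩ ∈ B := mem_idxSet.1 (heq ▸ Finset.mem_filter.2 ⟨Finset.mem_univ _, hey⟩)
    have := qS_comm.1 (hB _ hxB _ hyB)
    rw [show cm (⟨x, hx⟩ : Fin 512).val (⟨y, hy⟩ : Fin 512).val = cm x y from rfl, hxy] at this
    exact absurd this (by simp)
  · simp only [Bool.and_eq_true, decide_eq_true_eq, List.all_eq_true] at h
    obtain ⟨⟨⟨⟨⟨⟨hle, hx⟩, hy⟩, hxy⟩, hex⟩, hey⟩, hall⟩ := h
    have hout : ∀ u : Fin 512, u.val ∈ [x, y, mS x y] → qS u ∉ B := fun u hu huB => by
      have h1 := hall _ hu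
      have h2 : (idxSet B).card ≤ ((cList e.val).filter fun v => cm u.val v).length := by
        rw [cList, List.filter_filter]
        exact card_le_filter _ _ fun g hg => by
          simp only [Bool.and_eq_true]
          exact ⟨qS_comm.1 (hB _ huB _ (mem_idxSet.1 hg)), hcomm g (mem_idxSet.1 hg)⟩
      rw [card_idxSet, hcard] at h2
      omega
    set E := Subgroup.centralizer ({qS e} : Set Q0) with hE
    have hBE : B ≤ E := fun b hb => Subgroup.mem_centralizer_singleton_iff.2 (hB b hb _ hmem)
    have hEcard : Nat.card E ≤ 128 := by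
      rw [← card_idxSet]
      refine le_trans (card_le_filter _ _ fun f hf => ?_) hle
      exact (qS_comm (a := e) (b := f)).1 (Subgroup.mem_centralizer_singleton_iff.1 (mem_idxSet.1 hf)).symm
    have hx' : qS ⟨x, hx⟩ ∈ E := Subgroup.mem_centralizer_singleton_iff.2 ((qS_comm (a := e) (b := ⟨x, hx⟩)).2 hex).symm
    have hy' : qS ⟨y, hy⟩ ∈ E := Subgroup.mem_centralizer_singleton_iff.2 ((qS_comm (a := e) (b := ⟨y, hy⟩)).2 hey).symm
    obtain ⟨u3, e3⟩ := qS_mul ⟨x, hx⟩ ⟨y, hy⟩
    have hne : (B.subgroupOf E).index = 2 := by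
      have h1 := (B.subgroupOf E).card_mul_index
      rw [Nat.card_congr (Subgroup.subgroupOfEquivOfLe hBE).toEquiv, hcard] at h1
      have h2 : (B.subgroupOf E).index ≠ 1 := fun h2 => hout ⟨x, hx⟩ (by simp) <| by
        have := Subgroup.index_eq_one.1 h2
        have hm : (⟨_, hx'⟩ : E) ∈ B.subgroupOf E := this ▸ Subgroup.mem_top _
        exact Subgroup.mem_subgroupOf.1 hm
      have h3 : (B.subgroupOf E).index ≠ 0 := fun h3 => by
        rw [h3, mul_zero] at h1
        exact (Nat.card_pos (α := E)).ne h1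
      omega
    have h4 := (Subgroup.mul_mem_iff_of_index_two hne (a := ⟨_, hx'⟩) (b := ⟨_, hy'⟩)).2
      (iff_of_false (fun h5 => hout ⟨x, hx⟩ (by simp) (Subgroup.mem_subgroupOf.1 h5))
        (fun h5 => hout ⟨y, hy⟩ (by simp) (Subgroup.mem_subgroupOf.1 h5)))
    exact hout ⟨_, u3⟩ (by simp) (e3 ▸ Subgroup.mem_subgroupOf.1 h4)
  · simp only [Bool.and_eq_true, decide_eq_true_eq, beq_iff_eq] at h
    obtain ⟨⟨hxk, hy⟩, heq⟩ := h
    have hlt : (clearAt x).1 < 512 := (show ∀ k < 448, (clearAt k).1 < 512 from fun k hk =>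
      of_decide_eq_true (List.all_eq_true.1 (show ((List.range 448).all fun k =>
        decide ((clearAt k).1 < 512)) = true by decide +kernel) k (List.mem_range.2 hk))) x (by omega)
    have hg : 2 ^ y < 512 := lt_of_le_of_lt (Nat.pow_le_pow_right (by norm_num) (show y ≤ 3 by omega))
      (by norm_num)
    obtain ⟨u1, e1⟩ := qS_mul ⟨_, hg⟩ ⟨_, hlt⟩
    obtain ⟨u2, e2⟩ := qS_mul e ⟨_, hg⟩
    have hconj : qS ⟨_, hg⟩ * qS ⟨_, hlt⟩ = qS e * qS ⟨_, hg⟩ := by
      rw [e1, e2]; exact congrArg qS (Fin.ext heq)
    set g := qS ⟨_, hg⟩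
    set p := qS ⟨_, hlt⟩
    have hinAx : inA (clearAt x).1 = false := by
      have := List.all_eq_true.1 (show ((List.range 448).all fun k => !(inA (clearAt k).1)) = true by
        decide +kernel) x (List.mem_range.2 (by omega))
      simpa using this
    refine ih x hxk (by omega) ⟨_, hlt⟩ rfl hinAx (B.map (MulAut.conj g⁻¹).toMonoidHom) ?_ ?_ ?_
    · rintro _ ⟨a, ha, rfl⟩ _ ⟨b, hb, rfl⟩
      rw [← map_mul, ← map_mul, hB a ha b hb]
    · rw [← hcard]
      exact (Nat.card_congr (B.equivMapOfInjective _ (MulAut.conj g⁻¹).injective).toEquiv).symm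
    · refine ⟨qS e, hmem, ?_⟩
      show g⁻¹ * qS e * g⁻¹⁻¹ = p
      rw [inv_inv, mul_assoc, ← hconj, inv_mul_cancel_left]

theorem unique_abelian64 (B : Subgroup Q0) (hB : ∀ a ∈ B, ∀ b ∈ B, a * b = b * a)
    (hcard : Nat.card B = 64) : B = A0 := by
  refine Subgroup.eq_of_le_of_card_ge ?_ (by rw [card_A0, hcard])
  intro q hq
  obtain ⟨e, rfl⟩ := qS_surjective q
  rw [qS_mem_A0_iff]
  by_contra hne
  have h := List.all_eq_true.1 pos_all e.val (List.mem_range.2 e.isLt)
  simp only [posOK, Bool.or_eq_true, Bool.and_eq_true, decide_eq_true_eq, beq_iff_eq] at h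
  obtain ⟨h1, h2⟩ := h.resolve_left hne
  exact clear_spec _ h1 e h2 (by simpa using hne) B hB hcard hq

theorem isPGroup_Q0 : IsPGroup 2 Q0 := IsPGroup.of_card (n := 9) (by rw [card_Q0]; rfl)

theorem coatom_index {M : Subgroup Q0} (hM : IsCoatom M) : M.index = 2 := by
  haveI : Fact (Nat.Prime 2) := ⟨Nat.prime_two⟩
  haveI : Group.IsNilpotent Q0 := isPGroup_Q0.isNilpotent
  haveI hn : M.Normal := Subgroup.NormalizerCondition.normal_of_coatom M Group.normalizerCondition_of_isNilpotent hM
  have hpq : IsPGroup 2 (Q0 ⧸ M) := isPGroup_Q0.to_quotient M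
  obtain ⟨k, hk⟩ := hpq.exists_card_eq
  have hk1 : M.index ≠ 1 := fun h => hM.1 (Subgroup.index_eq_one.1 h)
  rw [Subgroup.index] at hk1 ⊢
  have hdvd : 2 ∣ Nat.card (Q0 ⧸ M) := by
    rcases Nat.eq_zero_or_pos k with rfl | hpos
    · exact absurd (hk.trans (pow_zero 2)) hk1
    · rw [hk]; exact dvd_pow_self 2 hpos.ne'
  obtain ⟨x, hx⟩ := exists_prime_orderOf_dvd_card' 2 hdvd
  have hlt : M < (Subgroup.zpowers x).comap (QuotientGroup.mk' M) := by
    refine lt_of_le_of_ne (fun m hm => ?_) fun heq => ?_
    · rw [Subgroup.mem_comap, QuotientGroup.mk'_apply, (QuotientGroup.eq_one_iff m).2 hm]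
      exact one_mem _
    · obtain ⟨y, rfl⟩ := QuotientGroup.mk'_surjective M x
      have hy : y ∈ M := heq.symm ▸ (Subgroup.mem_zpowers _ : QuotientGroup.mk' M y ∈ _)
      rw [QuotientGroup.mk'_apply, (QuotientGroup.eq_one_iff y).2 hy, orderOf_one] at hx
      omega
  have htop := hM.2 _ hlt
  have hz : Subgroup.zpowers x = ⊤ := by
    rw [← Subgroup.map_comap_eq_self_of_surjective (QuotientGroup.mk'_surjective M) (Subgroup.zpowers x),
      htop, Subgroup.map_top_of_surjective _ (QuotientGroup.mk'_surjective M)]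
  rw [← Subgroup.card_top (G := Q0 ⧸ M), ← hz, Nat.card_zpowers, hx]

theorem center_coatom_le {M : Subgroup Q0} (hM : IsCoatom M) :
    Nat.card (Subgroup.center M) ≤ 8 := by
  classical
  have hidx := coatom_index hM
  have hpow : ∀ i < 9, 2 ^ i < 512 := fun i hi =>
    lt_of_le_of_lt (Nat.pow_le_pow_right (by norm_num) (show i ≤ 8 by omega)) (by norm_num)
  -- whether a generator class lies outside M
  let out : ℕ → Bool := fun i => if h : i < 9 then decide (qS ⟨2 ^ i, hpow i h⟩ ∉ M) else false
  have hout4 : ∀ i < 9, 4 ≤ i → out i = false := by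
    intro i hi h4
    simp only [out, dif_pos hi, decide_eq_false_iff_not, not_not]
    have h := List.all_eq_true.1 def_all (i - 4) (List.mem_range.2 (by omega))
    simp only [defOK, show i - 4 + 4 = i by omega] at h
    split at h
    · rename_i a hd
      simp only [Bool.and_eq_true, decide_eq_true_eq, beq_iff_eq] at h
      obtain ⟨u, e⟩ := qS_mul ⟨a, h.1⟩ ⟨a, h.1⟩
      have : qS ⟨2 ^ i, hpow i hi⟩ = qS ⟨a, h.1⟩ * qS ⟨a, h.1⟩ := by
        rw [e]; exact congrArg qS (Fin.ext h.2.symm)
      rw [this]
      exact Subgroup.mul_self_mem_of_index_two hidx _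
    · rename_i a b hd
      simp only [Bool.and_eq_true, decide_eq_true_eq, beq_iff_eq] at h
      obtain ⟨u1, e1⟩ := qS_mul ⟨b, h.1.2⟩ ⟨a, h.1.1⟩
      obtain ⟨u2, e2⟩ := qS_mul ⟨_, u1⟩ ⟨2 ^ i, hpow i hi⟩
      obtain ⟨u3, e3⟩ := qS_mul ⟨a, h.1.1⟩ ⟨b, h.1.2⟩
      have heq : qS ⟨b, h.1.2⟩ * qS ⟨a, h.1.1⟩ * qS ⟨2 ^ i, hpow i hi⟩ = qS ⟨a, h.1.1⟩ * qS ⟨b, h.1.2⟩ := by
        rw [e1, e2, e3]; exact congrArg qS (Fin.ext h.2)
      have hba := Subgroup.mul_mem_iff_of_index_two hidx (a := qS ⟨b, h.1.2⟩) (b := qS ⟨a, h.1.1⟩)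
      have hab := Subgroup.mul_mem_iff_of_index_two hidx (a := qS ⟨a, h.1.1⟩) (b := qS ⟨b, h.1.2⟩)
      have htot := Subgroup.mul_mem_iff_of_index_two hidx
        (a := qS ⟨b, h.1.2⟩ * qS ⟨a, h.1.1⟩) (b := qS ⟨2 ^ i, hpow i hi⟩)
      rw [heq, hab, hba] at htot
      tauto
  have hbitS : ∀ i, ∀ hi : i < 9, ∀ c : Fin 512, ∃ f : Fin 512, f.val = qStep c.val i ∧
      qS c * qS ⟨2 ^ i, hpow i hi⟩ = qS f := by
    intro i hi c
    obtain ⟨u, e⟩ := qS_mul c ⟨2 ^ i, hpow i hi⟩
    refine ⟨_, ?_, e⟩
    show mS c.val (2 ^ i) = qStep c.val i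
    have : ∀ (l : List ℕ) (c : ℕ), l.Nodup →
        l.foldl (fun c j => if (2 ^ i).testBit j then qStep c j else c) c =
          if i ∈ l then qStep c i else c := by
      intro l
      induction l with
      | nil => intro c _; rfl
      | cons j l ih =>
        intro c hnd
        rw [List.nodup_cons] at hnd
        rw [List.foldl_cons, ih _ hnd.2, Nat.testBit_two_pow]
        by_cases hj : i = j
        · subst hj; simp [hnd.1]
        · simp [hj]
    rw [mS, this _ _ List.nodup_range, if_pos (List.mem_range.2 hi)]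
  have hpar : ∀ e : Fin 512,
      (qS e ∈ M ↔ (List.range 9).countP (fun i => e.val.testBit i && out i) % 2 = 0) := by
    intro e
    have key : ∀ (l : List ℕ), (∀ i ∈ l, i < 9) → ∀ c : Fin 512, ∃ f : Fin 512,
        f.val = l.foldl (fun c i => if e.val.testBit i then qStep c i else c) c.val ∧
        (qS f ∈ M ↔ (qS c ∈ M ↔ l.countP (fun i => e.val.testBit i && out i) % 2 = 0)) := by
      intro l
      induction l with
      | nil => intro _ c; exact ⟨c, rfl, by simp⟩
      | cons i l ih =>
        intro hl c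
        have hi := hl i List.mem_cons_self
        rw [List.foldl_cons, List.countP_cons]
        by_cases hb : e.val.testBit i
        · obtain ⟨g, hg, hg'⟩ := hbitS i hi c
          obtain ⟨f, hf, hf'⟩ := ih (fun j hj => hl j (List.mem_cons_of_mem _ hj)) g
          refine ⟨f, by rw [if_pos hb, ← hg]; exact hf, ?_⟩
          rw [hf', ← hg', Subgroup.mul_mem_iff_of_index_two hidx]
          by_cases ho : qS ⟨2 ^ i, hpow i hi⟩ ∈ M
          · simp [hb, out, hi, ho]
          · simp only [hb, out, dif_pos hi, ho, not_false_eq_true, decide_true, Bool.and_self,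
              if_true, iff_false]
            by_cases hc : qS c ∈ M <;> simp [hc] <;> omega
        · obtain ⟨f, hf, hf'⟩ := ih (fun j hj => hl j (List.mem_cons_of_mem _ hj)) c
          refine ⟨f, by rw [if_neg hb]; exact hf, ?_⟩
          rw [hf']
          simp [hb]
    obtain ⟨f, hf, hf'⟩ := key (List.range 9) (fun i hi => List.mem_range.1 hi) 0
    have hq := List.all_eq_true.1 qBits_all e.val (List.mem_range.2 e.isLt)
    simp only [qBitsOK, Bool.and_eq_true, beq_iff_eq] at hq
    have hfe : f = e := Fin.ext (hf.trans hq.2)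
    rw [hfe, qS_zero] at hf'
    simpa [one_mem] using hf'
  let w : ℕ := (List.range 4).foldl (fun acc i => if out i then acc ||| 2 ^ i else acc) 0
  have hwfun : ∀ b0 b1 b2 b3 : Bool,
      let v := (List.range 4).foldl (fun acc i =>
        if [b0, b1, b2, b3].getD i false then acc ||| 2 ^ i else acc) 0
      v < 16 ∧ (∀ i : Fin 4, v.testBit i.val = [b0, b1, b2, b3].getD i.val false) ∧
        (v = 0 → b0 = false ∧ b1 = false ∧ b2 = false ∧ b3 = false) := by decide +kernel
  have hw := hwfun (out 0) (out 1) (out 2) (out 3)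
  have hwdef : (List.range 4).foldl (fun acc i =>
      if [out 0, out 1, out 2, out 3].getD i false then acc ||| 2 ^ i else acc) 0 = w := by
    simp [w, List.range_succ]
  simp only [hwdef] at hw
  obtain ⟨hw16, hwbit, hw0⟩ := hw
  have hbit : ∀ i < 4, w.testBit i = out i := by
    intro i hi
    rw [hwbit ⟨i, hi⟩]
    interval_cases i <;> rfl
  have hpar' : ∀ e : Fin 512, (qS e ∈ M ↔
      Nat.beq ((List.range 4).countP (fun i => e.val.testBit i && w.testBit i) % 2) 0 = true) := by
    intro e
    rw [hpar e, show List.range 9 = List.range 4 ++ [4, 5, 6, 7, 8] from rfl, List.countP_append]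
    have h2 : [4, 5, 6, 7, 8].countP (fun i => e.val.testBit i && out i) = 0 := by
      simp [hout4 4, hout4 5, hout4 6, hout4 7, hout4 8]
    have h1 : (List.range 4).countP (fun i => e.val.testBit i && w.testBit i) =
        (List.range 4).countP (fun i => e.val.testBit i && out i) :=
      List.countP_congr fun i hi => by rw [hbit i (List.mem_range.1 hi)]
    rw [h2, h1, Nat.add_zero]
    exact ⟨fun h => by rw [h]; rfl, fun h => Nat.eq_of_beq_eq_true h⟩
  have hwne : w ≠ 0 := by
    intro h0
    refine hM.1 (eq_top_iff.2 fun q _ => ?_)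
    obtain ⟨e, rfl⟩ := qS_surjective q
    rw [hpar' e, h0]
    simp
  have hwit := List.all_eq_true.1 wit_all (w - 1) (List.mem_range.2 (by omega))
  simp only [witOK, show w - 1 + 1 = w by omega, Bool.and_eq_true, decide_eq_true_eq,
    List.all_eq_true] at hwit
  refine le_trans ?_ hwit.2
  let Z : Subgroup Q0 := (Subgroup.center M).map M.subtype
  have hZ : Nat.card Z = Nat.card (Subgroup.center M) :=
    (Nat.card_congr ((Subgroup.center M).equivMapOfInjective _ M.subtype_injective).toEquiv).symm
  rw [← hZ, ← card_idxSet]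
  refine card_le_filter _ _ fun e he => ?_
  obtain ⟨c, hc, hce⟩ := mem_idxSet.1 he
  have hmem : qS e ∈ M := hce ▸ c.2
  simp only [Bool.and_eq_true, List.all_eq_true]
  refine ⟨(hpar' e).1 hmem, fun x hx => ?_⟩
  obtain ⟨hxlt, hxP⟩ := hwit.1 x hx
  have hxM : qS ⟨x, hxlt⟩ ∈ M := (hpar' ⟨x, hxlt⟩).2 hxP
  refine (qS_comm (a := e) (b := ⟨x, hxlt⟩)).1 ?_
  have := congrArg Subtype.val (Subgroup.mem_center_iff.1 hc ⟨_, hxM⟩)
  simp only [Subgroup.coe_mul] at this
  rw [← hce]
  exact this.symm

theorem summary_Q0 :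
    (∀ M : Subgroup Q0, IsCoatom M → Nat.card (Subgroup.center M) ≤ 8) ∧
      (∃ A : Subgroup Q0, IsElementaryAbelian 2 A ∧ Nat.card A = 64) ∧
      ∀ A B : Subgroup Q0, IsMulCommutative A → Nat.card A = 64 → IsMulCommutative B →
        Nat.card B = 64 → A = B := by
  refine ⟨fun M hM => center_coatom_le hM, ⟨A0, ⟨⟨⟨fun a b => Subtype.ext (A0_comm a.1 a.2 b.1 b.2)⟩⟩, fun x hx => by rw [pow_two]; exact A0_sq hx⟩,
    card_A0⟩, fun A B hA hcA hB hcB => ?_⟩
  rw [unique_abelian64 A (fun a ha b hb =>
      congrArg Subtype.val (hA.is_comm.comm ⟨a, ha⟩ ⟨b, hb⟩)) hcA,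
    unique_abelian64 B (fun a ha b hb =>
      congrArg Subtype.val (hB.is_comm.comm ⟨a, ha⟩ ⟨b, hb⟩)) hcB]

theorem summary (P : Sylow 2 M24) :
    (∀ M : Subgroup ((P : Subgroup M24) ⧸ Subgroup.center (P : Subgroup M24)), IsCoatom M →
        Nat.card (Subgroup.center M) ≤ 8) ∧
      (∃ A : Subgroup ((P : Subgroup M24) ⧸ Subgroup.center (P : Subgroup M24)),
        IsElementaryAbelian 2 A ∧ Nat.card A = 64) ∧
      ∀ A B : Subgroup ((P : Subgroup M24) ⧸ Subgroup.center (P : Subgroup M24)),
        IsMulCommutative A → Nat.card A = 64 → IsMulCommutative B → Nat.card B = 64 → A = B := by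
  have e : P0 ≃* (P : Subgroup M24) := Sylow.equiv sylow0 P
  have hmap : (Subgroup.center P0).map e.toMonoidHom = Subgroup.center (P : Subgroup M24) := by
    ext x
    rw [Subgroup.mem_map_equiv, Subgroup.mem_center_iff, Subgroup.mem_center_iff]
    constructor
    · intro h g
      have := congrArg e (h (e.symm g))
      simpa using this
    · intro h g
      have := congrArg e.symm (h (e g))
      simpa using this
  let f : Q0 ≃* ((P : Subgroup M24) ⧸ Subgroup.center (P : Subgroup M24)) :=
    QuotientGroup.congr _ _ e hmap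
  let F := f.mapSubgroup
  obtain ⟨h1, ⟨A, ⟨hA1, hA2⟩, hAc⟩, h3⟩ := summary_Q0
  have hcard : ∀ S : Subgroup Q0, Nat.card (F S) = Nat.card S := fun S =>
    (Nat.card_congr (S.equivMapOfInjective f.toMonoidHom f.injective).toEquiv).symm
  have hcommF : ∀ S : Subgroup Q0, IsMulCommutative (F S) → IsMulCommutative S := fun S h =>
    ⟨⟨fun a b => (S.equivMapOfInjective f.toMonoidHom f.injective).injective (by
      rw [map_mul, map_mul]; exact h.is_comm.comm _ _)⟩⟩
  refine ⟨fun M hM => ?_, ⟨F A, ⟨?_, ?_⟩, (hcard A).trans hAc⟩, ?_⟩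
  · obtain ⟨M', rfl⟩ := F.surjective M
    have := h1 M' ((OrderIso.isCoatom_iff F M').1 hM)
    refine le_of_eq_of_le (Nat.card_congr ?_).symm this
    exact (Subgroup.centerCongr (M'.equivMapOfInjective f.toMonoidHom f.injective)).toEquiv
  · refine ⟨⟨fun x y => ?_⟩⟩
    obtain ⟨a, ha, hax⟩ := x.2
    obtain ⟨b, hb, hby⟩ := y.2
    refine Subtype.ext ?_
    show x.1 * y.1 = y.1 * x.1
    rw [← hax, ← hby, ← map_mul, ← map_mul]
    exact congrArg _ (congrArg Subtype.val (hA1.is_comm.comm ⟨a, ha⟩ ⟨b, hb⟩))
  · rintro _ ⟨a, ha, rfl⟩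
    rw [← map_pow, hA2 a ha, map_one]
  · intro X Y hX hXc hY hYc
    obtain ⟨X', rfl⟩ := F.surjective X
    obtain ⟨Y', rfl⟩ := F.surjective Y
    rw [h3 X' Y' (hcommF X' hX) ((hcard X').symm.trans hXc) (hcommF Y' hY) ((hcard Y').symm.trans hYc)]

end H97.M24Loc
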