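import Cfsg.Agent.H90.Perm

/-!
Checkable certificates determining the automorphism group of a Mathieu group given by packed
permutations.

The group is generated by `a` (of large prime order), `n` (normalising `⟨a⟩`) and `b`
(normalising `⟨n⟩`), so an automorphism is, up to an inner one, fixed by a handful of candidates.
-/

set_option autoImplicit false

namespace H97.MOut

open H90

/-- The certificate. -/
structure OutData where
  a : ℕ
  n : ℕ
  b : ℕ
  ell : ℕ
  ordN : ℕ
  k : ℕ
  s : ℕ
  jneg : ℕ
  cn : List ℕ
  nodes : List (ℕ × ℕ × ℕ)
  levA : List (ℕ × List ℕ)
  levN : List (ℕ × List ℕ)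
  rels : List (List ℕ × ℕ)
  outer : Option ℕ

/-- Powers of an encoded permutation. -/
def powN (p : ℕ) : ℕ → ℕ
  | 0 => idN
  | k + 1 => compN (powN p k) p

/-- Value of a node. -/
def nodeV (D : OutData) (i : ℕ) : ℕ := (D.nodes.getD i (idN, 0, 0)).1

/-- Each node is the identity, a generator, or a product of two earlier nodes. -/
def nodeOK (D : OutData) (i : ℕ) : Bool :=
  if i = 0 then nodeV D i == idN else if i = 1 then nodeV D i == D.a
  else if i = 2 then nodeV D i == D.n else if i = 3 then nodeV D i == D.b
  else decide ((D.nodes.getD i (idN, 0, 0)).2.1 < i) && decide ((D.nodes.getD i (idN, 0, 0)).2.2 < i)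
    && compN (nodeV D (D.nodes.getD i (idN, 0, 0)).2.1) (nodeV D (D.nodes.getD i (idN, 0, 0)).2.2)
      == nodeV D i

/-- The transversals as encoded permutations. -/
def levVals (D : OutData) (L : List (ℕ × List ℕ)) : List (ℕ × List ℕ) :=
  L.map fun l => (l.1, l.2.map (nodeV D))

/-- Entries of a transversal have distinct images of the base point and fix the earlier ones. -/
def chainOK : List ℕ → List (ℕ × List ℕ) → Bool
  | _, [] => true
  | fixd, (x, T) :: L =>
    decide (x < 24) && decide (T.map fun u => img u x).Nodup &&
      (T.all fun u => fixd.all fun y => img u y == y) && chainOK (fixd ++ [x]) L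

/-- The product of the transversal sizes. -/
def chainSize : List (ℕ × List ℕ) → ℕ
  | [] => 1
  | (_, T) :: L => T.length * chainSize L

/-- All products meeting the target images. -/
def search (tg : ℕ → Option ℕ) : List (ℕ × List ℕ) → ℕ → List ℕ
  | [], p => [p]
  | (x, T) :: L, p => T.flatMap fun u =>
      match tg x with
      | none => search tg L (compN p u)
      | some y => if img (compN p u) x = y then search tg L (compN p u) else []

/-- The images forced on an element commuting with `g` which maps `r` to `y`. -/
def commTarget (g ord r y x : ℕ) : Option ℕ :=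
  ((List.range ord).find? fun t => img (powN g t) r == x).map fun t => img (powN g t) y

/-- Every element commuting with `g` is listed. -/
def centOK (D : OutData) (g ord : ℕ) (L : List (ℕ × List ℕ)) (r : ℕ) (C : List ℕ) : Bool :=
  (List.range 24).all fun y =>
    (search (commTarget g ord r y) (levVals D L) idN).all fun q =>
      !(compN q g == compN g q) || C.contains q

/-- The first base point. -/
def firstPt (L : List (ℕ × List ℕ)) : ℕ := (L.headD (0, [])).1

/-- Evaluate a word in three encoded permutations. -/
def evalN (x y z : ℕ) (w : List ℕ) : ℕ :=
  w.foldl (fun acc i => compN acc (if i = 0 then x else if i = 1 then y else z)) idN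

/-- A candidate image triple is the standard one, the outer one, or violates a relation. -/
def candOK (D : OutData) (j c : ℕ) : Bool :=
  (j == 1 && compN D.b c == D.b) ||
  (match D.outer with
    | none => false
    | some o => j == D.jneg && compN (compN D.b c) o == compN o D.b) ||
  D.rels.any fun r => powN (evalN D.a D.n D.b r.1) r.2 == idN &&
    !(powN (evalN (powN D.a j) D.n (compN D.b c) r.1) r.2 == idN)

/-- The outer element acts as required and is not inner. -/
def outerOK (D : OutData) : Bool :=
  match D.outer with
  | none => true
  | some o => compN o D.a == compN (powN D.a D.jneg) o && compN o D.n == compN D.n o &&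
      D.cn.all fun c => !(compN c D.a == compN (powN D.a D.jneg) c)

/-- All conditions on the generators. -/
def genOK (D : OutData) : Bool :=
  packAux (fun i => img D.a i) 24 == D.a && packAux (fun i => img D.n i) 24 == D.n &&
  packAux (fun i => img D.b i) 24 == D.b &&
  decide (1 < D.ell) && powN D.a D.ell == idN && !(D.a == idN) &&
  compN D.n D.a == compN (powN D.a D.k) D.n &&
  compN D.b D.n == compN (powN D.n D.s) D.b &&
  ((List.range D.ell).all fun i => (List.range D.ell).any fun r =>
    compN (powN D.a r) D.n == compN (compN D.n (powN D.a i)) (powN D.a r)) &&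
  ((List.range D.ell).all fun j => j == 0 || (List.range D.ordN).any fun i =>
    j * D.k ^ i % D.ell == 1 || j * D.k ^ i % D.ell == D.jneg) &&
  ((List.range D.ell).all fun j => j == 0 || (List.range D.ell).any fun i => j * i % D.ell == 1)

/-- The whole certificate, for a group of order `N`. -/
def checkChains (D : OutData) (N : ℕ) : Bool :=
  ((List.range D.nodes.length).all fun i => nodeOK D i) &&
  chainOK [] (levVals D D.levA) && chainSize (levVals D D.levA) == N &&
  chainOK [] (levVals D D.levN) && chainSize (levVals D D.levN) == N &&
  ((D.levA ++ D.levN).all fun l => l.2.all fun i => decide (i < D.nodes.length))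

/-- The centralisers of `a` and `n`. -/
def checkCents (D : OutData) : Bool :=
  centOK D D.a D.ell D.levA (firstPt D.levA) ((List.range D.ell).map (powN D.a)) &&
  centOK D D.n D.ordN D.levN (firstPt D.levN) D.cn

/-- All candidates are decided. -/
def checkCands (D : OutData) : Bool :=
  genOK D && outerOK D && D.cn.all fun c => candOK D 1 c && candOK D D.jneg c

end H97.MOut
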