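import Cfsg.Agent.H97.SchurSporadic
import Cfsg.Agent.H97.SchurCyclic
import Cfsg.Agent.H97.Co0DataMcL

/-! The certificates of McL. -/

set_option autoImplicit false
set_option maxRecDepth 100000

namespace H97.Co0Code.McL

open Cfsg M24x SchurCert

/-- the generators -/
def gens : List (List (List ℤ)) := [gen0, gen1, gen2, gen3]

theorem cert2 : certOK gens prog data2 = true := by decide +kernel
theorem cert5 : certOK gens prog data5 = true := by decide +kernel

theorem syms3 : (let S := slp (gens.map codeE) prog; data3.syms.all fun v => S.contains v) = true := by
  decide +kernel

theorem rules3 : rulesOK cm one24 data3 = true := by decide +kernel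
theorem defs3 : defsOK data3 = true := by decide +kernel
theorem pc3 : pcCyclicOK data3 3 3 = true := by decide +kernel
theorem size3 : sizeCyclicOK cm one24 data3 3 = true := by decide +kernel
theorem combos3 : combosCyclicOK data3 10 3 coef3 = true := by decide +kernel

end H97.Co0Code.McL
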