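import Cfsg.Agent.H97.McLPairCheck

/-!
A stem extension of McL with kernel of order three.
-/

set_option autoImplicit false
set_option maxRecDepth 100000
set_option linter.style.haveILetI false

namespace H97.McLPair

open Cfsg H95 H97.Co0Code
open H81.U43 (Rel shiftP stepN shiftN)

/-- McL inside the lattice group. -/
noncomputable abbrev M : Subgroup Co0 :=
  MulAction.stabilizer Co0 uBase ⊓ MulAction.stabilizer Co0 vBase

/-- The points. -/
abbrev Pts : Type := ↥(mclSet uBase vBase)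

noncomputable instance actPts : MulAction M Pts where
  smul g x := ⟨(g : Co0) • (x : leechLattice), by
    have h := smul_mclSet (g := (g : Co0)) x.2
    rwa [show (g : Co0) • uBase = uBase from g.2.1, show (g : Co0) • vBase = vBase from g.2.2] at h⟩
  one_smul x := Subtype.ext (one_smul _ _)
  mul_smul g g' x := Subtype.ext (mul_smul _ _ _)

theorem coe_smul (g : M) (x : Pts) : ((g • x : Pts) : leechLattice) = (g : Co0) • (x : leechLattice) :=
  rfl

/-- the base point -/
noncomputable def x0 : Pts := ⟨xBase, xBase_mem⟩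

theorem finite_co0 : Finite Co0 :=
  Nat.finite_of_card_ne_zero (by rw [H95.card_co0 H95.golayUnique]; norm_num)

theorem ldot_facts : ldot vBase vBase = 32 ∧ ldot uBase uBase = 48 ∧ ldot uBase vBase = 24 :=
  ⟨vBase_norm, uBase_norm, uBase_vBase⟩

theorem rel_shift : Rel cc (1 : SU 4 H50.McLU4.K 3) shiftP := by
  refine ⟨fun n => ⟨1, Or.inl rfl, ?_⟩, fun n m => ?_, fun n => rfl⟩
  · rw [H50.suMat_one, one_smul, one_mul, Matrix.transpose_one, mul_one]
    congr 1
    show n.val / 3 = shiftN n.val / 3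
    unfold shiftN; omega
  · show H81.U43.col (shiftN n.val) (shiftN m.val) = H81.U43.col n.val m.val
    unfold H81.U43.col shiftN
    have e1 : (n.val / 3 * 3 + (n.val % 3 + 1) % 3) / 3 = n.val / 3 := by omega
    have e2 : (m.val / 3 * 3 + (m.val % 3 + 1) % 3) / 3 = m.val / 3 := by omega
    rw [e1, e2]
    split
    · rfl
    · omega

theorem rel_shift_pow : ∀ k : ℕ, Rel cc (1 : SU 4 H50.McLU4.K 3) (shiftP ^ k)
  | 0 => by rw [pow_zero]; exact H81.U43.rel_one cc
  | k + 1 => by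
    rw [pow_succ, ← one_mul (1 : SU 4 H50.McLU4.K 3)]
    exact H81.U43.rel_mul cc (rel_shift_pow k) rel_shift

/-- Pairs of an element of the point stabiliser and a lift. -/
noncomputable def Dgrp : Subgroup (Co0 × Equiv.Perm (Fin 378)) :=
  haveI := finite_co0
  H81.U43.subOfFinite {x | ∃ s, (x.1, s) ∈ Γ ∧ Rel cc s x.2}
    ⟨1, one_mem Γ, H81.U43.rel_one cc⟩
    fun {a b} ⟨s, hs, hr⟩ ⟨s', hs', hr'⟩ => ⟨s * s', mul_mem hs hs', H81.U43.rel_mul cc hr hr'⟩

theorem mem_Dgrp {x : Co0 × Equiv.Perm (Fin 378)} :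
    x ∈ Dgrp ↔ ∃ s, (x.1, s) ∈ Γ ∧ Rel cc s x.2 := Iff.rfl

/-- The projection. -/
noncomputable def proj : Dgrp →* M :=
  ((MonoidHom.fst _ _).comp Dgrp.subtype).codRestrict M fun x => by
    obtain ⟨s, hs, -⟩ := mem_Dgrp.1 x.2
    exact (fst_mem _ hs).1

theorem proj_range : proj.range = MulAction.stabilizer M x0 := by
  ext g
  constructor
  · rintro ⟨x, rfl⟩
    obtain ⟨s, hs, -⟩ := mem_Dgrp.1 x.2
    exact Subtype.ext (show (x.1.1 : Co0) • xBase = xBase from (fst_mem _ hs).2)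
  · intro hg
    obtain ⟨p, hp, e⟩ := pairs_spec.2 g.1 ⟨g.2, congrArg Subtype.val hg⟩
    obtain ⟨P, hP⟩ := H81.U43.exists_rel hF cc p.2
    refine ⟨⟨(g.1, P), mem_Dgrp.2 ⟨p.2, ?_, hP⟩⟩, Subtype.ext rfl⟩
    show (g.1, p.2) ∈ Γ
    rw [← e]
    exact hp

theorem proj_ker {x : Dgrp} (hx : proj x = 1) : ∃ k < 3, x.1 = (1, shiftP ^ k) := by
  have h1 : x.1.1 = 1 := congrArg Subtype.val hx
  obtain ⟨s, hs, hr⟩ := mem_Dgrp.1 x.2
  obtain ⟨l, hl⟩ := (H50.mem_center_iff_scalar H50.McLU4.hK (by norm_num)).1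
    (pairs_spec.1 _ hs h1)
  obtain ⟨k, hk, hP⟩ := H81.U43.lift_scalar cc hr hl
  exact ⟨k, hk, Prod.ext h1 hP⟩

theorem proj_central : proj.ker ≤ Subgroup.center Dgrp := by
  intro x hx
  obtain ⟨k, -, e⟩ := proj_ker hx
  refine Subgroup.mem_center_iff.2 fun y => Subtype.ext ?_
  obtain ⟨s, -, hr⟩ := mem_Dgrp.1 y.2
  show y.1 * x.1 = x.1 * y.1
  rw [e]
  exact Prod.ext (by rw [Prod.fst_mul, Prod.fst_mul, mul_one, one_mul])
    (H81.U43.rel_comm_shift cc hr k)

theorem proj_card : Nat.card proj.ker = 3 := by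
  let f : Fin 3 → proj.ker := fun k =>
    ⟨⟨(1, shiftP ^ k.val), mem_Dgrp.2 ⟨1, one_mem Γ, rel_shift_pow _⟩⟩, Subtype.ext rfl⟩
  have hf : Function.Bijective f := by
    refine ⟨fun i j h => ?_, fun x => ?_⟩
    · have h' : shiftP ^ i.val = shiftP ^ j.val :=
        congrArg (fun z : proj.ker => z.1.1.2) h
      have := congrArg (fun P : Equiv.Perm (Fin 378) => (P 0).val) h'
      simp only [H81.U43.shiftP_pow_apply] at this
      exact Fin.ext (by simp at this; omega)
    · obtain ⟨k, hk, e⟩ := proj_ker x.2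
      exact ⟨⟨k, hk⟩, Subtype.ext (Subtype.ext e.symm)⟩
  rw [← Nat.card_eq_of_bijective f hf, Nat.card_fin]

theorem card_closure_pair {G : Type*} [Group G] [Finite G] {p : ℕ} [NeZero p] {a b : G}
    (hab : a * b = b * a) (ha : a ^ p = 1) (hb : b ^ p = 1) :
    Nat.card (Subgroup.closure ({a, b} : Set G)) ≤ p ^ 2 := by
  let S := H81.U43.subOfFinite (Set.range fun q : Fin p × Fin p => a ^ q.1.val * b ^ q.2.val)
    ⟨(0, 0), by simp⟩ (by
      rintro _ _ ⟨q, rfl⟩ ⟨q', rfl⟩
      refine ⟨(q.1 + q'.1, q.2 + q'.2), ?_⟩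
      simp only [Fin.val_add]
      rw [← pow_eq_pow_mod _ ha, ← pow_eq_pow_mod _ hb, pow_add, pow_add, mul_assoc, mul_assoc,
        ← mul_assoc (a ^ q'.1.val), ((Commute.pow_pow hab _ _) :
          Commute (a ^ q'.1.val) (b ^ q.2.val)).eq, mul_assoc])
  have hle : Subgroup.closure ({a, b} : Set G) ≤ S := by
    have h1 : ∀ {c : G}, c ^ p = 1 → p = 1 → c = 1 := fun h h' => by rwa [h', pow_one] at h
    rw [Subgroup.closure_le]
    rintro x (rfl | rfl)
    · by_cases hp : p = 1
      · exact ⟨(0, 0), by simp [h1 ha hp]⟩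
      · exact ⟨(1, 0), by simp [Nat.mod_eq_of_lt (show 1 < p by have := NeZero.ne p; omega)]⟩
    · by_cases hp : p = 1
      · exact ⟨(0, 0), by simp [h1 hb hp]⟩
      · exact ⟨(0, 1), by simp [Nat.mod_eq_of_lt (show 1 < p by have := NeZero.ne p; omega)]⟩
  refine (Subgroup.card_le_of_le hle).trans ?_
  calc Nat.card S ≤ Nat.card (Fin p × Fin p) :=
        Nat.card_le_card_of_surjective (fun q => (⟨_, q, rfl⟩ : S)) (by
          rintro ⟨_, q, rfl⟩; exact ⟨q, rfl⟩)
    _ = p ^ 2 := by rw [Nat.card_prod, Nat.card_fin, sq]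

/-- the entry of a fixed point -/
def entry (i : Fin 5) : List (List ℤ) × (ℕ × ℕ × ℕ) × (ℕ × ℕ × ℕ) := entries.getD i.val ([], 0, 0)

theorem entries_eq : entries = List.ofFn entry := by rfl

set_option maxHeartbeats 800000 in
theorem exists_stem : ∃ (Δ : Type) (_ : Group Δ) (_ : Finite Δ) (σ : Δ →* M),
    IsStemExtension σ ∧ Nat.card σ.ker = 3 := by
  classical
  haveI := finite_co0
  haveI : Finite Dgrp := inferInstance
  haveI : Fact (Nat.Prime 3) := ⟨Nat.prime_three⟩
  obtain ⟨hvv, huu, huv⟩ := ldot_facts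
  haveI : Finite Pts := Set.finite_coe_iff.2
    (Set.finite_of_ncard_ne_zero (by rw [ncard_mclSet huu hvv huv]; norm_num))
  letI : Fintype Pts := Fintype.ofFinite _
  haveI : MulAction.IsPretransitive M Pts := ⟨fun x y => by
    obtain ⟨g, g1, g2, g3⟩ := mclSet_transitive huu hvv huv x.2 y.2
    exact ⟨⟨g, g1, g2⟩, Subtype.ext g3⟩⟩
  obtain ⟨hub, hvb, hxb⟩ := H50.McLU4.base_eq
  have hok := all_ok
  simp only [allOK, Bool.and_eq_true, List.all_eq_true, beq_iff_eq, bne_iff_ne, ne_eq,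
    decide_eq_true_eq, Bool.or_eq_true, Bool.not_eq_true', List.contains_iff_mem] at hok
  obtain ⟨⟨⟨⟨⟨⟨hA, hB⟩, hent⟩, ⟨hab, ha3⟩, hb3⟩, hnd⟩, hcompl⟩, hval⟩ := hok
  have mkM : ∀ {E : List (List ℤ)}, genOK E (H50.McLU4.baseL.take 2) = true →
      ∃ g : M, code (g : Co0) = codeE E ∧
        ∀ y : leechLattice, vecL (((g : Co0) • y : leechLattice) : GolayPt → ℤ) =
          applyL E (vecL (y : GolayPt → ℤ)) := by
    intro E hE
    obtain ⟨g, hg, hfix⟩ := genOK_spec hE
    have hu : g • uBase = uBase := hfix _ (by rw [hub]; simp [H50.McLU4.baseL])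
    have hv : g • vBase = vBase := hfix _ (by rw [hvb]; simp [H50.McLU4.baseL])
    refine ⟨⟨g, hu, hv⟩, hg, fun y => ?_⟩
    have hE' := hE
    simp only [genOK, Bool.and_eq_true, List.all_eq_true] at hE'
    have h2 : ∀ a b : GolayPt, ∑ p, entryL E p a * entryL E p b = if a = b then 64 else 0 := by
      intro a b
      obtain ⟨i, rfl⟩ := H90.ptEquiv.surjective a
      obtain ⟨j, rfl⟩ := H90.ptEquiv.surjective b
      have h := hE'.1.2 i (List.mem_finRange _) j (List.mem_finRange _)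
      rw [beq_iff_eq, ← List.ofFn_eq_map, ← List.ofFn_eq_map, dotL_ofFn] at h
      rw [← Equiv.sum_comp H90.ptEquiv]
      simp only [EmbeddingLike.apply_eq_iff_eq]
      rw [← h]
      refine Finset.sum_congr rfl fun p _ => ?_
      show entryL E (H90.pt p) (H90.pt i) * entryL E (H90.pt p) (H90.pt j) = _
      rw [List.getD_eq_getElem (List.ofFn fun p : Fin 24 => (E.getD p.val []).getD i.val 0) 0
        (by simp), List.getElem_ofFn]
      simp only [entryL, H90.idx_pt]
    let D : MatData := ⟨E, hE'.1.1, h2⟩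
    have e : g = D.elt := code_inj (hg.trans (code_elt D).symm)
    show vecL ((g • y : leechLattice) : GolayPt → ℤ) = _
    rw [e, D.vecL_elt]
  obtain ⟨a, hca, happA⟩ := mkM hA
  obtain ⟨b, hcb, happB⟩ := mkM hB
  have hcm : ∀ {g h : M}, code ((g * h : M) : Co0) = M24x.cm (code (g : Co0)) (code (h : Co0)) :=
    fun {g h} => code_mul _ _
  have hMinj : ∀ {g h : M}, code (g : Co0) = code (h : Co0) → g = h :=
    fun e => Subtype.ext (code_inj e)
  have hab' : a * b = b * a := hMinj (by rw [hcm, hcm, hca, hcb, hab])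
  have hap : a ^ 3 = 1 := hMinj (by
    rw [pow_succ', pow_two, hcm, hcm, hca, ha3]; exact code_one.symm)
  have hbp : b ^ 3 = 1 := hMinj (by
    rw [pow_succ', pow_two, hcm, hcm, hcb, hb3]; exact code_one.symm)
  -- the data at each point
  have hmem : ∀ i, entry i ∈ entries := fun i => by
    rw [entries_eq]; exact List.mem_ofFn.2 ⟨i, rfl⟩
  have node : ∀ {X : M} {T : M} {MX MT : List (List ℤ)} {e : ℕ × ℕ × ℕ},
      code (X : Co0) = codeE MX → code (T : Co0) = codeE MT → nodeOK MX MT e = true →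
      ∃ f : Dgrp, proj f = T⁻¹ * X * T ∧ (∀ n, (f.1.2 n).val = stepN e.2.1 n.val) ∧
        ∀ n, ((f.1.2)⁻¹ n).val = stepN e.2.2 n.val := by
    intro X T MX MT e hX hT hn
    simp only [nodeOK, Bool.and_eq_true, Nat.blt_eq, beq_iff_eq] at hn
    obtain ⟨hlt, hlift, hco⟩ := hn
    have hv := vals_spec _ (List.getElem_mem hlt)
    rw [← List.getD_eq_getElem vals (0, 0) hlt] at hv
    obtain ⟨p, hp, hcp, hmp⟩ := hv
    obtain ⟨P, hP, hP1, hP2⟩ := exists_rel_lift hlift hmp
    refine ⟨⟨(p.1, P), mem_Dgrp.2 ⟨p.2, hp, hP⟩⟩, ?_, hP1, hP2⟩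
    have key : (T : Co0) * p.1 = (X : Co0) * (T : Co0) :=
      code_inj (by rw [code_mul, code_mul, hX, hT, hcp, hco])
    refine Subtype.ext ?_
    show p.1 = (T : Co0)⁻¹ * (X : Co0) * (T : Co0)
    rw [mul_assoc, ← key, inv_mul_cancel_left]
  choose T hcT happT using fun i => mkM (hent _ (hmem i)).1.1.1.1
  choose fA hfA hfA1 hfA2 using fun i => node hca (hcT i) (hent _ (hmem i)).1.1.1.2
  choose fB hfB hfB1 hfB2 using fun i => node hcb (hcT i) (hent _ (hmem i)).1.1.2
  let pts : Fin 5 → Pts := fun i => T i • x0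
  have hvp : ∀ i, vecL ((pts i).1 : GolayPt → ℤ) =
      applyL (entry i).1 (H50.McLU4.baseL.getD 2 []) := fun i => by
    show vecL (((T i : Co0) • xBase : leechLattice) : GolayPt → ℤ) = _
    rw [happT, hxb]
  have hfixedL : fixedL = List.ofFn fun i => vecL ((pts i).1 : GolayPt → ℤ) := by
    rw [fixedL, entries_eq, List.map_ofFn]
    congr 1
    funext i
    exact (hvp i).symm
  rw [hfixedL] at hnd hcompl
  have hinj : Function.Injective pts := fun i j e => by
    have := List.nodup_ofFn.1 hnd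
    exact this (by simp only [e])
  have hF : ∀ x, x ∈ List.ofFn pts ↔ a • x = x ∧ b • x = x := by
    intro x
    have fx : ∀ {g : M} {E : List (List ℤ)},
        (∀ y : leechLattice, vecL (((g : Co0) • y : leechLattice) : GolayPt → ℤ) =
          applyL E (vecL (y : GolayPt → ℤ))) →
        (g • x = x ↔ fixesL E (vecL (x.1 : GolayPt → ℤ)) = true) := by
      intro g E hg
      rw [fixesL, beq_iff_eq, ← hg]
      exact ⟨fun h => congrArg (fun z : leechLattice => vecL (z : GolayPt → ℤ))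
        (congrArg Subtype.val h), fun h => Subtype.ext (eq_of_vecL h)⟩
    rw [fx happA, fx happB]
    constructor
    · intro hx
      obtain ⟨i, rfl⟩ := List.mem_ofFn.1 hx
      rw [hvp]
      exact ⟨(hent _ (hmem i)).1.2, (hent _ (hmem i)).2⟩
    · rintro ⟨h1, h2⟩
      rcases hcompl (vecL (x.1 : GolayPt → ℤ))
        (List.mem_map_of_mem (mclSet_mem_list x.2)) with h | h
      · simp [h1, h2] at h
      · obtain ⟨i, hi⟩ := List.mem_ofFn.1 h
        exact List.mem_ofFn.2 ⟨i, Subtype.ext (eq_of_vecL hi)⟩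
  have hne : (List.ofFn fun i => fA i * fB i * (fA i)⁻¹ * (fB i)⁻¹).prod ≠ 1 := by
    intro h
    apply hval
    have key : ∀ (l : List (Fin 5)) (n : Fin 378),
        (((l.map fun i => fA i * fB i * (fA i)⁻¹ * (fB i)⁻¹).prod).1.2 n).val =
          (l.map entry).foldr commN n.val := by
      intro l
      induction l with
      | nil => intro n; rfl
      | cons i l ih =>
        intro n
        rw [List.map_cons, List.map_cons, List.prod_cons, List.foldr_cons, ← ih n]
        show ((fA i).1.2 ((fB i).1.2 ((fA i).1.2⁻¹ ((fB i).1.2⁻¹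
          ((l.map fun i => fA i * fB i * (fA i)⁻¹ * (fB i)⁻¹).prod.1.2 n))))).val = _
        rw [hfA1, hfB1, hfA2, hfB2]
        rfl
    have h0 := key (List.finRange 5) 0
    rw [← List.ofFn_eq_map, ← List.ofFn_eq_map, h, ← entries_eq] at h0
    exact h0.symm
  refine H97.Transfer.exists_cyclic_stem x0 proj proj_range proj_central proj_card a b hab'
    (card_closure_pair hab' hap hbp) hap hbp (List.ofFn pts) (List.nodup_ofFn.2 hinj) hF
    (Function.extend pts T 1) (Function.extend pts fA 1) (Function.extend pts fB 1) ?_ ?_ ?_ ?_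
  · intro x hx
    obtain ⟨i, rfl⟩ := List.mem_ofFn.1 hx
    rw [hinj.extend_apply]
  · intro x hx
    obtain ⟨i, rfl⟩ := List.mem_ofFn.1 hx
    rw [hinj.extend_apply, hinj.extend_apply, hfA]
  · intro x hx
    obtain ⟨i, rfl⟩ := List.mem_ofFn.1 hx
    rw [hinj.extend_apply, hinj.extend_apply, hfB]
  · rw [List.map_ofFn]
    simpa [Function.comp_def, hinj.extend_apply] using hne

end H97.McLPair
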