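import Cfsg.Agent.H97.TransferExt
import Cfsg.Agent.H97.McLPairData
import Cfsg.Agent.H97.SchurSporadic
import Cfsg.Agent.H81.U43.Cover
import Cfsg.Agent.H50.McLU4
import Cfsg.Agent.H95.OutStab

/-!
A stem extension of McL with kernel of order three, induced from the cover of the point stabiliser.
-/

set_option autoImplicit false
set_option maxRecDepth 100000
set_option linter.style.haveILetI false

namespace H97.McLPair

open Cfsg H95 H97.Co0Code
open H50.McLU4 (K W hK C g mat good closure_g mat_mem row0 row0_ok card_H card_PSU c0 rt)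
open H81.U43 (Coord Rel stepN shiftP okM)
open H94.U43 (C4 mm4 meq4)

/-- The coordinates of the field. -/
def cc : Coord K where
  φ := H50.Nine.F.ofN ∘ Fin.val
  bij := by decide +kernel
  zero := by decide +kernel
  one := by decide +kernel
  neg_one := by decide +kernel
  add := by decide +kernel
  mul := by decide +kernel

theorem hF : Fintype.card K = 9 := H50.Nine.F.card_eq

/-- the coded generators -/
def tvC (i : Fin 4) : C4 := fun a b =>
  Fin.ofNat 9 (H50.LeechU.tvv 3 (rt i) c0 (Pi.single b 1) a).v.val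

/-- packed code matrices -/
def decC (n : ℕ) : C4 := fun i j =>
  ⟨n / 16 ^ (4 * i.val + j.val) % 16 % 9, Nat.mod_lt _ (by norm_num)⟩

/-- packing -/
def encC (A : C4) : ℕ :=
  ((List.finRange 4).map fun i => ((List.finRange 4).map fun j =>
    (A i j).val * 16 ^ (4 * i.val + j.val)).sum).sum

/-- the pairs of the two groups -/
noncomputable def Γ : Subgroup (Co0 × SU 4 K 3) :=
  Subgroup.closure (Set.range fun i => ((mat i).elt, g i))

theorem fst_mem : ∀ p ∈ Γ, p.1 ∈ H50.McLU4.H := by
  intro p hp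
  have : Γ ≤ H50.McLU4.H.comap (MonoidHom.fst Co0 (SU 4 K 3)) := by
    rw [Γ, Subgroup.closure_le]
    rintro _ ⟨i, rfl⟩
    exact mat_mem i
  exact this hp

theorem pairs_spec : (∀ p ∈ Γ, p.1 = 1 → p.2 ∈ Subgroup.center (SU 4 K 3)) ∧
    ∀ x ∈ H50.McLU4.H, ∃ p ∈ Γ, p.1 = x := by
  obtain ⟨hm, hu, hc, hB, ha, hne, hl⟩ := row0_ok
  set y0 : leechLattice := ⟨_, H96.Check.checkB_spec hc⟩
  have hy : vecL (y0 : GolayPt → ℤ) = H50.LeechU.decY row0.1 := by
    refine Eq.trans ?_ hl
    unfold vecL
    congr 1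
    funext i
    show (H50.LeechU.decY row0.1).getD (H90.idx (H90.pt i)).val 0 = _
    rw [H90.idx_pt]
  haveI := H50.PSU_isSimple (n := 4) hK (by norm_num) (by norm_num)
  haveI : Finite Co0 := Nat.finite_of_card_ne_zero
    (by rw [H95.card_co0 H95.golayUnique]; norm_num)
  have hgood : ∀ p ∈ Γ, H50.LeechU.Good C.flatten p := by
    intro p hp
    rw [Γ, ← Subgroup.mem_toSubmonoid, Subgroup.closure_toSubmonoid_of_finite] at hp
    induction hp using Submonoid.closure_induction with
    | one => exact H50.LeechU.good_one _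
    | mem p hp => obtain ⟨i, rfl⟩ := hp; exact good i
    | mul p q _ _ e e' => exact H50.LeechU.good_mul e e'
  let φ : Γ →* H50.McLU4.H :=
    ((MonoidHom.fst _ _).comp Γ.subtype).codRestrict _ fun p => fst_mem p.1 p.2
  let ψ : Γ →* PSU 4 K 3 := (QuotientGroup.mk' _).comp ((MonoidHom.snd _ _).comp Γ.subtype)
  have hψ : Function.Surjective ψ := by
    intro x
    obtain ⟨s, rfl⟩ := QuotientGroup.mk'_surjective _ x
    have hs : s ∈ Γ.map (MonoidHom.snd Co0 (SU 4 K 3)) := by
      rw [Γ, MonoidHom.map_closure, ← Set.range_comp]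
      show s ∈ Subgroup.closure (Set.range g)
      rw [closure_g]; exact Subgroup.mem_top _
    obtain ⟨p, hp, rfl⟩ := hs
    exact ⟨⟨p, hp⟩, rfl⟩
  have hle : φ.ker ≤ ψ.ker := by
    rcases ((inferInstance : φ.ker.Normal).map ψ hψ).eq_bot_or_eq_top with e | e
    · exact (Subgroup.map_eq_bot_iff _).1 e
    · exfalso
      obtain ⟨p, hp, hp2⟩ : QuotientGroup.mk' _ (g 1) ∈ φ.ker.map ψ := by
        rw [e]; exact Subgroup.mem_top _
      have h1 : (p : Co0 × SU 4 K 3).1 = 1 := congrArg Subtype.val hp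
      obtain ⟨l, hl'⟩ := (H50.mem_center_iff_scalar hK (by omega)).1 (QuotientGroup.eq.1 hp2)
      change H50.suMat ((p : Co0 × SU 4 K 3).2⁻¹ * g 1) = l • 1 at hl'
      obtain ⟨B', hB', hspan⟩ := hgood _ p.2 y0 _ (by rw [hy]; exact hm)
      rw [h1, one_smul, hy] at hB'
      rw [H50.LeechU.uniq_of_ok hu hB'] at hspan
      set v := H50.McLU4.dec (row0.2.getD 0 0)
      have hperp : H50.LeechU.spanL (row0.2.map H50.McLU4.dec) ≤ H50.perp 3 {v} := by
        rw [H50.LeechU.spanL, Submodule.span_le]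
        intro x hx w hw
        rw [Set.mem_singleton_iff] at hw
        subst hw
        exact hB x hx
      have e2 : Matrix.mulVec (H50.suMat (g 1)) v =
          l • Matrix.mulVec (H50.suMat (p : Co0 × SU 4 K 3).2) v := by
        have h' : g 1 = (p : Co0 × SU 4 K 3).2 * ((p : Co0 × SU 4 K 3).2⁻¹ * g 1) := by group
        rw [h', H50.suMat_mulVec_mul, hl', Matrix.smul_mulVec, Matrix.one_mulVec,
          Matrix.mulVec_smul]
      rw [H50.McLU4.g_apply] at e2
      exact hne (by rw [e2, H50.h_smul_left, hperp (hspan v ha) v rfl, mul_zero])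
  refine ⟨fun p hp h1 => ?_, fun x hx => ?_⟩
  · exact (QuotientGroup.eq_one_iff _).1 (hle (x := ⟨p, hp⟩) (Subtype.ext h1))
  · have h1 : φ.ker.index ∣ Nat.card H50.McLU4.H := by
      rw [Subgroup.index_ker]
      exact Subgroup.card_subgroup_dvd_card _
    have h2 : ψ.ker.index = Nat.card (PSU 4 K 3) := by
      rw [Subgroup.index_ker, MonoidHom.range_eq_top.2 hψ, Subgroup.card_top]
    have h3 := Subgroup.index_dvd_of_le hle
    rw [h2, card_PSU] at h3
    rw [card_H] at h1
    have hφ : Function.Surjective φ := by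
      refine MonoidHom.range_eq_top.1 (Subgroup.eq_top_of_card_eq _ ?_)
      rw [← Subgroup.index_ker, card_H]
      exact Nat.dvd_antisymm h1 h3
    obtain ⟨p, hp⟩ := hφ ⟨x, hx⟩
    exact ⟨p.1, p.2, congrArg Subtype.val hp⟩

/-- one step of the program -/
def pairStep (acc : List (ℕ × ℕ)) (q : ℕ × ℕ × ℕ) : List (ℕ × ℕ) :=
  let a := acc.getD q.1 (one24, encC (H94.U43.scal 1))
  let b := acc.getD q.2.1 (one24, encC (H94.U43.scal 1))
  if meq4 (mm4 (decC a.2) (decC b.2)) (decC q.2.2) then (M24x.cm a.1 b.1, q.2.2) :: acc else acc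

/-- the seeds, newest first -/
def seeds : List (ℕ × ℕ) :=
  ((List.finRange 4).map fun i => (codeE (H50.McLU4.rowsOf i), encC (tvC i))).reverse

/-- all values, newest first -/
def vals : List (ℕ × ℕ) := progN.foldl pairStep seeds

/-- what a value says -/
def Val (v : ℕ × ℕ) : Prop :=
  ∃ p ∈ Γ, code p.1 = v.1 ∧ H50.suMat p.2 = cc.up (decC v.2)

theorem tvC_ok : ∀ i a b, cc.φ (tvC i a b) =
    H50.LeechU.tvv 3 (rt i) c0 (Pi.single b 1) a := by decide +kernel

theorem encC_tvC : ∀ i a b, decC (encC (tvC i)) a b = tvC i a b := by decide +kernel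

theorem one_ok : ∀ a b, decC (encC (H94.U43.scal 1)) a b = H94.U43.scal 1 a b := by decide +kernel

theorem val_seed (i : Fin 4) : Val (codeE (H50.McLU4.rowsOf i), encC (tvC i)) := by
  refine ⟨((mat i).elt, g i), Subgroup.subset_closure ⟨i, rfl⟩, code_elt _, ?_⟩
  ext a b
  show H50.suMat (g i) a b = cc.φ (decC (encC (tvC i)) a b)
  rw [encC_tvC, tvC_ok, ← H50.McLU4.g_apply, Matrix.mulVec_single_one]
  rfl

theorem val_one : Val (one24, encC (H94.U43.scal 1)) := by
  refine ⟨1, one_mem _, code_one, ?_⟩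
  rw [show decC (encC (H94.U43.scal 1)) = H94.U43.scal 1 from
    funext fun a => funext fun b => one_ok a b, cc.up_scal, cc.one, one_smul]
  exact H50.suMat_one

theorem vals_spec : ∀ v ∈ vals, Val v := by
  have key : ∀ (prog : List (ℕ × ℕ × ℕ)) (acc : List (ℕ × ℕ)), (∀ v ∈ acc, Val v) →
      ∀ v ∈ prog.foldl pairStep acc, Val v := by
    intro prog
    induction prog with
    | nil => intro acc h; exact h
    | cons q prog ih =>
      intro acc h
      rw [List.foldl_cons]
      refine ih _ fun v hv => ?_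
      have get : ∀ k, Val (acc.getD k (one24, encC (H94.U43.scal 1))) := fun k => by
        by_cases hk : k < acc.length
        · rw [List.getD_eq_getElem _ _ hk]; exact h _ (List.getElem_mem hk)
        · rw [List.getD_eq_default _ _ (Nat.le_of_not_lt hk)]; exact val_one
      unfold pairStep at hv
      simp only [] at hv
      split at hv
      · rename_i hq
        rcases List.mem_cons.1 hv with rfl | hv
        · obtain ⟨pa, hpa, ca, ma⟩ := get q.1
          obtain ⟨pb, hpb, cb, mb⟩ := get q.2.1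
          refine ⟨pa * pb, mul_mem hpa hpb, by rw [Prod.fst_mul, code_mul, ca, cb], ?_⟩
          rw [Prod.snd_mul, H50.suMat_mul, ma, mb, ← cc.up_mm]
          congr 1
          simp only [meq4, List.all_eq_true, List.mem_finRange, true_implies, beq_iff_eq] at hq
          exact funext fun i => funext fun j => hq i j
        · exact h v hv
      · exact h v hv
  refine key progN seeds fun v hv => ?_
  rw [seeds, List.mem_reverse, List.mem_map] at hv
  obtain ⟨i, -, rfl⟩ := hv
  exact val_seed i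

/-- the pair of a lift -/
def nodeOK (MX : List (List ℤ)) (T : List (List ℤ)) (e : ℕ × ℕ × ℕ) : Bool :=
  Nat.blt e.1 vals.length &&
  (let v := vals.getD e.1 (0, 0)
   H81.U43.liftOK (decC v.2, e.2.1, e.2.2) &&
     M24x.cm (codeE T) v.1 == M24x.cm (codeE MX) (codeE T))

theorem exists_rel_lift {e : C4 × ℕ × ℕ} (h : H81.U43.liftOK e = true)
    {s : SU 4 K 3} (hs : H50.suMat s = cc.up e.1) :
    ∃ P : Equiv.Perm (Fin 378), Rel cc s P ∧ (∀ n, (P n).val = stepN e.2.1 n.val) ∧
      ∀ n, (P⁻¹ n).val = stepN e.2.2 n.val := by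
  simp only [H81.U43.liftOK, Bool.and_eq_true, List.all_eq_true, List.mem_range, Bool.or_eq_true,
    beq_iff_eq, Nat.blt_eq] at h
  obtain ⟨⟨⟨-, hperm⟩, hJ⟩, hcol⟩ := h
  let P : Equiv.Perm (Fin 378) :=
    { toFun := fun n => ⟨stepN e.2.1 n.val, (hperm n.val n.isLt).1.1.1⟩
      invFun := fun n => ⟨stepN e.2.2 n.val, (hperm n.val n.isLt).1.1.2⟩
      left_inv := fun n => Fin.ext (hperm n.val n.isLt).1.2
      right_inv := fun n => Fin.ext (hperm n.val n.isLt).2 }
  refine ⟨P, ⟨fun n => ?_, fun n m => ?_, fun n => ?_⟩, fun n => rfl, fun n => rfl⟩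
  · have hi : n.val / 3 < 126 := by omega
    show ∃ z : K, _ ∧ _ = z • H81.U43.ptM cc (stepN e.2.1 n.val / 3)
    rw [H81.U43.stepN_div, hs,
      show (cc.up e.1).transpose = cc.up (H81.U43.tpC e.1) from rfl, H81.U43.ptM, H81.U43.ptM,
      ← cc.up_mm, ← cc.up_mm]
    have hmeq : ∀ {A B : C4}, meq4 A B = true → A = B := fun {A B} h => by
      simp only [meq4, List.all_eq_true, List.mem_finRange, true_implies, beq_iff_eq] at h
      exact funext fun i => funext fun j => h i j
    rcases hJ _ hi with h1 | h1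
    · exact ⟨1, Or.inl rfl, by rw [one_smul, hmeq h1]⟩
    · refine ⟨-1, Or.inr rfl, ?_⟩
      rw [hmeq h1]
      ext i j
      simp [Coord.up, H81.U43.smC, cc.mul, cc.neg_one]
  · exact H81.U43.col_stepN (hcol (n.val / 3) (by omega) (m.val / 3) (by omega))
  · exact Fin.ext (H81.U43.shift_stepN _ _)

/-- the commutator of the two lifts at a point -/
def commN (e : List (List ℤ) × (ℕ × ℕ × ℕ) × (ℕ × ℕ × ℕ)) (n : ℕ) : ℕ :=
  stepN e.2.1.2.1 (stepN e.2.2.2.1 (stepN e.2.1.2.2 (stepN e.2.2.2.2 n)))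

/-- the fixed points -/
def fixedL : List (List ℤ) := entries.map fun e => applyL e.1 (H50.McLU4.baseL.getD 2 [])

/-- the check -/
def allOK : Bool :=
  (let base := H50.McLU4.baseL.take 2
   genOK rowsA base && genOK rowsB base &&
   entries.all (fun e => genOK e.1 base && nodeOK rowsA e.1 e.2.1 && nodeOK rowsB e.1 e.2.2 &&
     fixesL rowsA (applyL e.1 (H50.McLU4.baseL.getD 2 [])) &&
     fixesL rowsB (applyL e.1 (H50.McLU4.baseL.getD 2 [])))) &&
  (let ca := codeE rowsA
   let cb := codeE rowsB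
   M24x.cm ca cb == M24x.cm cb ca && M24x.cm ca (M24x.cm ca ca) == one24 &&
     M24x.cm cb (M24x.cm cb cb) == one24) &&
  decide fixedL.Nodup &&
  (H95.mclList.map vecL).all (fun L =>
    !(fixesL rowsA L && fixesL rowsB L) || fixedL.contains L) &&
  entries.foldr commN 0 != 0

end H97.McLPair
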