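import Cfsg.Agent.H97.McLPair

/-! The checks on the two elements of McL. -/

set_option autoImplicit false
set_option maxRecDepth 100000

namespace H97.McLPair

theorem all_ok : allOK = true := by decide +kernel

end H97.McLPair
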