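import Cfsg.Agent.H97.MathieuOut
import Cfsg.Agent.H87.MathieuCert
import Cfsg.Agent.H97.MOutM11

set_option maxRecDepth 100000

namespace H97.MOut

theorem chains_M11 : checkChains dataM11 7920 = true := by decide +kernel
theorem cents_M11 : checkCents dataM11 = true := by decide +kernel
theorem cands_M11 : checkCands dataM11 = true := by decide +kernel
theorem mems_M11 : [dataM11.a, dataM11.n, dataM11.b].all H87.mem11 = true := by decide +kernel

theorem result_M11 : Result dataM11 Cfsg.Spor.M11 :=
  soundness (N := 7920) (M := 720) H87.natCard_M11 rfl (by norm_num [dataM11]) (by norm_num [dataM11])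
    (fun p hp => by
      obtain ⟨σ, hσ⟩ := H87.exists_of_mem11 ((List.all_eq_true.1 mems_M11) p hp)
      exact ⟨σ.1, σ.2, hσ⟩)
    chains_M11 cents_M11 cands_M11

theorem card_out_M11 : Nat.card (Cfsg.Out Cfsg.Spor.M11) = 1 :=
  card_out_eq_one result_M11 rfl

end H97.MOut
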