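import Cfsg.Agent.H97.MathieuOut
import Cfsg.Agent.H87.MathieuCert
import Cfsg.Agent.H97.MOutM12

set_option maxRecDepth 100000

namespace H97.MOut

open scoped Pointwise

theorem chains_M12 : checkChains dataM12 95040 = true := by decide +kernel
theorem cents_M12 : checkCents dataM12 = true := by decide +kernel
theorem cands_M12 : checkCands dataM12 = true := by decide +kernel
theorem mems_M12 : [dataM12.a, dataM12.n, dataM12.b].all H87.mem12 = true := by decide +kernel

theorem result_M12 : Result dataM12 Cfsg.Spor.M12 :=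
  soundness (N := 95040) (M := 8640) H87.natCard_M12 rfl (by norm_num [dataM12]) (by norm_num [dataM12])
    (fun p hp => by
      obtain ⟨σ, hσ⟩ := H87.exists_of_mem12 ((List.all_eq_true.1 mems_M12) p hp)
      exact ⟨σ.1, σ.2, hσ⟩)
    chains_M12 cents_M12 cands_M12

theorem card_out_M12 : Nat.card (Cfsg.Out Cfsg.Spor.M12) = 2 := by
  obtain ⟨o, ho⟩ : ∃ o, dataM12.outer = some o := ⟨_, rfl⟩
  have hc : (H87.mem24 o && (H90.packAux (fun i => H90.img o i) 24 == o) &&
      (H90.permMask o H87.sqMask == 16777215 - H87.sqMask)) = true := by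
    have : (dataM12.outer.elim false fun o => H87.mem24 o &&
        (H90.packAux (fun i => H90.img o i) 24 == o) &&
        (H90.permMask o H87.sqMask == 16777215 - H87.sqMask)) = true := by decide +kernel
    rw [ho] at this
    exact this
  simp only [Bool.and_eq_true, beq_iff_eq] at hc
  obtain ⟨σ, hσ24, hσ⟩ := H87.exists_of_mem24 hc.1.1
  have e : code σ = o := (code_of_repr hσ).trans hc.1.2
  refine card_out_eq_two result_M12 σ (by rw [ho, e]) fun g => ?_
  have hcompl : H90.setOf' (16777215 - H87.sqMask) = (H90.setOf' H87.sqMask)ᶜ := by decide +kernel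
  have h1 : σ • Cfsg.Spor.squareDodecad = Cfsg.Spor.squareDodecadᶜ := by
    rw [H87.squareDodecad_eq, H90.smul_finset_eq_image, ← H90.setOf'_permMask hσ, hc.2, hcompl]
  have hsc : ∀ (τ : Equiv.Perm Cfsg.GolayPt) (S : Finset Cfsg.GolayPt), τ • Sᶜ = (τ • S)ᶜ := by
    intro τ S
    ext x
    rw [Finset.mem_compl, ← Finset.inv_smul_mem_iff, Finset.mem_compl, ← Finset.inv_smul_mem_iff]
  have h2 : σ⁻¹ • Cfsg.Spor.squareDodecad = Cfsg.Spor.squareDodecadᶜ := by
    rw [inv_smul_eq_iff, hsc, h1, compl_compl]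
  have hM : g ∈ Cfsg.M24 ↔ σ * g * σ⁻¹ ∈ Cfsg.M24 := by
    rw [Subgroup.mul_mem_cancel_right _ (inv_mem hσ24), Subgroup.mul_mem_cancel_left _ hσ24]
  constructor
  · rintro ⟨hg, hd⟩
    refine ⟨hM.1 hg, ?_⟩
    replace hd : g • Cfsg.Spor.squareDodecad = Cfsg.Spor.squareDodecad := hd
    show (σ * g * σ⁻¹) • Cfsg.Spor.squareDodecad = Cfsg.Spor.squareDodecad
    rw [mul_smul, mul_smul, h2, hsc, hd, hsc, h1, compl_compl]
  · rintro ⟨hg, hd⟩
    refine ⟨hM.2 hg, ?_⟩
    replace hd : (σ * g * σ⁻¹) • Cfsg.Spor.squareDodecad = Cfsg.Spor.squareDodecad := hd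
    show g • Cfsg.Spor.squareDodecad = Cfsg.Spor.squareDodecad
    rw [mul_smul, mul_smul, ← eq_inv_smul_iff, h2, hsc] at hd
    exact compl_inj_iff.1 hd

end H97.MOut
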