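import Cfsg.Agent.H97.MathieuOut
import Cfsg.Agent.H87.MathieuCert
import Cfsg.Agent.H97.MOutM23

set_option maxRecDepth 100000

namespace H97.MOut

theorem chains_M23 : checkChains dataM23 10200960 = true := by decide +kernel
theorem cents_M23 : checkCents dataM23 = true := by decide +kernel
theorem cands_M23 : checkCands dataM23 = true := by decide +kernel
theorem mems_M23 : [dataM23.a, dataM23.n, dataM23.b].all H87.mem23 = true := by decide +kernel

theorem result_M23 : Result dataM23 Cfsg.Spor.M23 :=
  soundness (N := 10200960) (M := 443520) H87.natCard_M23 rfl (by norm_num [dataM23]) (by norm_num [dataM23])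
    (fun p hp => by
      obtain ⟨σ, hσ⟩ := H87.exists_of_mem23 ((List.all_eq_true.1 mems_M23) p hp)
      exact ⟨σ.1, σ.2, hσ⟩)
    chains_M23 cents_M23 cands_M23

theorem card_out_M23 : Nat.card (Cfsg.Out Cfsg.Spor.M23) = 1 :=
  card_out_eq_one result_M23 rfl

end H97.MOut
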