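import Cfsg.Agent.H97.SchurCert

/-!
Soundness of multiplier certificates with the size of the Sylow subgroup and the linear algebra
supplied separately.
-/

set_option autoImplicit false

namespace H97.SchurCert

open scoped commutatorElement

variable {G Γ : Type} [Group G] [Group Γ] {op : ℕ → ℕ → ℕ} {one : ℕ}

/-- No stem extension has a nontrivial kernel of exponent `p`. -/
theorem false_of_exponent_gen [Finite Γ] (C : Coding G op one) (D : Data) [Fact D.p.Prime]
    (hmem : ∀ v ∈ D.syms, ∃ g : G, C.code g = v) (hrules : rulesOK op one D = true)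
    (hdefs : defsOK D = true) (hpc : pcOK D = true) 
    (hkill : ∀ (K : Type) [CommGroup K] (Z : ℕ → K), (∀ i, Z i ^ D.p = 1) →
      (∀ d ∈ D.defs, Z d.1 = 1) → (∀ e, evG Z (pathVec D e) = 1) → ∀ t ∈ D.targets, Z t = 1)
    (hbig : ∀ val : ℕ → G, (∀ i, C.code (val i) = D.syms.getD i one) →
      D.p ^ D.n ≤ Nat.card (Subgroup.closure (val '' {k | k < D.n})))
    {M : ℕ} (hcard : Nat.card G = D.p ^ D.n * M) (hM : ¬ D.p ∣ M)
    (σ : Γ →* G) (hσ : Cfsg.IsStemExtension σ) (hexp : ∀ z ∈ σ.ker, z ^ D.p = 1) :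
    σ.ker = ⊥ := by
  classical
  have hp : D.p.Prime := Fact.out
  obtain ⟨hs, hcen, hder⟩ := hσ
  haveI : Finite G := Finite.of_surjective σ hs
  -- the values downstairs and their lifts
  have hval : ∀ i, ∃ g : G, C.code g = D.syms.getD i one := fun i => by
    by_cases hi : i < D.syms.length
    · rw [List.getD_eq_getElem _ _ hi]; exact hmem _ (List.getElem_mem hi)
    · rw [List.getD_eq_default _ _ (Nat.le_of_not_lt hi)]; exact ⟨1, C.map_one⟩
  choose val hval using hval
  choose L0 hL0 using fun i => hs (val i)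
  have hrule : ∀ r, evG val (ruleAt D r).1 = evG val (ruleAt D r).2 := fun r => by
    apply C.inj
    rw [evG_code C val D.syms _ hval, evG_code C val D.syms _ hval]
    unfold ruleAt
    by_cases hi : r < D.rules.length
    · rw [List.getD_eq_getElem _ _ hi]
      exact beq_iff_eq.1 (List.all_eq_true.1 hrules _ (List.getElem_mem hi))
    · rw [List.getD_eq_default _ _ (Nat.le_of_not_lt hi)]
  simp only [defsOK, Bool.and_eq_true, decide_eq_true_eq, List.all_eq_true, beq_iff_eq] at hdefs
  obtain ⟨hpw, hdok⟩ := hdefs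
  have hdok' : ∀ d ∈ D.defs, (∀ s ∈ (ruleAt D d.1).1, s < d.2) ∧
      (ruleAt D d.1).2.getLast? = some d.2 ∧ ∀ s ∈ (ruleAt D d.1).2.dropLast, s < d.2 :=
    fun d hd => ⟨(hdok d hd).1.1.2, (hdok d hd).1.2, (hdok d hd).2⟩
  set L := D.defs.foldl (liftStep D) L0 with hLdef
  have hL : ∀ i, σ (L i) = val i := by
    have key : ∀ (ds : List (ℕ × ℕ)) (F : ℕ → Γ),
        (∀ d ∈ ds, (ruleAt D d.1).2.getLast? = some d.2) → (∀ i, σ (F i) = val i) →
        ∀ i, σ (ds.foldl (liftStep D) F i) = val i := by
      intro ds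
      induction ds with
      | nil => intro F _ hF; exact hF
      | cons d ds ih =>
        intro F hd hF
        rw [List.foldl_cons]
        refine ih _ (fun e he => hd e (List.mem_cons_of_mem _ he)) fun i => ?_
        by_cases hi : i = d.2
        · subst hi
          simp only [liftStep, Function.update_self, map_mul, map_inv, map_evG]
          rw [evG_congr (g := val) (fun s _ => hF s), evG_congr (g := val) (fun s _ => hF s), hrule]
          conv_lhs => rw [← List.dropLast_append_getLast? _ (hd d List.mem_cons_self)]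
          rw [evG_append]
          simp [evG, List.dropLast_concat]
        · rw [liftStep, Function.update_of_ne hi]; exact hF i
    exact key _ _ (fun d hd => (hdok' d hd).2.1) hL0
  have hLev : ∀ w, σ (evG L w) = evG val w := fun w => by
    rw [map_evG]; exact evG_congr fun s _ => hL s
  -- the central factors
  set z : ℕ → Γ := fun r => (evG L (ruleAt D r).2)⁻¹ * evG L (ruleAt D r).1 with hzdef
  have hzker : ∀ r, z r ∈ σ.ker := fun r => by
    simp only [hzdef, MonoidHom.mem_ker, map_mul, map_inv, hLev, hrule r, inv_mul_cancel]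
  have hzdefs : ∀ d ∈ D.defs, z d.1 = 1 := fun d hd => by
    simp only [hzdef]
    rw [hLdef, foldl_liftStep_spec D D.defs L0 hpw hdok' d hd, inv_mul_cancel]
  have hrz : ∀ r, evG L (ruleAt D r).1 = evG L (ruleAt D r).2 * z r := fun r => by
    simp only [hzdef, mul_inv_cancel_left]
  have hpath : ∀ e, evG z (pathVec D e) = 1 := by
    intro e
    unfold pathVec
    rcases D.paths.getD e ([], []) with ⟨w, steps⟩
    simp only
    split
    · rename_i w' v hrun
      split_ifs with heq
      · have := runPath_spec D L z (fun r => hcen (hzker r)) (fun r => hexp _ (hzker r)) hp.pos hrz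
          steps w w' v hrun
        rw [beq_iff_eq.1 heq] at this
        exact mul_eq_left.1 this.symm
      · rfl
    · rfl
  letI : CommGroup σ.ker :=
    { (inferInstance : Group σ.ker) with
      mul_comm := fun a b => Subtype.ext (Subgroup.mem_center_iff.1 (hcen b.2) a.1) }
  -- the polycyclic rules have trivial factor
  have hzero : ∀ r, isZero D r = true → z r = 1 := by
    intro r hr
    simp only [isZero, Bool.or_eq_true, List.any_eq_true, beq_iff_eq, List.contains_iff_mem] at hr
    rcases hr with ⟨d, hd, rfl⟩ | hr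
    · exact hzdefs d hd
    · let Z : ℕ → σ.ker := fun i => ⟨z i, hzker i⟩
      have hval' : ∀ w, (evG Z w).1 = evG z w := fun w => map_evG σ.ker.subtype Z w
      exact congrArg Subtype.val (hkill σ.ker Z (fun i => Subtype.ext (hexp _ (hzker i)))
        (fun d hd => Subtype.ext (hzdefs d hd))
        (fun e => Subtype.ext ((hval' _).trans (hpath e))) r hr)
  -- the section over the Sylow subgroup
  simp only [pcOK, List.all_eq_true, List.mem_range, Bool.and_eq_true, List.any_eq_true,
    Bool.or_eq_true, beq_iff_eq, decide_eq_true_eq] at hpc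
  let S : ℕ → Subgroup Γ := fun i => Subgroup.closure (L '' {k | i ≤ k ∧ k < D.n})
  have hgenS : ∀ i k, i ≤ k → k < D.n → L k ∈ S i := fun i k h1 h2 =>
    Subgroup.subset_closure ⟨k, ⟨h1, h2⟩, rfl⟩
  have hwS : ∀ i (w : List ℕ), (∀ s ∈ w, i < s ∧ s < D.n) → evG L w ∈ S (i + 1) := fun i w hw =>
    evG_mem (S := (S (i + 1)).toSubmonoid) fun s hs => hgenS _ _ (hw s hs).1 (hw s hs).2
  have hSn : S D.n = ⊥ := by
    simp only [S]
    rw [Subgroup.closure_eq_bot_iff]
    rintro x ⟨k, hk, rfl⟩
    have h1 := hk.1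
    have h2 := hk.2
    omega
  have hStep : ∀ i < D.n, Nat.card (S i) ≤ D.p * Nat.card (S (i + 1)) := by
    intro i hi
    obtain ⟨⟨r, -, hrz', hr2⟩, hconj⟩ := hpc i hi
    refine card_closure_step hp.pos (L i) (S (i + 1)) ?_ ?_ _ ?_
    · have h := hrz r
      rw [hzero r hrz'.1, mul_one, hrz'.2] at h
      rw [show L i ^ D.p = evG L (List.replicate D.p i) by
        rw [evG, List.map_replicate, List.prod_replicate], h]
      exact hwS i _ hr2
    · intro x hx
      induction hx using Subgroup.closure_induction with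
      | mem y hy =>
        obtain ⟨j, ⟨hij, hjn⟩, rfl⟩ := hy
        obtain ⟨r, -, ⟨⟨hz0, hl⟩, hhd⟩, htl⟩ := (hconj j hjn).resolve_left (by omega)
        have h := hrz r
        rw [hzero r hz0, mul_one, hl] at h
        obtain ⟨tl, htl'⟩ := List.head?_eq_some_iff.1 hhd
        rw [htl'] at h htl
        have e : L j * L i = L i * evG L tl := by simpa [evG] using h
        rw [mul_assoc, e, inv_mul_cancel_left]
        exact hwS i tl htl
      | one => simp
      | mul a b _ _ ha hb =>
        have := mul_mem ha hb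
        simpa [mul_assoc] using this
      | inv a _ ha =>
        have := inv_mem ha
        simpa [mul_assoc] using this
    · rintro x ⟨k, ⟨h1, h2⟩, rfl⟩
      rcases h1.eq_or_lt with rfl | h
      · exact Or.inl rfl
      · exact Or.inr (hgenS _ _ h h2)
  have hcardS : ∀ d ≤ D.n, Nat.card (S (D.n - d)) ≤ D.p ^ d := by
    intro d
    induction d with
    | zero => intro _; rw [Nat.sub_zero, hSn, Subgroup.card_bot, pow_zero]
    | succ d ih =>
      intro hd
      refine (hStep _ (by omega)).trans ?_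
      rw [show D.n - (d + 1) + 1 = D.n - d by omega, pow_succ']
      exact Nat.mul_le_mul_left _ (ih (by omega))
  have hS0 : Nat.card (S 0) ≤ D.p ^ D.n := by simpa using hcardS D.n le_rfl
  -- the image is a Sylow subgroup
  set E : Subgroup G := (S 0).map σ with hE
  have hEge : D.p ^ D.n ≤ Nat.card E := by
    refine (hbig val hval).trans (le_of_eq ?_)
    have hE' : E = Subgroup.closure (val '' {k | k < D.n}) := by
      rw [hE, MonoidHom.map_closure]
      congr 1
      ext g
      simp [Set.mem_image, hL]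
    rw [hE']
  have hEle : Nat.card E ≤ Nat.card (S 0) := by
    have := Nat.card_le_card_of_surjective _ (σ.subgroupMap_surjective (S 0))
    exact this
  have hEeq : Nat.card E = D.p ^ D.n := le_antisymm (hEle.trans hS0) hEge
  have hinj : ∀ x ∈ S 0, σ x = 1 → x = 1 := by
    intro x hx h1
    have hb : Function.Bijective (σ.subgroupMap (S 0)) :=
      (Nat.bijective_iff_surjective_and_card _).2
        ⟨σ.subgroupMap_surjective (S 0), le_antisymm (hS0.trans hEeq.ge) hEle⟩
    have : (⟨x, hx⟩ : S 0) = 1 := hb.1 (Subtype.ext (h1.trans σ.map_one.symm))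
    exact congrArg Subtype.val this
  let ES : Sylow D.p G := Sylow.ofCard E (by
    rw [hEeq, hcard, Nat.factorization_mul (pow_ne_zero _ hp.ne_zero)
      (fun h0 => hM (by rw [h0]; exact dvd_zero _)), Finsupp.add_apply, hp.factorization_pow,
      Finsupp.single_eq_same, Nat.factorization_eq_zero_of_not_dvd hM, add_zero])
  refine ker_eq_bot_of_sylow ⟨hs, hcen, hder⟩ fun q hq P x hxP hxker hxcomm => ?_
  by_cases hqp : q = D.p
  swap
  · by_contra hx1
    obtain ⟨a, ha⟩ := P.isPGroup' ⟨x, hxP⟩
    have h1 : orderOf x ∣ q ^ a := orderOf_dvd_of_pow_eq_one (congrArg Subtype.val ha)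
    have h2 : orderOf x ∣ D.p := orderOf_dvd_of_pow_eq_one (hexp _ hxker)
    rcases (Nat.dvd_prime hp).1 h2 with h | h
    · exact hx1 (orderOf_eq_one_iff.1 h)
    · rw [h] at h1
      exact hqp ((Nat.prime_dvd_prime_iff_eq hp hq.out).1 (hp.dvd_of_dvd_pow h1)).symm
  subst hqp
  obtain ⟨g, hg⟩ := MulAction.exists_smul_eq G (P.mapSurjective hs) ES
  obtain ⟨g, rfl⟩ := hs g
  have hconjE : ∀ a ∈ P, σ (g * a * g⁻¹) ∈ E := fun a ha => by
    have : σ (g * a * g⁻¹) ∈ ((σ g • P.mapSurjective hs : Sylow D.p G) : Subgroup G) := by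
      rw [Sylow.coe_subgroup_smul]
      refine ⟨σ a, ?_, by simp [MulAut.conj_apply]⟩
      show σ a ∈ (P : Subgroup Γ).map σ
      exact Subgroup.mem_map_of_mem σ ha
    rw [hg] at this
    exact this
  have hsplit : ∀ a ∈ P, ∃ s ∈ S 0, ∃ k ∈ σ.ker, g * a * g⁻¹ = s * k := fun a ha => by
    obtain ⟨s, hs0, hs1⟩ := hconjE a ha
    exact ⟨s, hs0, s⁻¹ * (g * a * g⁻¹), by
      rw [MonoidHom.mem_ker, map_mul, map_inv, hs1, inv_mul_cancel], (mul_inv_cancel_left _ _).symm⟩
  have hxS : g * x * g⁻¹ ∈ S 0 := by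
    have h1 : x ∈ ⁅(P : Subgroup Γ), (P : Subgroup Γ)⁆ := by
      rw [← Subgroup.map_subtype_commutator]
      exact ⟨⟨x, hxP⟩, hxcomm, rfl⟩
    have hle : ⁅(P : Subgroup Γ), (P : Subgroup Γ)⁆ ≤ (S 0).comap (MulAut.conj g).toMonoidHom := by
      rw [Subgroup.commutator_le]
      intro a ha b hb
      obtain ⟨s, hs0, k, hk, ea⟩ := hsplit a ha
      obtain ⟨t, ht0, l, hl, eb⟩ := hsplit b hb
      show MulAut.conj g ⁅a, b⁆ ∈ S 0
      have hk' := fun y : Γ => Subgroup.mem_center_iff.1 (hcen hk) y
      have hl' := fun y : Γ => Subgroup.mem_center_iff.1 (hcen hl) y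
      have hst : ⁅s * k, t * l⁆ = ⁅s, t⁆ := by
        simp only [commutatorElement_def]
        have e1 : s * k * (t * l) = s * t * (k * l) := by
          rw [mul_assoc s k, ← mul_assoc k t l, ← hk' t, mul_assoc t k l, ← mul_assoc]
        have e2 : t * l * (s * k) = t * s * (k * l) := by
          rw [mul_assoc t l, ← mul_assoc l s k, ← hl' s, mul_assoc s l k, ← hl' k, ← mul_assoc]
        calc s * k * (t * l) * (s * k)⁻¹ * (t * l)⁻¹
            = (s * k * (t * l)) * (t * l * (s * k))⁻¹ := by group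
          _ = s * t * s⁻¹ * t⁻¹ := by rw [e1, e2]; group
      have e : MulAut.conj g ⁅a, b⁆ = ⁅s * k, t * l⁆ := by
        rw [← ea, ← eb, map_commutatorElement, MulAut.conj_apply, MulAut.conj_apply]
      rw [e, hst, commutatorElement_def]
      exact mul_mem (mul_mem (mul_mem hs0 ht0) (inv_mem hs0)) (inv_mem ht0)
    exact hle h1
  have h2 := hinj _ hxS (by
    rw [map_mul, map_mul, map_inv, MonoidHom.mem_ker.1 hxker, mul_one, mul_inv_cancel])
  exact conj_eq_one_iff.1 h2

/-- No stem extension has kernel of order divisible by `p`. -/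
theorem not_dvd_card_ker_gen [Finite Γ] (C : Coding G op one) (D : Data) [Fact D.p.Prime]
    (hmem : ∀ v ∈ D.syms, ∃ g : G, C.code g = v) (hrules : rulesOK op one D = true)
    (hdefs : defsOK D = true) (hpc : pcOK D = true) 
    (hkill : ∀ (K : Type) [CommGroup K] (Z : ℕ → K), (∀ i, Z i ^ D.p = 1) →
      (∀ d ∈ D.defs, Z d.1 = 1) → (∀ e, evG Z (pathVec D e) = 1) → ∀ t ∈ D.targets, Z t = 1)
    (hbig : ∀ val : ℕ → G, (∀ i, C.code (val i) = D.syms.getD i one) →
      D.p ^ D.n ≤ Nat.card (Subgroup.closure (val '' {k | k < D.n})))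
    {M : ℕ} (hcard : Nat.card G = D.p ^ D.n * M) (hM : ¬ D.p ∣ M)
    (σ : Γ →* G) (hσ : Cfsg.IsStemExtension σ) : ¬ D.p ∣ Nat.card σ.ker := by
  intro hdvd
  letI : CommGroup σ.ker :=
    { (inferInstance : Group σ.ker) with
      mul_comm := fun a b => Subtype.ext (Subgroup.mem_center_iff.1 (hσ.2.1 b.2) a.1) }
  let φ : σ.ker →* σ.ker := powMonoidHom D.p
  let K : Subgroup Γ := φ.range.map σ.ker.subtype
  haveI hKn : K.Normal := ⟨fun x hx g => by
    obtain ⟨y, hy, rfl⟩ := hx
    have hc := Subgroup.mem_center_iff.1 (hσ.2.1 y.2) g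
    rw [Subgroup.coe_subtype, hc, mul_inv_cancel_right]
    exact ⟨y, hy, rfl⟩⟩
  have hKle : K ≤ σ.ker := Subgroup.map_subtype_le _
  let τ : Γ ⧸ K →* G := QuotientGroup.lift K σ hKle
  have hτ : Cfsg.IsStemExtension τ := by
    have hkmem : ∀ x : Γ, (x : Γ ⧸ K) ∈ τ.ker → x ∈ σ.ker := fun x hx => hx
    refine ⟨fun g => ?_, ?_, ?_⟩
    · obtain ⟨x, rfl⟩ := hσ.1 g
      exact ⟨x, rfl⟩
    · intro q hq
      induction q using QuotientGroup.induction_on with
      | _ x =>
        refine Subgroup.mem_center_iff.2 fun y => ?_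
        induction y using QuotientGroup.induction_on with
        | _ y =>
          rw [← QuotientGroup.mk_mul, ← QuotientGroup.mk_mul,
            Subgroup.mem_center_iff.1 (hσ.2.1 (hkmem x hq)) y]
    · intro q hq
      induction q using QuotientGroup.induction_on with
      | _ x =>
        have := Subgroup.mem_map_of_mem (QuotientGroup.mk' K) (hσ.2.2 (hkmem x hq))
        rw [commutator_def, Subgroup.map_commutator,
          Subgroup.map_top_of_surjective _ (QuotientGroup.mk'_surjective K)] at this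
        exact this
  have hexp : ∀ q ∈ τ.ker, q ^ D.p = 1 := by
    intro q hq
    induction q using QuotientGroup.induction_on with
    | _ x =>
      rw [← QuotientGroup.mk_pow, QuotientGroup.eq_one_iff]
      exact ⟨φ ⟨x, hq⟩, ⟨⟨x, hq⟩, rfl⟩, rfl⟩
  have hbot := false_of_exponent_gen C D hmem hrules hdefs hpc hkill hbig hcard hM τ hτ hexp
  have hsurj : Function.Surjective φ := fun y => by
    have : (y.1 : Γ ⧸ K) ∈ τ.ker := y.2
    rw [hbot, Subgroup.mem_bot, QuotientGroup.eq_one_iff] at this
    obtain ⟨y', ⟨w, hw⟩, hy'⟩ := this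
    exact ⟨w, hw.trans (Subtype.ext hy')⟩
  have hinj := Finite.injective_iff_surjective.2 hsurj
  obtain ⟨z, hz⟩ := exists_prime_orderOf_dvd_card' D.p hdvd
  have : z = 1 := hinj (by simp only [φ, powMonoidHom_apply, one_pow, ← hz, pow_orderOf_eq_one])
  rw [this, orderOf_one] at hz
  exact (Fact.out : D.p.Prime).one_lt.ne hz

end H97.SchurCert
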