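import Cfsg.Agent.H97.Co0Zcert2
import Cfsg.Agent.H97.Co0Zmono2
import Cfsg.Agent.H97.Co0Zcert3
import Cfsg.Agent.H97.Co0Zpair3
import Cfsg.Agent.H97.Co0Zcert57
import Cfsg.Agent.H97.Co0Perfect
import Cfsg.Agent.H26.PerfectCoverSchur

/-! The multiplier of Co1 has order 2. -/

set_option autoImplicit false
set_option maxRecDepth 100000

namespace H97.Co0Code

open Cfsg H95 M24x SchurCert

theorem exists_gen_co0 {gens : List (List (List ℤ))} (h : gens.all (fun E => genOK E []) = true) :
    ∀ E ∈ gens, ∃ g : Co0, code (MonoidHom.id Co0 g) = codeE E := fun E hE => by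
  obtain ⟨g, hg, -⟩ := genOK_spec (List.all_eq_true.1 h E hE)
  exact ⟨g, hg⟩

theorem co0_trivial_multiplier : HasCyclicSchurMultiplier Co0 1 := by
  haveI : Finite Co0 := co0_finite
  have hinj : Function.Injective (MonoidHom.id Co0) := Function.injective_id
  have hc : Nat.card Co0 = 8315553613086720000 := card_co0 golayUnique
  refine H97.hasTrivialMultiplier fun Γ _ _ σ hσ => ?_
  rw [← Subgroup.card_eq_one]
  by_contra hne
  obtain ⟨p, hp, hdvd⟩ := Nat.exists_prime_and_dvd hne
  haveI := Fact.mk hp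
  have hsq := sq_dvd_of_dvd_card_ker σ hσ hdvd
  rw [hc] at hsq
  have hd : p ∈ Nat.primeFactorsList 8315553613086720000 :=
    (Nat.mem_primeFactorsList (by norm_num)).2 ⟨hp, (dvd_pow_self p two_ne_zero).trans hsq⟩
  have hle : p ∈ [2, 3, 5, 7, 11, 13, 23] := by
    have e : (8315553613086720000 : ℕ) = 2 ^ 22 * 3 ^ 9 * 5 ^ 4 * 7 ^ 2 * 11 * 13 * 23 := by norm_num
    have h := (dvd_pow_self p two_ne_zero).trans hsq
    rw [e] at h
    simp only [List.mem_cons, List.not_mem_nil, or_false]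
    simp only [hp.dvd_mul, hp.prime.dvd_pow_iff_dvd (by norm_num : (22 : ℕ) ≠ 0),
      hp.prime.dvd_pow_iff_dvd (by norm_num : (9 : ℕ) ≠ 0),
      hp.prime.dvd_pow_iff_dvd (by norm_num : (4 : ℕ) ≠ 0),
      hp.prime.dvd_pow_iff_dvd (by norm_num : (2 : ℕ) ≠ 0)] at h
    rcases h with ((((((h | h) | h) | h) | h) | h) | h) <;>
      have := (Nat.prime_dvd_prime_iff_eq hp (by norm_num)).1 h <;> omega
  simp only [List.mem_cons, List.not_mem_nil, or_false] at hle
  rcases hle with rfl | rfl | rfl | rfl | rfl | rfl | rfl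
  · haveI : Fact Z2.data.p.Prime := ⟨Nat.prime_two⟩
    refine not_dvd_card_ker_gen (coding (MonoidHom.id Co0) hinj) Z2.data (fun v hv => ?_)
      Z2.rules_ok Z2.defs_ok Z2.pc_ok
      (kill_of_masks (combos2OK_of_parts Z2.combos_ok Z2.paths_ok))
      (big_of_mono4 (MonoidHom.id Co0) hinj Z2.data Z2.mono_ok) (M := 1982582476875)
      ?_ ?_ σ hσ hdvd
    · have h1 := Z2.syms_ok
      simp only [List.all_eq_true, List.contains_iff_mem] at h1
      exact slp_mem (coding (MonoidHom.id Co0) hinj) (seeds := Z2.mats.map codeE) (fun w hw => by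
        obtain ⟨E, hE, rfl⟩ := List.mem_map.1 hw
        exact exists_gen_co0 Z2.gens_ok E hE) [] v (h1 v hv)
    · rw [hc]; rfl
    · decide
  · haveI : Fact Z3.data.p.Prime := ⟨Nat.prime_three⟩
    refine not_dvd_card_ker_gen (coding (MonoidHom.id Co0) hinj) Z3.data (fun v hv => ?_)
      Z3.rules_ok Z3.defs_ok Z3.pc_ok
      (kill_of_vecs Z3.combos_ok fun e he => by
        obtain ⟨es, hes, h⟩ := Z3.paths_ok e he
        exact vecsOK_of_all h hes)
      (big_of_pair (MonoidHom.id Co0) hinj Z3.data Z3.pair_ok) (M := 422473891840000)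
      ?_ ?_ σ hσ hdvd
    · have h1 := Z3.syms_ok
      simp only [List.all_eq_true, List.contains_iff_mem] at h1
      exact slp_mem (coding (MonoidHom.id Co0) hinj) (seeds := Z3.mats.map codeE) (fun w hw => by
        obtain ⟨E, hE, rfl⟩ := List.mem_map.1 hw
        exact exists_gen_co0 Z3.gens_ok E hE) [] v (h1 v hv)
    · rw [hc]; rfl
    · decide
  · haveI : Fact Z5.data.p.Prime := ⟨Nat.prime_five⟩
    exact not_dvd_of_cert (MonoidHom.id Co0) hinj (exists_gen_co0 Z5.gens_ok) Z5.data Z5.cert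
      (M := 13304885780938752) (by rw [hc]; rfl) (by decide) σ hσ hdvd
  · haveI : Fact Z7.data.p.Prime := ⟨Nat.prime_seven⟩
    exact not_dvd_of_cert (MonoidHom.id Co0) hinj (exists_gen_co0 Z7.gens_ok) Z7.data Z7.cert
      (M := 169705175777280000) (by rw [hc]; rfl) (by decide) σ hσ hdvd
  all_goals norm_num at hsq

theorem co1_multiplier : HasCyclicSchurMultiplier Spor.Co1 2 := by
  haveI : Finite Co0 := co0_finite
  haveI : Fact (Nat.Prime 2) := ⟨Nat.prime_two⟩
  exact H26.hasCyclicSchurMultiplier_of_perfect_cover (QuotientGroup.mk' (Subgroup.center Co0))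
    (QuotientGroup.mk'_surjective _) (by rw [QuotientGroup.ker_mk'])
    (by rw [QuotientGroup.ker_mk']; exact card_center_co0) co0_perfect co0_trivial_multiplier

end H97.Co0Code
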