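import Cfsg.Agent.H97.Co2Cert2
import Cfsg.Agent.H97.Co2Cert35
import Cfsg.Agent.H95.Co2Simple
import Cfsg.Agent.H95.OutStab
import Cfsg.Agent.H95.McLSimple

/-! The multiplier of Co2 is trivial. -/

set_option autoImplicit false
set_option maxRecDepth 100000

namespace H97.Co0Code.Co2

open Cfsg H95 M24x SchurCert

theorem gens_ok : gens.all (fun E => genOK E [vecL (Spor.leechU : GolayPt → ℤ)]) = true := by
  decide +kernel

/-- Co2 inside the lattice group. -/
noncomputable def incl : Spor.Co2 →* Co0 :=
  (MulAction.stabilizer Co0 Spor.leechU).subtype.comp (infStabEquiv Spor.leechU).toMonoidHom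

theorem incl_injective : Function.Injective incl :=
  Subtype.val_injective.comp (infStabEquiv Spor.leechU).injective

theorem card_eq : Nat.card Spor.Co2 = 42305421312000 := by
  rw [← card_stab_32 H95.leechU_norm]
  exact Nat.card_congr (infStabEquiv Spor.leechU).toEquiv

theorem exists_gen : ∀ E ∈ gens, ∃ g : Spor.Co2, code (incl g) = codeE E := by
  intro E hE
  obtain ⟨g, hg, hfix⟩ := genOK_spec (List.all_eq_true.1 gens_ok E hE)
  refine ⟨(infStabEquiv Spor.leechU).symm ⟨g, hfix _ (by simp)⟩, ?_⟩
  rw [← hg]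
  congr 1

theorem trivial_multiplier : HasCyclicSchurMultiplier Spor.Co2 1 := by
  haveI : Finite Spor.Co2 := Nat.finite_of_card_ne_zero (by rw [card_eq]; norm_num)
  refine H97.hasTrivialMultiplier fun Γ _ _ σ hσ => ?_
  rw [← Subgroup.card_eq_one]
  by_contra hne
  obtain ⟨p, hp, hdvd⟩ := Nat.exists_prime_and_dvd hne
  haveI := Fact.mk hp
  have hsq := sq_dvd_of_dvd_card_ker σ hσ hdvd
  rw [card_eq] at hsq
  have h235 : p = 2 ∨ p = 3 ∨ p = 5 := by
    have hle : p ∈ [2, 3, 5, 7, 11, 23] := by
      have hd : p ∣ 2 ^ 18 * 3 ^ 6 * 5 ^ 3 * (7 * 11 * 23) :=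
        (show (42305421312000 : ℕ) = 2 ^ 18 * 3 ^ 6 * 5 ^ 3 * (7 * 11 * 23) by norm_num) ▸
          (dvd_pow_self p two_ne_zero).trans hsq
      simp only [List.mem_cons, List.not_mem_nil, or_false]
      rcases hp.dvd_mul.1 hd with h | h
      · rcases hp.dvd_mul.1 h with h | h
        · rcases hp.dvd_mul.1 h with h | h <;>
            have := (Nat.prime_dvd_prime_iff_eq hp (by norm_num)).1 (hp.dvd_of_dvd_pow h) <;> omega
        · have := (Nat.prime_dvd_prime_iff_eq hp (by norm_num)).1 (hp.dvd_of_dvd_pow h); omega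
      · rcases hp.dvd_mul.1 h with h | h
        · rcases hp.dvd_mul.1 h with h | h <;>
            have := (Nat.prime_dvd_prime_iff_eq hp (by norm_num)).1 h <;> omega
        · have := (Nat.prime_dvd_prime_iff_eq hp (by norm_num)).1 h; omega
    simp only [List.mem_cons, List.not_mem_nil, or_false] at hle
    rcases hle with h | h | h | h | h | h
    · exact Or.inl h
    · exact Or.inr (Or.inl h)
    · exact Or.inr (Or.inr h)
    all_goals subst h; norm_num at hsq
  rcases h235 with rfl | rfl | rfl
  · haveI : Fact data2.p.Prime := ⟨Nat.prime_two⟩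
    exact not_dvd_of_cert2 incl incl_injective exists_gen data2 syms2 rules2 defs2 pc2 combos2
      mono2 (M := 161382375) (by rw [card_eq]; rfl) (by decide) σ hσ hdvd
  · haveI : Fact data3.p.Prime := ⟨Nat.prime_three⟩
    exact not_dvd_of_cert incl incl_injective exists_gen data3 cert3 (M := 58032128000)
      (by rw [card_eq]; rfl) (by decide) σ hσ hdvd
  · haveI : Fact data5.p.Prime := ⟨Nat.prime_five⟩
    exact not_dvd_of_cert incl incl_injective exists_gen data5 cert5 (M := 338443370496)
      (by rw [card_eq]; rfl) (by decide) σ hσ hdvd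

end H97.Co0Code.Co2
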