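import Cfsg.Agent.H97.SchurCertDefs

/-! Certificate: 2-part of the multiplier of M11. -/

set_option maxRecDepth 20000

namespace H97.SchurCert

def dataM11p2 : Data where
  p := 2
  n := 4
  syms := [
    796422664143520048046740322637776928,
    984799016615329826603595760505294880,
    304382488815307602047787978285647904,
    944569772236290697579231267829188640,
    944159408885335200899968911681029248,
    721046562558839904869265658136834080]
  rules := [
    ([0, 0], [3]),
    ([1, 1], []),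
    ([2, 2], [3]),
    ([3, 3], []),
    ([1, 0], [0, 1, 2]),
    ([2, 0], [0, 2, 3]),
    ([2, 1], [1, 2, 3]),
    ([3, 0], [0, 3]),
    ([3, 1], [1, 3]),
    ([3, 2], [2, 3]),
    ([4, 0], [0, 2, 4]),
    ([4, 0, 2], [2, 4]),
    ([5, 3], [1, 5]),
    ([5, 1], [3, 5])]
  defs := [(4, 2), (5, 3)]
  targets := [0, 1, 2, 3, 6, 7, 8, 9]
  paths := [
    ([2, 1, 0], [(0, 6, true), (2, 7, true), (1, 5, true), (0, 4, true), (2, 2, true), (2, 3, true), (2, 2, false), (3, 3, false), (1, 6, false), (2, 8, false), (0, 5, false), (1, 4, false)]),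
    ([3, 1, 0], [(0, 8, true), (1, 7, true), (0, 4, true), (2, 9, false), (1, 8, false), (0, 7, false), (1, 4, false)]),
    ([0, 0, 0], [(0, 0, true), (0, 7, true), (1, 0, false)]),
    ([1, 1, 0], [(0, 1, true), (1, 3, false), (1, 2, false), (2, 9, false), (1, 1, false), (2, 6, false), (0, 4, false), (1, 4, false)]),
    ([1, 0, 0], [(0, 4, true), (2, 5, true), (1, 4, true), (0, 0, true), (0, 8, true), (1, 9, true), (2, 9, true), (1, 2, true), (1, 3, true), (1, 0, false)]),
    ([2, 2, 0], [(0, 2, true), (0, 7, true), (1, 3, false), (1, 2, false), (2, 9, false), (0, 5, false), (1, 5, false)]),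
    ([4, 0, 2, 0, 2], [(2, 5, true), (1, 0, true), (1, 9, true), (2, 3, true), (1, 2, true), (1, 0, false), (0, 10, true), (2, 10, true), (1, 5, true), (0, 0, true), (0, 9, true), (1, 3, true), (0, 2, true), (0, 2, false), (1, 11, false), (0, 11, false)]),
    ([5, 3, 3], [(1, 3, true), (0, 1, false), (1, 12, false), (0, 12, false)])]
  combos := [
    [(0, 1), (1, 1), (4, 1), (5, 1), (6, 1)],
    [(1, 1), (2, 1), (5, 1), (7, 1)],
    [(0, 1), (1, 1), (4, 1), (5, 1)],
    [(1, 1), (2, 1), (5, 1)],
    [(0, 1), (1, 1), (2, 1), (3, 1), (4, 1)],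
    [(2, 1)],
    [(0, 1), (2, 1)],
    [(1, 1)]]
  sorted := [
    9, 11, 4, 14, 12, 6, 7, 13, 1, 3, 15, 5, 8, 10, 2, 0]

end H97.SchurCert
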