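import Cfsg.Agent.H97.SchurCertDefs

/-! Certificate: 3-part of the multiplier of M12. -/

set_option maxRecDepth 20000

namespace H97.SchurCert

def dataM12p3 : Data where
  p := 3
  n := 3
  syms := [
    903072442038880482157798847580342368,
    233070520973206467012420849577234466,
    942062826831995105197226343612811456,
    440925286851774122920977374455532978,
    731037197947763160367563417921652836,
    313795064343976689354410292043320528,
    713439683499167710645028111620606340]
  rules := [
    ([0, 0, 0], []),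
    ([1, 1, 1], []),
    ([2, 2, 2], []),
    ([1, 0], [0, 1, 2]),
    ([2, 0], [0, 2]),
    ([2, 1], [1, 2]),
    ([3, 2], [1, 1, 2, 3]),
    ([3, 1], [1, 1, 2, 2, 3]),
    ([4, 0], [0, 4]),
    ([4, 2], [2, 2, 4]),
    ([4, 1], [1, 1, 2, 4]),
    ([5, 2], [1, 1, 2, 5]),
    ([5, 1], [1, 1, 5]),
    ([6, 0], [0, 0, 6]),
    ([6, 2], [2, 6]),
    ([6, 1], [1, 1, 2, 2, 6])]
  defs := [(3, 2)]
  targets := [0, 1, 2, 4, 5]
  paths := [
    ([1, 1, 1, 0], [(0, 1, true), (1, 2, false), (1, 1, false), (3, 5, false), (4, 5, false), (2, 5, false), (0, 3, false), (1, 3, false), (2, 3, false)]),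
    ([3, 2, 2, 2], [(1, 2, true), (0, 2, false), (0, 1, false), (2, 5, false), (3, 5, false), (1, 5, false), (2, 5, false), (0, 5, false), (0, 1, false), (2, 5, false), (6, 6, false), (3, 6, false), (0, 6, false)]),
    ([4, 2, 0], [(1, 4, true), (0, 8, true), (1, 9, true), (0, 4, false), (1, 4, false), (2, 8, false), (0, 9, false)]),
    ([5, 1, 2], [(1, 5, false), (0, 11, true), (3, 12, true), (2, 5, true), (0, 1, true), (0, 5, true), (0, 1, false), (2, 11, false), (0, 12, false)]),
    ([6, 0, 0, 0], [(1, 0, true), (0, 0, false), (0, 0, false), (4, 13, false), (2, 13, false), (0, 13, false)])]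
  combos := [
    [(4, 2)],
    [(1, 1)],
    [(0, 2)],
    [(2, 2)],
    [(3, 1)]]
  sorted := [
    14, 22, 3, 17, 16, 15, 8, 7, 6, 26, 25, 24, 5, 13, 21, 23, 4, 12, 11, 1,
    18, 2, 19, 9, 20, 10, 0]

end H97.SchurCert
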