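import Cfsg.Agent.H97.SchurCertDefs

/-! Certificate: 2-part of the multiplier of M23. -/

set_option maxRecDepth 20000

namespace H97.SchurCert

def dataM23p2 : Data where
  p := 2
  n := 7
  syms := [
    984158983359129550953007900942075936,
    970558404486387806554625255371150368,
    984778947275340660717821982278781344,
    984404951986650291017642929327245344,
    969202056781860934635753244362607648,
    976607671605327482668242317735039008,
    958359841193275559058527489894996000,
    968697452695243724202772516707611041,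
    966014806653184549698398537565966769,
    981478994321157959006221968971537472,
    982020456794128584146721274417454093]
  rules := [
    ([0, 0], []),
    ([1, 1], [5]),
    ([2, 2], []),
    ([3, 3], []),
    ([4, 4], []),
    ([5, 5], []),
    ([6, 6], []),
    ([1, 0], [0, 1, 5, 6]),
    ([2, 0], [0, 2, 3]),
    ([2, 1], [1, 2, 4]),
    ([3, 0], [0, 3]),
    ([3, 1], [1, 3, 5]),
    ([3, 2], [2, 3]),
    ([4, 0], [0, 4, 5]),
    ([4, 1], [1, 4, 6]),
    ([4, 2], [2, 4]),
    ([4, 3], [3, 4, 6]),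
    ([5, 0], [0, 5]),
    ([5, 1], [1, 5]),
    ([5, 2], [2, 5, 6]),
    ([5, 3], [3, 5]),
    ([5, 4], [4, 5]),
    ([6, 0], [0, 6]),
    ([6, 1], [1, 6]),
    ([6, 2], [2, 6]),
    ([6, 3], [3, 6]),
    ([6, 4], [4, 6]),
    ([6, 5], [5, 6]),
    ([7, 4], [1, 3, 5, 7]),
    ([7, 5], [1, 3, 4, 7]),
    ([7, 1, 3], [1, 3, 4, 5, 7]),
    ([7, 1, 3, 4, 6], [1, 3, 4, 5, 6, 7]),
    ([8, 0, 5], [1, 3, 5, 6, 8]),
    ([8, 0, 3, 5, 6], [1, 3, 4, 5, 8]),
    ([9, 4], [3, 9]),
    ([9, 4, 6], [0, 9]),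
    ([9, 2], [0, 3, 5, 9]),
    ([10, 0], [0, 6, 10]),
    ([10, 0, 3], [0, 3, 5, 10]),
    ([10, 4], [1, 3, 10]),
    ([10, 1], [1, 4, 6, 10])]
  defs := [(8, 3), (9, 4), (11, 5), (19, 6)]
  targets := [0, 1, 2, 3, 4, 5, 6, 7, 10, 12, 13, 14, 15, 16, 17, 18, 20, 21, 22, 23, 24, 25, 26, 27]
  paths := [
    ([2, 1, 0], [(0, 9, true), (2, 13, true), (1, 8, true), (0, 7, true), (3, 24, true), (2, 19, true), (4, 6, true), (3, 20, true), (4, 21, true), (5, 5, true), (5, 6, false), (5, 5, false), (6, 27, false), (5, 27, false), (3, 16, false), (1, 9, false), (2, 11, false), (0, 8, false), (1, 7, false)]),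
    ([3, 1, 0], [(0, 11, true), (2, 17, true), (1, 10, true), (0, 7, true), (3, 25, true), (2, 20, true), (4, 27, true), (3, 5, true), (3, 5, false), (1, 11, false), (0, 10, false), (1, 7, false)]),
    ([3, 2, 1], [(0, 12, true), (1, 11, true), (0, 9, true), (2, 16, true), (4, 27, true), (3, 21, false), (4, 26, false), (1, 12, false), (2, 19, false), (0, 11, false), (1, 9, false)]),
    ([4, 1, 0], [(0, 14, true), (2, 22, true), (1, 13, true), (0, 7, true), (3, 26, true), (2, 21, true), (4, 27, true), (3, 5, true), (3, 6, true), (3, 6, false), (3, 5, false), (4, 27, false), (3, 27, false), (1, 14, false), (2, 18, false), (0, 13, false), (1, 7, false)]),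
    ([4, 2, 0], [(0, 15, true), (1, 13, true), (0, 8, true), (5, 6, false), (4, 27, false), (2, 16, false), (3, 20, false), (4, 25, false), (1, 15, false), (2, 19, false), (0, 13, false), (1, 8, false)]),
    ([4, 2, 1], [(0, 15, true), (1, 14, true), (0, 9, true), (2, 4, true), (2, 4, false), (3, 26, false), (1, 15, false), (2, 24, false), (0, 14, false), (1, 9, false)]),
    ([4, 3, 0], [(0, 16, true), (2, 22, true), (1, 13, true), (0, 10, true), (3, 27, false), (1, 16, false), (2, 20, false), (0, 13, false), (1, 10, false)]),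
    ([4, 3, 1], [(0, 16, true), (2, 23, true), (1, 14, true), (0, 11, true), (2, 21, true), (4, 6, true), (3, 6, false), (1, 16, false), (2, 25, false), (0, 14, false), (1, 11, false)]),
    ([4, 3, 2], [(0, 16, true), (2, 24, true), (1, 15, true), (0, 12, true), (1, 16, false), (0, 15, false), (1, 12, false)]),
    ([5, 1, 0], [(0, 18, true), (1, 17, true), (0, 7, true), (3, 27, true), (2, 5, true), (2, 5, false), (1, 18, false), (0, 17, false), (1, 7, false)]),
    ([5, 2, 0], [(0, 19, true), (2, 22, true), (1, 17, true), (0, 8, true), (2, 20, false), (3, 25, false), (1, 19, false), (0, 17, false), (1, 8, false)]),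
    ([1, 1, 1], [(0, 1, true), (0, 18, true), (1, 1, false)]),
    ([1, 1, 0], [(0, 1, true), (0, 17, true), (2, 6, false), (1, 27, false), (1, 5, false), (1, 1, false), (2, 18, false), (3, 23, false), (0, 7, false), (1, 7, false)]),
    ([2, 2, 0], [(0, 2, true), (1, 3, false), (1, 2, false), (2, 12, false), (0, 8, false), (1, 8, false)]),
    ([2, 0, 0], [(0, 8, true), (2, 10, true), (1, 8, true), (0, 0, true), (1, 3, true), (1, 0, false)]),
    ([2, 2, 1], [(0, 2, true), (1, 4, false), (1, 2, false), (2, 15, false), (0, 9, false), (1, 9, false)]),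
    ([2, 1, 1], [(0, 9, true), (2, 14, true), (1, 9, true), (0, 1, true), (0, 19, true), (2, 26, true), (1, 21, true), (3, 26, true), (2, 21, true), (1, 4, true), (2, 6, true), (1, 1, false)]),
    ([3, 3, 1], [(0, 3, true), (1, 5, false), (1, 3, false), (2, 20, false), (0, 11, false), (1, 11, false)]),
    ([7, 4, 4], [(1, 4, true), (0, 5, false), (0, 3, false), (1, 20, false), (1, 5, false), (0, 20, false), (0, 1, false), (1, 11, false), (2, 18, false), (3, 28, false), (0, 28, false)]),
    ([7, 5, 4], [(1, 21, true), (0, 28, true), (3, 29, true), (2, 18, true), (1, 11, true), (0, 1, true), (0, 20, true), (1, 5, true), (1, 20, true), (0, 3, true), (0, 21, true), (1, 6, false), (0, 3, false), (1, 16, false), (2, 25, false), (1, 5, false), (0, 20, false), (0, 1, false), (1, 11, false), (2, 14, false), (3, 28, false), (0, 29, false)]),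
    ([8, 0, 5, 0, 5], [(2, 17, true), (1, 0, true), (1, 5, true), (0, 6, false), (0, 5, false), (1, 27, false), (0, 3, false), (1, 20, false), (2, 25, false), (1, 5, false), (0, 20, false), (0, 1, false), (1, 11, false), (2, 18, false), (3, 23, false), (4, 32, false), (0, 32, false)]),
    ([8, 0, 3, 5, 6, 0, 5], [(4, 22, true), (3, 17, true), (2, 10, true), (1, 0, true), (3, 27, true), (2, 5, true), (2, 5, false), (1, 20, false), (1, 0, false), (2, 17, false), (0, 32, true), (4, 33, true), (3, 23, true), (2, 18, true), (1, 11, true), (0, 1, true), (0, 20, true), (1, 5, true), (2, 25, true), (1, 20, true), (0, 3, true), (1, 26, true), (0, 21, true), (2, 27, true), (1, 5, true), (1, 5, false), (2, 6, false), (1, 27, false), (0, 3, false), (1, 16, false), (2, 20, false), (3, 25, false), (2, 27, false), (1, 5, false), (0, 20, false), (0, 1, false), (1, 11, false), (2, 14, false), (3, 18, false), (4, 32, false), (0, 33, false)]),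
    ([9, 2, 2], [(1, 2, true), (0, 5, false), (0, 3, false), (1, 20, false), (0, 0, false), (1, 10, false), (2, 17, false), (3, 36, false), (0, 36, false)]),
    ([10, 4, 0, 4], [(1, 13, true), (3, 21, true), (2, 4, true), (2, 1, false), (0, 37, true), (2, 40, true), (5, 40, true), (1, 23, true), (2, 26, true), (3, 6, true), (2, 14, true), (1, 1, true), (1, 21, true), (3, 26, true), (2, 21, true), (1, 4, true), (2, 6, true), (1, 3, false), (2, 20, false), (2, 5, false), (1, 20, false), (1, 1, false), (2, 11, false), (3, 18, false), (4, 6, false), (2, 20, false), (3, 25, false), (0, 7, false), (1, 10, false), (4, 39, false), (2, 37, false), (0, 39, false)])]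
  combos := [
    [(2, 1), (3, 1), (6, 1), (9, 1), (11, 1), (12, 1), (16, 1), (18, 1), (19, 1), (20, 1)],
    [(1, 1), (3, 1), (4, 1), (11, 1), (12, 1), (14, 1), (16, 1), (17, 1), (18, 1), (21, 1)],
    [(3, 1), (4, 1), (5, 1), (6, 1), (7, 1), (8, 1), (14, 1), (16, 1), (18, 1), (19, 1), (20, 1), (22, 1)],
    [(1, 1), (2, 1), (4, 1), (10, 1), (12, 1), (14, 1), (17, 1), (19, 1), (21, 1)],
    [(2, 1), (3, 1), (10, 1), (16, 1), (19, 1)],
    [(1, 1), (2, 1), (4, 1), (5, 1), (6, 1), (7, 1), (8, 1), (9, 1), (10, 1), (11, 1), (12, 1)],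
    [(2, 1), (3, 1), (4, 1), (9, 1), (10, 1), (11, 1)],
    [(0, 1), (2, 1), (6, 1), (8, 1), (11, 1), (16, 1), (17, 1), (18, 1), (19, 1), (21, 1), (23, 1)],
    [(1, 1), (2, 1), (4, 1), (10, 1), (12, 1), (17, 1), (19, 1), (21, 1)],
    [(1, 1), (2, 1), (4, 1), (10, 1), (12, 1), (13, 1), (14, 1), (17, 1), (19, 1), (21, 1)],
    [(0, 1), (1, 1), (4, 1), (6, 1), (7, 1), (8, 1), (10, 1), (11, 1), (12, 1), (17, 1)],
    [(4, 1), (9, 1), (11, 1), (19, 1)],
    [(2, 1), (3, 1), (10, 1), (15, 1), (16, 1), (19, 1)],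
    [(1, 1), (3, 1), (4, 1), (5, 1), (7, 1), (8, 1), (10, 1), (12, 1), (17, 1)],
    [(2, 1), (4, 1), (5, 1), (7, 1), (8, 1), (9, 1), (11, 1), (12, 1), (17, 1)],
    [(11, 1)],
    [(1, 1), (2, 1), (4, 1), (5, 1), (6, 1), (7, 1), (8, 1), (9, 1), (10, 1), (11, 1), (12, 1), (17, 1)],
    [(1, 1), (2, 1), (3, 1), (4, 1), (7, 1), (9, 1), (10, 1), (12, 1), (17, 1)],
    [(1, 1), (2, 1), (4, 1), (5, 1), (7, 1), (8, 1), (10, 1), (11, 1), (12, 1), (17, 1)],
    [(1, 1), (2, 1), (3, 1), (4, 1), (6, 1), (12, 1), (17, 1)],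
    [(8, 1)],
    [(6, 1), (9, 1), (10, 1)],
    [(5, 1), (8, 1)],
    [(9, 1)]]
  sorted := [
    72, 76, 64, 65, 68, 77, 69, 73, 125, 113, 84, 28, 80, 24, 57, 53, 96, 37, 104, 105,
    45, 36, 44, 97, 66, 103, 74, 78, 111, 70, 35, 43, 52, 25, 29, 85, 56, 112, 81, 124,
    86, 91, 95, 19, 26, 82, 30, 23, 21, 48, 60, 116, 17, 89, 120, 93, 106, 46, 98, 7,
    38, 15, 11, 3, 92, 88, 117, 61, 121, 49, 16, 20, 107, 6, 99, 47, 14, 39, 10, 2,
    62, 122, 55, 50, 59, 115, 118, 127, 87, 18, 94, 90, 83, 27, 31, 22, 41, 100, 33, 32,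
    108, 101, 109, 40, 63, 51, 54, 123, 114, 58, 119, 126, 67, 79, 75, 102, 71, 110, 34, 42,
    1, 13, 9, 8, 5, 12, 4, 0]

end H97.SchurCert
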