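import Cfsg.Agent.H97.SchurCertDefs

/-! Certificate: 3-part of the multiplier of M23. -/

set_option maxRecDepth 20000

namespace H97.SchurCert

def dataM23p3 : Data where
  p := 3
  n := 2
  syms := [
    961935595077155673236135658428532992,
    967978761699621456126140124303178914,
    963374379686096230294661102479722160,
    967268577571084353648532247876620976]
  rules := [
    ([0, 0, 0], []),
    ([1, 1, 1], []),
    ([1, 0], [0, 1]),
    ([2, 0], [0, 0, 1, 1, 2]),
    ([2, 1], [1, 2]),
    ([3, 0], [0, 0, 1, 1, 3]),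
    ([3, 1], [0, 0, 1, 3])]
  defs := []
  targets := [0, 1, 2]
  paths := [
    ([2, 1, 0], [(1, 2, true), (0, 3, true), (4, 4, true), (2, 1, true), (2, 1, false), (1, 2, false), (0, 2, false), (1, 3, false), (0, 4, false)]),
    ([2, 0, 0, 0], [(1, 0, true), (0, 1, false), (0, 0, false), (2, 2, false), (1, 2, false), (1, 1, false), (0, 2, false), (1, 2, false), (0, 0, false), (2, 2, false), (3, 2, false), (8, 3, false), (4, 3, false), (0, 3, false)]),
    ([3, 1, 1, 1], [(1, 1, true), (0, 1, false), (0, 0, false), (2, 2, false), (3, 2, false), (1, 2, false), (2, 2, false), (0, 2, false), (0, 0, false), (2, 2, false), (6, 6, false), (3, 6, false), (0, 6, false)])]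
  combos := [
    [(2, 1)],
    [(1, 1), (2, 1)],
    [(0, 2)]]
  sorted := [
    7, 1, 4, 8, 3, 2, 5, 6, 0]

end H97.SchurCert
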