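import Cfsg.Agent.H94.J3.Perm
import Cfsg.Agent.H97.SchurMathieu
import Cfsg.Agent.H97.J3SchurData
import Cfsg.Agent.H26.SchurPerfect
import Cfsg.Agent.H26.SchurBasic

/-!
The multiplier of J3 has order three: the triple cover is perfect with trivial multiplier.
-/

set_option autoImplicit false
set_option maxRecDepth 100000

namespace H97.J3Schur

open Cfsg Cfsg.Spor H94.J3 SchurCert
open scoped commutatorElement MatrixGroups

/-- seeds of the program -/
def seeds : List ℕ := [D.sgen 0, D.sgen 1, eye] ++ (List.range 45).map D.genT.get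

/-- values of the program -/
def values : List ℕ :=
  (prog.foldl (fun acc q => H94.J3.mul (acc.getD (acc.length - 1 - q.1) eye)
    (acc.getD (acc.length - 1 - q.2) eye) :: acc) seeds.reverse).reverse

/-- all tests -/
def certOK (D : Data) : Bool :=
  rulesOK H94.J3.mul eye D && defsOK D && pcOK D && sizeOK H94.J3.mul eye D && combosOK D

theorem seeds_small : (seeds.all fun v => decide (v < 2 ^ 162)) = true := by decide +kernel

theorem syms_ok : (let S := values; (data2.syms ++ data3.syms ++ [witA, witB]).all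
    fun v => S.contains v) = true := by decide +kernel

theorem cert2 : certOK data2 = true := by decide +kernel
theorem cert3 : certOK data3 = true := by decide +kernel

theorem wit_ok : H94.J3.mul witA witB = H94.J3.mul D.wScal (H94.J3.mul witB witA) ∧
    D.wScal ≠ eye := by decide +kernel

theorem mul_lt (x y : ℕ) : H94.J3.mul x y < 2 ^ 162 := by
  have hb : ∀ r a k, ((a >>> k) &&& colMask) * (r &&& 511) < 2 ^ 81 := fun r a k => by
    have h1 : (a >>> k) &&& colMask ≤ colMask := Nat.and_le_right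
    have h2 : r &&& 511 ≤ 511 := Nat.and_le_right
    have := Nat.mul_le_mul h1 h2
    have h3 : colMask * 511 < 2 ^ 81 := by decide
    omega
  have hx : ∀ a b, bmul a b < 2 ^ 81 := fun a b => by
    unfold bmul term
    repeat' apply Nat.xor_lt_two_pow
    all_goals exact hb _ _ _
  unfold H94.J3.mul mk2
  refine Nat.xor_lt_two_pow (lt_of_le_of_lt Nat.and_le_right (by norm_num)) ?_
  rw [Nat.shiftLeft_eq, show (162 : ℕ) = 81 + 81 by norm_num, pow_add]
  exact Nat.mul_lt_mul_of_pos_right (Nat.xor_lt_two_pow (hx _ _) (hx _ _)) (by norm_num)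

variable {F : Type*} [Field F] [Fintype F]

section
variable [CharP F 2] {ω : F} (hω : ω ^ 2 + ω + 1 = 0) (C : Chain ω)
include hω

theorem exists_rep_lt (g : C.G) : ∃ x, x < 2 ^ 162 ∧ Rep ω g.1 x := by
  obtain ⟨i, l, hl, e⟩ := C.cover_G hω g.2
  obtain ⟨a, m, hm, rfl⟩ := C.cover_H hω hl
  obtain ⟨k, rfl⟩ := C.cover_K hω hm
  exact ⟨_, mul_lt _ _, e ▸ (C.rep_u i).mul hω ((C.rep_v a).mul hω (C.rep_kk k))⟩

/-- The packed matrix of an element. -/
noncomputable def code (g : C.G) : ℕ := (exists_rep_lt hω C g).choose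

theorem code_spec (g : C.G) : code hω C g < 2 ^ 162 ∧ Rep ω g.1 (code hω C g) :=
  (exists_rep_lt hω C g).choose_spec

theorem code_eq {g : C.G} {x : ℕ} (hx : x < 2 ^ 162) (h : Rep ω g.1 x) : code hω C g = x :=
  tm_inj hω (code_spec hω C g).1 hx ((code_spec hω C g).2.symm.trans h)

/-- The coding. -/
noncomputable def coding : Coding C.G H94.J3.mul eye where
  code := code hω C
  inj g h e := Subtype.ext (Rep.eq ω (code_spec hω C g).2 (e ▸ (code_spec hω C h).2))
  map_one := code_eq hω C (by decide) (rep_one ω)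
  map_mul a b := code_eq hω C (mul_lt _ _) ((code_spec hω C a).2.mul hω (code_spec hω C b).2)

theorem exists_seed : ∀ v ∈ seeds, ∃ g : C.G, code hω C g = v := by
  intro v hv
  have hlt : v < 2 ^ 162 := of_decide_eq_true (List.all_eq_true.1 seeds_small v hv)
  suffices ∃ g ∈ C.G, Rep ω g v by
    obtain ⟨g, hg, hr⟩ := this
    exact ⟨⟨g, hg⟩, code_eq hω C hlt hr⟩
  simp only [seeds, List.cons_append, List.nil_append, List.mem_cons, List.mem_map,
    List.mem_range] at hv
  rcases hv with rfl | rfl | rfl | ⟨t, ht, rfl⟩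
  · exact ⟨C.s 0, Subgroup.subset_closure ⟨0, rfl⟩, C.rep_s 0⟩
  · exact ⟨C.s 1, Subgroup.subset_closure ⟨1, rfl⟩, C.rep_s 1⟩
  · exact ⟨1, C.G.one_mem, rep_one ω⟩
  · exact C.mem_of_memChk hω (small_spec.2.2.2.1 t ht)

theorem exists_value : ∀ v ∈ values, ∃ g : C.G, (coding hω C).code g = v := by
  have get : ∀ (acc : List ℕ), (∀ v ∈ acc, ∃ g : C.G, (coding hω C).code g = v) →
      ∀ k, ∃ g : C.G, (coding hω C).code g = acc.getD k eye := by
    intro acc h k
    by_cases hk : k < acc.length
    · rw [List.getD_eq_getElem _ _ hk]; exact h _ (List.getElem_mem hk)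
    · rw [List.getD_eq_default _ _ (Nat.le_of_not_lt hk)]; exact ⟨1, (coding hω C).map_one⟩
  have key : ∀ (l : List (ℕ × ℕ)) (acc : List ℕ),
      (∀ v ∈ acc, ∃ g : C.G, (coding hω C).code g = v) →
      ∀ v ∈ l.foldl (fun acc q => H94.J3.mul (acc.getD (acc.length - 1 - q.1) eye)
        (acc.getD (acc.length - 1 - q.2) eye) :: acc) acc,
        ∃ g : C.G, (coding hω C).code g = v := by
    intro l
    induction l with
    | nil => intro acc h; exact h
    | cons q l ih =>
      intro acc h
      rw [List.foldl_cons]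
      refine ih _ fun v hv => ?_
      rcases List.mem_cons.1 hv with rfl | hv
      · obtain ⟨a, ha⟩ := get acc h (acc.length - 1 - q.1)
        obtain ⟨b, hb⟩ := get acc h (acc.length - 1 - q.2)
        exact ⟨a * b, by rw [(coding hω C).map_mul, ha, hb]⟩
      · exact h v hv
  intro v hv
  rw [values, List.mem_reverse] at hv
  exact key prog seeds.reverse (fun w hw => exists_seed hω C w (List.mem_reverse.1 hw)) v hv

theorem exists_sym {v : ℕ} (hv : v ∈ data2.syms ++ data3.syms ++ [witA, witB]) :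
    ∃ g : C.G, (coding hω C).code g = v :=
  exists_value hω C v (List.contains_iff_mem.1 (List.all_eq_true.1 syms_ok v hv))

theorem cover_trivial : HasCyclicSchurMultiplier C.G 1 := by
  haveI : Finite C.G := Nat.finite_of_card_ne_zero (by rw [C.card_G hω]; norm_num)
  refine H97.hasTrivialMultiplier fun Γ _ _ σ hσ => ?_
  rw [← Subgroup.card_eq_one]
  by_contra hne
  obtain ⟨p, hp, hdvd⟩ := Nat.exists_prime_and_dvd hne
  haveI := Fact.mk hp
  have hsq := sq_dvd_of_dvd_card_ker σ hσ hdvd
  rw [C.card_G hω] at hsq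
  have hmem : p ∈ Nat.primeFactorsList 150698880 :=
    (Nat.mem_primeFactorsList (by norm_num)).2 ⟨hp, (dvd_pow_self p two_ne_zero).trans hsq⟩
  have h23 : p = 2 ∨ p = 3 := by
    have hd : p ∣ 2 ^ 7 * 3 ^ 6 * (5 * 17 * 19) :=
      (show (150698880 : ℕ) = 2 ^ 7 * 3 ^ 6 * (5 * 17 * 19) by norm_num) ▸
        (dvd_pow_self p two_ne_zero).trans hsq
    rcases hp.dvd_mul.1 hd with h | h
    · rcases hp.dvd_mul.1 h with h | h
      · exact Or.inl ((Nat.prime_dvd_prime_iff_eq hp Nat.prime_two).1 (hp.dvd_of_dvd_pow h))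
      · exact Or.inr ((Nat.prime_dvd_prime_iff_eq hp Nat.prime_three).1 (hp.dvd_of_dvd_pow h))
    · exfalso
      rcases hp.dvd_mul.1 h with h | h
      · rcases hp.dvd_mul.1 h with h | h <;>
          obtain rfl := (Nat.prime_dvd_prime_iff_eq hp (by norm_num)).1 h <;> norm_num at hsq
      · obtain rfl := (Nat.prime_dvd_prime_iff_eq hp (by norm_num)).1 h; norm_num at hsq
  rcases h23 with rfl | rfl
  · haveI : Fact data2.p.Prime := ⟨Nat.prime_two⟩
    have hc := cert2
    simp only [certOK, Bool.and_eq_true] at hc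
    exact not_dvd_card_ker (coding hω C) data2
      (fun v hv => exists_sym hω C (List.mem_append_left _ (List.mem_append_left _ hv)))
      hc.1.1.1.1 hc.1.1.1.2 hc.1.1.2 hc.1.2 hc.2 (M := 1177335)
      (by rw [C.card_G hω]; rfl) (by decide) σ hσ hdvd
  · haveI : Fact data3.p.Prime := ⟨Nat.prime_three⟩
    have hc := cert3
    simp only [certOK, Bool.and_eq_true] at hc
    exact not_dvd_card_ker (coding hω C) data3
      (fun v hv => exists_sym hω C (List.mem_append_left _ (List.mem_append_right _ hv)))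
      hc.1.1.1.1 hc.1.1.1.2 hc.1.1.2 hc.1.2 hc.2 (M := 206720)
      (by rw [C.card_G hω]; rfl) (by decide) σ hσ hdvd

theorem perfect (hF : Fintype.card F = 4) : commutator C.G = ⊤ := by
  haveI : IsSimpleGroup (C.G ⧸ Subgroup.center C.G) := (isJ3_quot hω C hF).1
  haveI : Finite C.G := Nat.finite_of_card_ne_zero (by rw [C.card_G hω]; norm_num)
  obtain ⟨a, ha⟩ := exists_sym hω C (v := witA) (by simp)
  obtain ⟨b, hb⟩ := exists_sym hω C (v := witB) (by simp)
  obtain ⟨z, hz, hzr⟩ := C.mem_of_memChk hω small_spec.2.2.2.2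
  have hzc : code hω C ⟨z, hz⟩ = D.wScal := code_eq hω C (by decide) hzr
  have hab : ⁅a, b⁆ = ⟨z, hz⟩ := by
    have e : a * b = ⟨z, hz⟩ * (b * a) := (coding hω C).inj (by
      rw [(coding hω C).map_mul, (coding hω C).map_mul, (coding hω C).map_mul, ha, hb,
        show (coding hω C).code ⟨z, hz⟩ = D.wScal from hzc, wit_ok.1])
    rw [commutatorElement_def, e]; group
  have hzne : (⟨z, hz⟩ : C.G) ≠ 1 := fun h => wit_ok.2 (by
    rw [← hzc, h]; exact (coding hω C).map_one)
  have hzcen : (⟨z, hz⟩ : C.G) ∈ Subgroup.center C.G := Subgroup.mem_center_iff.2 fun x =>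
    Subtype.ext (scalar_central (c := ω) (hzr.trans (tm_wScal hω)) x.1)
  have hzD : (⟨z, hz⟩ : C.G) ∈ commutator C.G := hab ▸
    Subgroup.commutator_mem_commutator (Subgroup.mem_top a) (Subgroup.mem_top b)
  have hcle : Subgroup.center C.G ≤ commutator C.G := by
    haveI : Fact (Nat.Prime 3) := ⟨Nat.prime_three⟩
    intro x hx
    obtain ⟨k, hk⟩ := mem_zpowers_of_prime_card (g := (⟨_, hzcen⟩ : Subgroup.center C.G))
      (g' := ⟨x, hx⟩) (card_center hω C hF) (fun h => hzne (congrArg Subtype.val h))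
    rw [← show ((⟨z, hz⟩ : C.G) ^ k) = x from congrArg Subtype.val hk]
    exact zpow_mem hzD k
  have hmap := (inferInstance : (commutator C.G).Normal).map (QuotientGroup.mk' (Subgroup.center C.G))
    (QuotientGroup.mk'_surjective _)
  rcases hmap.eq_bot_or_eq_top with h | h
  · exfalso
    have hle : commutator C.G ≤ Subgroup.center C.G := fun x hx => by
      have : QuotientGroup.mk' (Subgroup.center C.G) x = 1 :=
        Subgroup.mem_bot.1 (h ▸ Subgroup.mem_map_of_mem _ hx)
      exact (QuotientGroup.eq_one_iff x).1 this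
    have hc : ∀ u v : C.G ⧸ Subgroup.center C.G, u * v = v * u := fun u v => by
      induction u using QuotientGroup.induction_on with
      | _ u => induction v using QuotientGroup.induction_on with
        | _ v =>
          rw [← QuotientGroup.mk_mul, ← QuotientGroup.mk_mul, QuotientGroup.eq]
          have := hle (Subgroup.commutator_mem_commutator (Subgroup.mem_top v⁻¹) (Subgroup.mem_top u⁻¹))
          convert this using 1
          rw [commutatorElement_def]; group
    letI : CommGroup (C.G ⧸ Subgroup.center C.G) := { (inferInstance : Group _) with mul_comm := hc }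
    have hp := IsSimpleGroup.prime_card (α := C.G ⧸ Subgroup.center C.G)
    rw [(isJ3_quot hω C hF).2] at hp
    exact absurd hp (by norm_num)
  · refine eq_top_iff.2 fun x _ => ?_
    obtain ⟨y, hy, e⟩ := h ▸ Subgroup.mem_top (QuotientGroup.mk' (Subgroup.center C.G) x)
    have := hcle (QuotientGroup.eq.1 e)
    simpa using mul_mem hy this

theorem multiplier (hF : Fintype.card F = 4) :
    HasCyclicSchurMultiplier (C.G ⧸ Subgroup.center C.G) 3 := by
  haveI : Finite C.G := Nat.finite_of_card_ne_zero (by rw [C.card_G hω]; norm_num)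
  haveI : Fact (Nat.Prime 3) := ⟨Nat.prime_three⟩
  let π : C.G →* C.G ⧸ Subgroup.center C.G := QuotientGroup.mk' (Subgroup.center C.G)
  have hπ : Function.Surjective π := QuotientGroup.mk'_surjective _
  have hker : π.ker = Subgroup.center C.G := QuotientGroup.ker_mk' _
  have hA : Nat.card (Multiplicative (ZMod 3)) = 3 := by
    rw [Nat.card_congr Multiplicative.toAdd, Nat.card_zmod]
  have hcard : Nat.card π.ker = 3 := by rw [hker]; exact card_center hω C hF
  let e : Multiplicative (ZMod 3) ≃* π.ker := mulEquivOfPrimeCardEq hA hcard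
  refine ⟨⟨C.G, inferInstance, inferInstance, π,
    ⟨hπ, hker.le, by rw [perfect hω C hF]; exact le_top⟩, ⟨e.symm⟩⟩, fun Γ _ _ σ hσ => ?_⟩
  let Y : Subgroup (Γ × C.G) :=
    MonoidHom.eqLocus (σ.comp (MonoidHom.fst Γ C.G)) (π.comp (MonoidHom.snd Γ C.G))
  let τ : Y →* C.G := (MonoidHom.snd Γ C.G).comp Y.subtype
  have hτs : Function.Surjective τ := fun g => by
    obtain ⟨x, hx⟩ := hσ.1 (π g)
    exact ⟨⟨(x, g), hx⟩, rfl⟩
  have hτc : τ.ker ≤ Subgroup.center Y := by
    intro p hp
    have h2 : (p : Γ × C.G).2 = 1 := hp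
    have h1 : (p : Γ × C.G).1 ∈ Subgroup.center Γ :=
      hσ.2.1 (p.2.trans ((congrArg π h2).trans (map_one π)))
    rw [Subgroup.mem_center_iff]
    intro q
    apply Subtype.ext
    apply Prod.ext
    · exact Subgroup.mem_center_iff.1 h1 _
    · change (q : Γ × C.G).2 * (p : Γ × C.G).2 = (p : Γ × C.G).2 * (q : Γ × C.G).2
      rw [h2, mul_one, one_mul]
  obtain ⟨η, hη⟩ := H26.exists_section_of_trivial (perfect hω C hF) (cover_trivial hω C) τ hτc hτs
  let f : C.G →* Γ := (MonoidHom.fst Γ C.G).comp (Y.subtype.comp η)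
  have hf : σ.comp f = π := MonoidHom.ext fun g =>
    (η g).2.trans (congrArg π (DFunLike.congr_fun hη g))
  have hfs := H26.surjective_of_stem hσ hπ hf
  let Fm : π.ker →* σ.ker := (f.comp π.ker.subtype).codRestrict σ.ker fun x => by
    show σ (f x) = 1
    rw [← MonoidHom.comp_apply, hf]; exact x.2
  refine ⟨Fm.comp e.toMonoidHom, fun y => ?_⟩
  obtain ⟨b, hb⟩ := hfs y
  have hbk : b ∈ π.ker := by
    show π b = 1
    rw [← hf, MonoidHom.comp_apply, hb]; exact y.2
  obtain ⟨a, ha⟩ := e.surjective ⟨b, hbk⟩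
  refine ⟨a, Subtype.ext ?_⟩
  show f (e a : C.G) = y
  rw [ha, hb]

end

theorem multiplier_J3 (hF : Fintype.card F = 4) {ω : F} (hω : ω ^ 2 + ω + 1 = 0) :
    HasCyclicSchurMultiplier (J3 F ω) 3 := by
  have := charP_two hF
  obtain ⟨C⟩ := nonempty_chain (F := F) hω
  have key : ∀ G : Subgroup (GL F9 F), G = C.G →
      HasCyclicSchurMultiplier (↥G ⧸ Subgroup.center ↥G) 3 := by
    rintro G rfl
    exact multiplier hω C hF
  exact key _ (G_eq_threeJ3 hω C).symm

end H97.J3Schur
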