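import Cfsg.Agent.H97.SchurMathieu
import Cfsg.Agent.H97.SchurDataM11p2
import Cfsg.Agent.H97.SchurDataM11p3

/-! The multiplier of M11 is trivial. -/

set_option maxRecDepth 100000

namespace H97.SchurCert

theorem check_M11_two : checkAll H87.mem11 dataM11p2 = true := by decide +kernel
theorem check_M11_three : checkAll H87.mem11 dataM11p3 = true := by decide +kernel

theorem sound_M11 : ∀ q, H87.mem11 q = true → ∃ σ ∈ Cfsg.Spor.M11, H90.Repr σ q :=
  fun q h => let ⟨σ, hσ⟩ := H87.exists_of_mem11 h; ⟨σ.1, σ.2, hσ⟩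

theorem hasTrivialMultiplier_M11 : Cfsg.HasCyclicSchurMultiplier Cfsg.Spor.M11 1 := by
  refine H97.hasTrivialMultiplier fun Γ _ _ σ hσ => ?_
  rw [← Subgroup.card_eq_one]
  by_contra hne
  obtain ⟨p, hp, hdvd⟩ := Nat.exists_prime_and_dvd hne
  haveI := Fact.mk hp
  have hsq := sq_dvd_of_dvd_card_ker σ hσ hdvd
  rw [H87.natCard_M11] at hsq
  have hmem : p ∈ Nat.primeFactorsList 7920 :=
    (Nat.mem_primeFactorsList (by norm_num)).2 ⟨hp, (dvd_pow_self p two_ne_zero).trans hsq⟩
  simp only [Nat.primeFactorsList_ofNat, List.mem_cons, List.not_mem_nil, or_false] at hmem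
  have hp23 : p = 2 ∨ p = 3 := by
    by_contra hcon
    obtain ⟨h2, h3⟩ := not_or.1 hcon
    simp only [h2, h3, false_or] at hmem
    rcases hmem with rfl | rfl <;> norm_num at hsq
  rcases hp23 with rfl | rfl
  · haveI : Fact dataM11p2.p.Prime := ⟨Nat.prime_two⟩
    exact not_dvd_of_check H87.mem11 sound_M11 dataM11p2 check_M11_two (M := 495)
      (by rw [H87.natCard_M11]; rfl) (by decide) σ hσ hdvd
  · haveI : Fact dataM11p3.p.Prime := ⟨Nat.prime_three⟩
    exact not_dvd_of_check H87.mem11 sound_M11 dataM11p3 check_M11_three (M := 880)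
      (by rw [H87.natCard_M11]; rfl) (by decide) σ hσ hdvd

end H97.SchurCert
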