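import Cfsg.Agent.H97.McLLower
import Cfsg.Agent.H97.McLCert
import Cfsg.Agent.H39.PSL2Multiplier
import Cfsg.Agent.H95.McLSimple

/-! The multiplier of McL is cyclic of order three. -/

set_option autoImplicit false
set_option maxRecDepth 100000
set_option linter.style.haveILetI false

namespace H97.Co0Code.McL

open Cfsg H95 M24x SchurCert
open H97.McLPair (M finite_co0)

theorem gens_ok : gens.all (fun E => genOK E (H50.McLU4.baseL.take 2)) = true := by decide +kernel

theorem exists_gen : ∀ E ∈ gens, ∃ g : M, code (M.subtype g) = codeE E := by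
  intro E hE
  obtain ⟨hub, hvb, -⟩ := H50.McLU4.base_eq
  obtain ⟨g, hg, hfix⟩ := genOK_spec (List.all_eq_true.1 gens_ok E hE)
  exact ⟨⟨g, hfix _ (by rw [hub]; simp [H50.McLU4.baseL]),
    hfix _ (by rw [hvb]; simp [H50.McLU4.baseL])⟩, hg⟩

theorem card_eq : Nat.card M = 898128000 := by
  set u := uBase
  set v := vBase
  have hv : ldot v v = 32 := vBase_norm
  have hu : ldot u u = 48 := uBase_norm
  have huv : ldot u v = 24 := uBase_vBase
  have hw : ldot (u - v) (u - v) = 32 := decomp_norm hu hv huv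
  have hd : ldot v (u - v) = -8 := by
    rw [sub_eq_add_neg, leechLike.add_right, leechLike.neg_right, hv, ldot_comm, huv]; norm_num
  have e : MulAction.stabilizer Co0 v ⊓ MulAction.stabilizer Co0 (u - v) = M := by
    ext a
    show a • v = v ∧ a • (u - v) = u - v ↔ a • u = u ∧ a • v = v
    have hs : a • (u - v) = a • u - a • v := by
      rw [sub_eq_add_neg, co0_add, co0_neg, ← sub_eq_add_neg]
    rw [hs]
    constructor
    · rintro ⟨a1, a2⟩; rw [a1, sub_left_inj] at a2; exact ⟨a2, a1⟩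
    · rintro ⟨a1, a2⟩; rw [a1, a2]; exact ⟨rfl, rfl⟩
  rw [← e]
  exact (isMcL_stab m22_simple hv hw hd).2

theorem card_ker {Γ : Type} [Group Γ] [Finite Γ] (σ : Γ →* M) (hσ : IsStemExtension σ) :
    Nat.card σ.ker = 1 ∨ Nat.card σ.ker = 3 := by
  haveI := finite_co0
  have hinj : Function.Injective M.subtype := M.subtype_injective
  have hmem : ∀ v ∈ data3.syms, ∃ g : M, (coding M.subtype hinj).code g = v := by
    intro v hv
    refine slp_mem (coding M.subtype hinj) (seeds := gens.map codeE) (fun w hw => ?_) prog v ?_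
    · obtain ⟨E, hE, rfl⟩ := List.mem_map.1 hw
      exact exists_gen E hE
    · have h := syms3
      simp only [List.all_eq_true, List.contains_iff_mem] at h
      exact h v hv
  have h2 : ¬ 2 ∣ Nat.card σ.ker := by
    haveI : Fact data2.p.Prime := ⟨Nat.prime_two⟩
    exact not_dvd_of_cert M.subtype hinj exists_gen data2 cert2 (M := 7016625)
      (by rw [card_eq]; rfl) (by decide) σ hσ
  have h5 : ¬ 5 ∣ Nat.card σ.ker := by
    haveI : Fact data5.p.Prime := ⟨Nat.prime_five⟩
    exact not_dvd_of_cert M.subtype hinj exists_gen data5 cert5 (M := 7185024)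
      (by rw [card_eq]; rfl) (by decide) σ hσ
  have h9 : ¬ 3 ^ 2 ∣ Nat.card σ.ker := fun h => by
    haveI : Fact (Nat.Prime 3) := ⟨Nat.prime_three⟩
    have := pow_dvd_card_ker_le (coding M.subtype hinj) data3 3 2 rfl (top := 3) (z0 := 10)
      (ord := 3) coef3 (by decide) (by norm_num) (by norm_num) hmem rules3 defs3 pc3 size3 combos3
      (M := 1232000) (by rw [card_eq]; rfl) (by norm_num) σ hσ h
    norm_num at this
  have honly : ∀ {q : ℕ}, q.Prime → q ∣ Nat.card σ.ker → q = 3 := by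
    intro q hq hdvd
    haveI := Fact.mk hq
    have hsq := sq_dvd_of_dvd_card_ker σ hσ hdvd
    rw [card_eq] at hsq
    have hd : q ∣ 2 ^ 7 * 3 ^ 6 * 5 ^ 3 * (7 * 11) :=
      (show (898128000 : ℕ) = 2 ^ 7 * 3 ^ 6 * 5 ^ 3 * (7 * 11) by norm_num) ▸
        (dvd_pow_self q two_ne_zero).trans hsq
    rcases hq.dvd_mul.1 hd with h | h
    · rcases hq.dvd_mul.1 h with h | h
      · rcases hq.dvd_mul.1 h with h | h
        · have := (Nat.prime_dvd_prime_iff_eq hq (by norm_num)).1 (hq.dvd_of_dvd_pow h)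
          subst this; exact absurd hdvd h2
        · exact (Nat.prime_dvd_prime_iff_eq hq (by norm_num)).1 (hq.dvd_of_dvd_pow h)
      · have := (Nat.prime_dvd_prime_iff_eq hq (by norm_num)).1 (hq.dvd_of_dvd_pow h)
        subst this; exact absurd hdvd h5
    · rcases hq.dvd_mul.1 h with h | h <;>
        have := (Nat.prime_dvd_prime_iff_eq hq (by norm_num)).1 h <;> subst this <;>
        norm_num at hsq
  have hne : Nat.card σ.ker ≠ 0 := Nat.card_pos.ne'
  obtain ⟨a, ha⟩ : ∃ a, Nat.card σ.ker = 3 ^ a :=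
    ⟨_, Nat.eq_prime_pow_of_unique_prime_dvd hne honly⟩
  rcases a with _ | _ | a
  · exact Or.inl ha
  · exact Or.inr ha
  · exact absurd (ha ▸ pow_dvd_pow 3 (by omega)) h9

theorem multiplier_stab : HasCyclicSchurMultiplier M 3 := by
  haveI := finite_co0
  haveI : Fact (Nat.Prime 3) := ⟨Nat.prime_three⟩
  have hZ : Nat.card (Multiplicative (ZMod 3)) = 3 := Nat.card_zmod 3
  haveI : IsCyclic (Multiplicative (ZMod 3)) := inferInstance
  refine ⟨?_, fun Γ _ _ σ hσ => ?_⟩
  · obtain ⟨Δ, i1, i2, σ, hσ, hc⟩ := H97.McLPair.exists_stem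
    haveI : IsCyclic σ.ker := isCyclic_of_prime_card (p := 3) hc
    exact ⟨Δ, i1, i2, σ, hσ, ⟨mulEquivOfCyclicCardEq (hc.trans hZ.symm)⟩⟩
  · rcases card_ker σ hσ with h | h
    · haveI : Subsingleton σ.ker := (Nat.card_eq_one_iff_unique.1 h).1
      exact ⟨1, fun x => ⟨1, Subsingleton.elim _ _⟩⟩
    · haveI : IsCyclic σ.ker := isCyclic_of_prime_card (p := 3) h
      let e : Multiplicative (ZMod 3) ≃* σ.ker := mulEquivOfCyclicCardEq (hZ.trans h.symm)
      exact ⟨e.toMonoidHom, e.surjective⟩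

theorem vBase_eq : vBase = Spor.leechU := eq_of_vecL (by
  rw [H50.McLU4.base_eq.2.1]; decide +kernel)

/-- The two descriptions of McL. -/
noncomputable def equivMcL : M ≃* Spor.McL where
  toFun g := ⟨(g : Co0).1, ⟨(g : Co0).2, by
    have h : (g : Co0) • uBase = uBase := g.2.1
    rw [uBase, co0_neg, neg_inj] at h
    exact h⟩, by
    have h : (g : Co0) • vBase = vBase := g.2.2
    rw [vBase_eq] at h
    exact h⟩
  invFun g := ⟨⟨g.1, g.2.1.1⟩, by
    show (⟨g.1, g.2.1.1⟩ : Co0) • uBase = uBase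
    rw [uBase, co0_neg, neg_inj]
    exact g.2.1.2, by
    show (⟨g.1, g.2.1.1⟩ : Co0) • vBase = vBase
    rw [vBase_eq]
    exact g.2.2⟩
  left_inv _ := rfl
  right_inv _ := rfl
  map_mul' _ _ := rfl

theorem mcl_multiplier : HasCyclicSchurMultiplier ↥Spor.McL 3 :=
  H39.hasSchurMultiplier_congr equivMcL multiplier_stab

end H97.Co0Code.McL
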