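import Mathlib

/-!
For five odd primes with product `m`: finite groups of unbounded order whose element orders are the divisors
of `2 m` other than `2 m` itself. They are semidirect products of vector spaces over a finite field of
characteristic 2 by a cyclic group of order `m`.
-/

namespace H97

namespace Spectrum

variable {K : Type} [Field K] {N : ℕ}

/-- Coordinatewise scaling. -/
def scaleAut : (Fin 5 → Kˣ) →* MulAut (Multiplicative (Fin 5 → Fin N → K)) where
  toFun c :=
    { toFun := fun v => Multiplicative.ofAdd fun j i => (c j : K) * v.toAdd j i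
      invFun := fun v => Multiplicative.ofAdd fun j i => ((c j)⁻¹ : Kˣ) * v.toAdd j i
      left_inv := fun v => by
        apply Multiplicative.toAdd.injective; funext j i; simp [← mul_assoc]
      right_inv := fun v => by
        apply Multiplicative.toAdd.injective; funext j i; simp [← mul_assoc]
      map_mul' := fun v w => by
        apply Multiplicative.toAdd.injective; funext j i; simp [mul_add] }
  map_one' := by
    ext v : 1
    apply Multiplicative.toAdd.injective; funext j i; simp
  map_mul' c d := by
    ext v : 1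
    apply Multiplicative.toAdd.injective; funext j i; simp [mul_assoc]

theorem toAdd_scaleAut (c : Fin 5 → Kˣ) (v : Multiplicative (Fin 5 → Fin N → K)) (j : Fin 5)
    (i : Fin N) : (scaleAut c v).toAdd j i = (c j : K) * v.toAdd j i := rfl

/-- Groups of unbounded order with element orders the proper divisors of `2 · q₀⋯q₄`. -/
theorem exists_proper_divisor_spectrum [Finite K] [CharP K 2] (q : Fin 5 → ℕ)
    (hq : ∀ j, (q j).Prime) (hinj : Function.Injective q) (hodd : ∀ j, q j ≠ 2)
    (hdvd : ∀ j, q j ∣ Nat.card Kˣ) (N₀ : ℕ) :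
    ∃ (H : Type) (_ : Group H) (_ : Fintype H), N₀ < Fintype.card H ∧
      Set.range (orderOf : H → ℕ) = {n | n ∣ 2 * ∏ j, q j ∧ n ≠ 2 * ∏ j, q j} := by
  classical
  set m := ∏ j, q j with hmdef
  have hqm : ∀ j, q j ∣ m := fun j => Finset.dvd_prod_of_mem q (Finset.mem_univ j)
  have hm0 : m ≠ 0 := Finset.prod_ne_zero_iff.2 fun j _ => (hq j).ne_zero
  have hcop : ∀ i j, i ≠ j → q i ∣ m / q j := by
    intro i j hij
    have : Nat.Coprime (q i) (q j) := (Nat.coprime_primes (hq i) (hq j)).2 fun h => hij (hinj h)
    refine this.dvd_of_dvd_mul_right ?_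
    rw [Nat.div_mul_cancel (hqm j)]
    exact hqm i
  have hζ : ∀ j, ∃ z : Kˣ, orderOf z = q j := fun j => by
    haveI := Fact.mk (hq j)
    exact exists_prime_orderOf_dvd_card' (q j) (hdvd j)
  choose ζ hζ using hζ
  have hpow : ∀ n, ζ ^ n = 1 ↔ ∀ j, q j ∣ n := fun n => by
    simp [funext_iff, ← hζ, orderOf_dvd_iff_pow_eq_one]
  have hndvd : ∀ j, ¬ q j ∣ m / q j := by
    intro j hd
    have h2 : q j * q j ∣ m := by
      have := mul_dvd_mul_right hd (q j)
      rwa [Nat.div_mul_cancel (hqm j)] at this
    have hp : m = q j * ∏ i ∈ Finset.univ.erase j, q i :=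
      (Finset.mul_prod_erase _ _ (Finset.mem_univ j)).symm
    rw [hp, Nat.mul_dvd_mul_iff_left (hq j).pos,
      (hq j).prime.dvd_finsetProd_iff] at h2
    obtain ⟨i, hi, hji⟩ := h2
    exact Finset.ne_of_mem_erase hi (hinj ((Nat.prime_dvd_prime_iff_eq (hq j) (hq i)).1 hji).symm)
  have hord : orderOf ζ = m := by
    refine orderOf_eq_of_pow_and_pow_div_prime (Nat.pos_of_ne_zero hm0) ((hpow m).2 hqm) ?_
    intro p hp hpm hz
    obtain ⟨j, -, hj⟩ := (hp.prime.dvd_finsetProd_iff q).1 hpm
    rw [(Nat.prime_dvd_prime_iff_eq hp (hq j)).1 hj] at hz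
    exact hndvd j ((hpow _).1 hz j)
  have hmodd : Odd m := Finset.prod_induction q Odd (fun _ _ => Odd.mul) odd_one
    fun j _ => (hq j).odd_of_ne_two (hodd j)
  let C := Subgroup.zpowers ζ
  let φ : C →* MulAut (Multiplicative (Fin 5 → Fin (N₀ + 1) → K)) := scaleAut.comp C.subtype
  let H := Multiplicative (Fin 5 → Fin (N₀ + 1) → K) ⋊[φ] C
  haveI : Finite H := Finite.of_equiv _ SemidirectProduct.equivProd.symm
  haveI hF : Fintype H := Fintype.ofFinite _
  refine ⟨H, inferInstance, hF, ?_, ?_⟩
  · rw [← Nat.card_eq_fintype_card]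
    calc N₀ < 2 ^ N₀ := Nat.lt_two_pow_self
      _ ≤ 2 ^ (N₀ + 1) := Nat.pow_le_pow_right (by norm_num) (by omega)
      _ ≤ Nat.card K ^ (N₀ + 1) := Nat.pow_le_pow_left Finite.one_lt_card _
      _ ≤ Nat.card (Multiplicative (Fin 5 → Fin (N₀ + 1) → K)) := by
          rw [show Nat.card (Multiplicative (Fin 5 → Fin (N₀ + 1) → K)) =
            (Nat.card K ^ (N₀ + 1)) ^ 5 by
              rw [Nat.card_congr Multiplicative.toAdd]; simp [Nat.card_fun]]
          exact Nat.le_self_pow (by norm_num) _
      _ ≤ Nat.card H := Nat.card_le_card_of_injective _ SemidirectProduct.inl_injective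
  have hright : ∀ (g : H) (n : ℕ), (g ^ n).right = g.right ^ n := fun g n => map_pow SemidirectProduct.rightHom g n
  -- powers landing in the kernel are fixed
  have hfix : ∀ (g : H) (n : ℕ), g.right ^ n = 1 → φ g.right (g ^ n).left = (g ^ n).left := by
    intro g n hn
    have h2 : (g ^ n).right = 1 := by
      exact (hright g n).trans hn
    have h := congrArg SemidirectProduct.left ((Commute.self_pow g n).eq)
    replace h : g.left * φ g.right (g ^ n).left = (g ^ n).left * φ (g ^ n).right g.left := h
    rw [h2, map_one, MulAut.one_apply] at h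
    exact mul_left_cancel (h.trans (mul_comm _ _))
  have hsq : ∀ v : Multiplicative (Fin 5 → Fin (N₀ + 1) → K), v ^ 2 = 1 := by
    intro v
    apply Multiplicative.toAdd.injective
    funext j i
    simp [pow_two, CharTwo.add_self_eq_zero]
  have hcard : Nat.card C = m := by rw [Nat.card_zpowers, hord]
  have hrpow : ∀ g : H, g.right ^ m = 1 := fun g => hcard ▸ pow_card_eq_one'
  have hker : ∀ (g : H) (n : ℕ), g.right ^ n = 1 → g ^ (2 * n) = 1 := by
    intro g n hn
    have h2 : (g ^ n).right = 1 := by
      exact (hright g n).trans hn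
    have : g ^ n = SemidirectProduct.inl (g ^ n).left :=
      SemidirectProduct.ext (by simp) (by simpa using h2)
    rw [mul_comm, pow_mul, this, ← map_pow, hsq, map_one]
  have hpow_exists : ∀ (g : H) (n : ℕ), n ∣ orderOf g → ∃ h : H, orderOf h = n := fun g n hn =>
    ⟨g ^ (orderOf g / n), orderOf_pow_orderOf_div (orderOf_pos g).ne' hn⟩
  let z : C := ⟨ζ, Subgroup.mem_zpowers ζ⟩
  ext n
  constructor
  · rintro ⟨g, rfl⟩
    refine ⟨orderOf_dvd_of_pow_eq_one (hker g m (hrpow g)), fun hg => ?_⟩
    have hgm : orderOf g.right = m := by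
      have h1 : orderOf g ∣ 2 * orderOf g.right :=
        orderOf_dvd_of_pow_eq_one (hker g _ (pow_orderOf_eq_one _))
      rw [hg, Nat.mul_dvd_mul_iff_left (by norm_num)] at h1
      exact Nat.dvd_antisymm (orderOf_dvd_of_pow_eq_one (hrpow g)) h1
    have hne : ∀ j, (g.right : Fin 5 → Kˣ) j ≠ 1 := by
      intro j hj
      have hall : g.right ^ (m / q j) = 1 := by
        obtain ⟨t, ht⟩ := Subgroup.mem_zpowers_iff.1 g.right.2
        apply Subtype.ext
        funext i
        simp only [SubgroupClass.coe_pow, OneMemClass.coe_one, Pi.pow_apply, Pi.one_apply]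
        rcases eq_or_ne i j with rfl | hij
        · rw [hj, one_pow]
        · have hh : (ζ i) ^ (m / q j) = 1 := orderOf_dvd_iff_pow_eq_one.1 (hζ i ▸ hcop i j hij)
          rw [← ht, Pi.pow_apply, ← zpow_natCast, ← zpow_mul, mul_comm, zpow_mul, zpow_natCast, hh,
            one_zpow]
      have hdm := orderOf_dvd_of_pow_eq_one hall
      rw [hgm] at hdm
      exact hndvd j ((hqm j).trans hdm)
    have hw : g ^ m = 1 := by
      have hfx := hfix g m (hrpow g)
      refine SemidirectProduct.ext ?_ ((hright g m).trans (hrpow g))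
      apply Multiplicative.toAdd.injective
      funext j i
      have h := congrArg (fun v : Multiplicative (Fin 5 → Fin (N₀ + 1) → K) => v.toAdd j i) hfx
      simp only [φ, MonoidHom.comp_apply, Subgroup.coe_subtype, toAdd_scaleAut] at h
      by_contra hv
      apply hne j
      ext
      exact (mul_eq_right₀ (by simpa using hv)).1 h
    have := orderOf_dvd_of_pow_eq_one hw
    rw [hg] at this
    have := Nat.le_of_dvd (Nat.pos_of_ne_zero hm0) this
    omega
  · rintro ⟨hn, hne⟩
    by_cases h2 : 2 ∣ n
    · obtain ⟨t, rfl⟩ := h2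
      rw [Nat.mul_dvd_mul_iff_left (by norm_num)] at hn
      obtain ⟨c, hc⟩ := hn
      have hc1 : c ≠ 1 := fun h => hne (by rw [hc, h, mul_one])
      obtain ⟨p, hp, hpc⟩ := Nat.exists_prime_and_dvd hc1
      obtain ⟨j, -, hj⟩ := (hp.prime.dvd_finsetProd_iff q).1 (hc ▸ hpc.mul_left t)
      rw [(Nat.prime_dvd_prime_iff_eq hp (hq j)).1 hj] at hpc
      obtain ⟨c', rfl⟩ := hpc
      have ht : t ∣ m / q j := ⟨c', by
        rw [hc, show t * (q j * c') = q j * (t * c') by ring, Nat.mul_div_cancel_left _ (hq j).pos]⟩
      -- an involution fixed by an element of order m / q j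
      let e : Fin 5 → Fin (N₀ + 1) → K := Pi.single j fun _ => 1
      let a : H := SemidirectProduct.inl (Multiplicative.ofAdd e)
      let b : H := SemidirectProduct.inr (z ^ q j)
      have hb : orderOf b = m / q j := by
        rw [orderOf_injective _ SemidirectProduct.inr_injective, orderOf_pow' _ (hq j).ne_zero]
        have : orderOf z = m := by rw [← Subgroup.orderOf_coe]; exact hord
        rw [this, Nat.gcd_eq_right (hqm j)]
      have ha : orderOf a = 2 := by
        rw [orderOf_injective _ SemidirectProduct.inl_injective]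
        haveI := Fact.mk Nat.prime_two
        refine orderOf_eq_prime (hsq _) fun h => ?_
        have := congrFun (congrFun (congrArg Multiplicative.toAdd h) j) 0
        simp [e] at this
      have hab : Commute a b := by
        have hfe : φ (z ^ q j) (Multiplicative.ofAdd e) = Multiplicative.ofAdd e := by
          apply Multiplicative.toAdd.injective
          funext k i
          simp only [φ, MonoidHom.comp_apply, Subgroup.coe_subtype, toAdd_scaleAut]
          rcases eq_or_ne k j with rfl | hk
          · have : (((z ^ q k : C) : Fin 5 → Kˣ) k) = 1 := by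
              simp only [SubgroupClass.coe_pow, Pi.pow_apply, z]
              rw [← hζ k, pow_orderOf_eq_one]
            simp [this]
          · simp [e, hk]
        have := SemidirectProduct.inl_aut (φ := φ) (z ^ q j) (Multiplicative.ofAdd e)
        rw [hfe, map_inv] at this
        exact eq_mul_inv_iff_mul_eq.1 this
      have hcp : Nat.Coprime (orderOf a) (orderOf b) := by
        rw [ha, hb]
        exact Nat.coprime_two_left.2 (hmodd.of_dvd_nat (Nat.div_dvd_of_dvd (hqm j)))
      exact hpow_exists (a * b) _ (by
        rw [hab.orderOf_mul_eq_mul_orderOf_of_coprime hcp, ha, hb]; exact mul_dvd_mul_left 2 ht)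
    · have hnm : n ∣ m := (Nat.Coprime.dvd_mul_left
        ((Nat.prime_two.coprime_iff_not_dvd.2 h2).symm)).1 hn
      refine hpow_exists (SemidirectProduct.inr z) n ?_
      rwa [orderOf_injective _ SemidirectProduct.inr_injective, ← Subgroup.orderOf_coe, hord]

end Spectrum

end H97
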