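import Cfsg.Prelude.Def_KGroupFacts
import Mathlib

/-!
Central extensions of a transitive group induced from a central extension of a point stabiliser,
and a criterion for their being stem extensions with kernel of prime order.
-/

set_option autoImplicit false
set_option linter.style.haveILetI false

namespace H97.Transfer

open scoped commutatorElement

variable {G D X : Type} [Group G] [Group D] [MulAction G X]

theorem arrow_apply (g : G) (f : X → D) (x : X) :
    (mulAutArrow g f : X → D) x = f (g⁻¹ • x) := rfl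

/-- Pairs of a group element and compatible lifts at every point. -/
def W (π : D →* G) (s : X → G) :
    Subgroup ((X → D) ⋊[mulAutArrow] G) where
  carrier := {w | ∀ x, π (w.left x) = (s x)⁻¹ * w.right * s (w.right⁻¹ • x)}
  one_mem' := fun x => by simp
  mul_mem' := by
    intro a b ha hb x
    simp only [SemidirectProduct.mul_left, SemidirectProduct.mul_right, Pi.mul_apply,
      arrow_apply, map_mul, ha x, hb _, mul_inv_rev, mul_smul]
    group
  inv_mem' := by
    intro a ha x
    simp only [SemidirectProduct.inv_left, SemidirectProduct.inv_right, arrow_apply, inv_inv]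
    rw [Pi.inv_apply, map_inv, ha, inv_smul_smul]
    group

/-- A subgroup of a group of order at most `p ^ 2` generated by commuting elements of order
dividing `p`, if proper, is cyclic. -/
theorem isCyclic_of_lt {p : ℕ} [hp : Fact p.Prime] {A B : Subgroup G} [Finite G]
    (hA : Nat.card A ≤ p ^ 2) (hpA : ∀ g ∈ A, g ^ p = 1) (hBA : B ≤ A)
    (hlt : Nat.card B < Nat.card A) : IsCyclic B := by
  have hg : IsPGroup p B := fun u => ⟨1, Subtype.ext (by simpa using hpA u.1 (hBA u.2))⟩
  obtain ⟨n, hn⟩ := IsPGroup.iff_card.1 hg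
  have h2 : p ^ n < p ^ 2 := hn ▸ lt_of_lt_of_le hlt hA
  have h3 : n < 2 := (Nat.pow_lt_pow_iff_right hp.out.one_lt).1 h2
  interval_cases n
  · haveI : Subsingleton B := (Nat.card_eq_one_iff_unique.1 (by simpa using hn)).1
    exact isCyclic_of_subsingleton
  · exact isCyclic_of_prime_card (p := p) (by simpa using hn)

variable [Fintype X] [MulAction.IsPretransitive G X]

theorem exists_cyclic_stem [Finite G] [Finite D] {p : ℕ} [Fact p.Prime] (x0 : X) (π : D →* G)
    (hrange : π.range = MulAction.stabilizer G x0) (hcen : π.ker ≤ Subgroup.center D)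
    (hcard : Nat.card π.ker = p) (a b : G) (hab : a * b = b * a)
    (hA : Nat.card (Subgroup.closure ({a, b} : Set G)) ≤ p ^ 2) (hap : a ^ p = 1) (hbp : b ^ p = 1)
    (F : List X) (hnd : F.Nodup) (hF : ∀ x, x ∈ F ↔ a • x = x ∧ b • x = x)
    (t : X → G) (fa fb : X → D) (ht : ∀ x ∈ F, t x • x0 = x)
    (hfa : ∀ x ∈ F, π (fa x) = (t x)⁻¹ * a * t x) (hfb : ∀ x ∈ F, π (fb x) = (t x)⁻¹ * b * t x)
    (hne : (F.map fun x => fa x * fb x * (fa x)⁻¹ * (fb x)⁻¹).prod ≠ 1) :
    ∃ (Γ : Type) (_ : Group Γ) (_ : Finite Γ) (σ : Γ →* G),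
      Cfsg.IsStemExtension σ ∧ Nat.card σ.ker = p := by
  classical
  have hp : p.Prime := Fact.out
  set A := Subgroup.closure ({a, b} : Set G) with hAdef
  have haA : a ∈ A := Subgroup.subset_closure (by simp)
  have hbA : b ∈ A := Subgroup.subset_closure (by simp)
  have hcm : ∀ y ∈ A, ∀ z ∈ A, Commute y z := by
    intro y hy z hz
    induction hy, hz using Subgroup.closure_induction₂ with
    | mem y z hy hz =>
      rcases hy with rfl | rfl <;> rcases hz with rfl | rfl <;>
        first | exact Commute.refl _ | exact hab | exact hab.symm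
    | one_left z => exact Commute.one_left z
    | one_right z => exact Commute.one_right z
    | mul_left x y z _ _ _ h1 h2 => exact Commute.mul_left h1 h2
    | mul_right x y z _ _ _ h1 h2 => exact Commute.mul_right h1 h2
    | inv_left x y _ _ h => exact Commute.inv_left h
    | inv_right x y _ _ h => exact Commute.inv_right h
  have hpA : ∀ g ∈ A, g ^ p = 1 := by
    intro g hg
    induction hg using Subgroup.closure_induction with
    | mem y hy => rcases hy with rfl | rfl <;> assumption
    | one => exact one_pow p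
    | mul y z hy hz hy' hz' =>
      rw [(hcm y hy z hz).mul_pow, hy', hz', one_mul]
    | inv y _ hy => rw [inv_pow, hy, inv_one]
  -- a section adapted to the orbits of `A`
  let q : X → Quotient (MulAction.orbitRel A X) := fun x => Quotient.mk'' x
  let r : X → X := fun x => (q x).out
  have hrel : ∀ x, ∃ h : A, (h : G) • r x = x := by
    intro x
    obtain ⟨h, hh⟩ : x ∈ MulAction.orbit A (r x) := MulAction.orbitRel_apply.1
      (Setoid.symm' _ (Quotient.exact' ((q x).out_eq')))
    exact ⟨h, hh⟩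
  choose h hh using hrel
  choose t0 ht0 using fun x : X => MulAction.exists_smul_eq G x0 x
  let s : X → G := fun x => if x ∈ F then t x else (h x : G) * t0 (r x)
  have hs : ∀ x, s x • x0 = x := by
    intro x
    by_cases hx : x ∈ F
    · simp only [s, if_pos hx]; exact ht x hx
    · simp only [s, if_neg hx, mul_smul, ht0, hh]
  have hfix : ∀ g ∈ A, ∀ x ∈ F, g • x = x := by
    intro g hg x hx
    induction hg using Subgroup.closure_induction with
    | mem y hy =>
      rcases hy with rfl | rfl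
      · exact ((hF x).1 hx).1
      · exact ((hF x).1 hx).2
    | one => exact one_smul _ _
    | mul y z _ _ hy hz => rw [mul_smul, hz, hy]
    | inv y _ hy => rw [inv_smul_eq_iff, hy]
  have hmemst : ∀ g x, (s x)⁻¹ * g * s (g⁻¹ • x) ∈ π.range := by
    intro g x
    rw [hrange, MulAction.mem_stabilizer_iff, mul_smul, mul_smul, hs, smul_inv_smul,
      inv_smul_eq_iff, hs]
  choose lift hlift using hmemst
  -- the extension
  let W' := W π s
  have hmemW : ∀ g, (⟨fun x => lift g x, g⟩ : (X → D) ⋊[mulAutArrow] G) ∈ W' :=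
    fun g x => hlift g x
  letI : CommGroup π.ker :=
    { (inferInstance : Group π.ker) with
      mul_comm := fun u v => Subtype.ext (Subgroup.mem_center_iff.1 (hcen v.2) u.1) }
  let ρ : W' →* G := SemidirectProduct.rightHom.comp W'.subtype
  have hρker : ∀ w : W', ρ w = 1 → ∀ x, w.1.left x ∈ π.ker := by
    intro w hw x
    have h1 : w.1.right = 1 := hw
    have h2 := w.2 x
    rw [h1, inv_one, one_smul, mul_one, inv_mul_cancel] at h2
    exact h2
  let Φ : ρ.ker →* π.ker :=
    MonoidHom.mk' (fun w => ∏ x, (⟨w.1.1.left x, hρker w.1 w.2 x⟩ : π.ker)) fun v w => by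
      rw [← Finset.prod_mul_distrib]
      refine Finset.prod_congr rfl fun x _ => Subtype.ext ?_
      show (v.1.1 * w.1.1).left x = _
      have h1 : v.1.1.right = 1 := v.2
      simp [SemidirectProduct.mul_left, h1]
  let N : Subgroup W' := Φ.ker.map ρ.ker.subtype
  have hconj : ∀ (g : W') (w : ρ.ker) (x : X),
      (g * w.1 * g⁻¹ : W').1.left x = w.1.1.left (g.1.right⁻¹ • x) := by
    intro g w x
    have h1 : w.1.1.right = 1 := w.2
    have hz := Subgroup.mem_center_iff.1 (hcen (hρker w.1 w.2 (g.1.right⁻¹ • x))) (g.1.left x)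
    simp only [Subgroup.coe_mul, Subgroup.coe_inv, SemidirectProduct.mul_left,
      SemidirectProduct.mul_right, SemidirectProduct.inv_left, h1, mul_one, Pi.mul_apply,
      arrow_apply, Pi.inv_apply, inv_inv, inv_smul_smul, smul_inv_smul]
    rw [hz, mul_inv_cancel_right]
  haveI hN : N.Normal := ⟨fun w hw g => by
    obtain ⟨w, hw', rfl⟩ := hw
    have hk : g * w.1 * g⁻¹ ∈ ρ.ker := ρ.normal_ker.conj_mem _ w.2 g
    refine ⟨⟨_, hk⟩, ?_, rfl⟩
    show Φ _ = 1
    rw [← show Φ w = 1 from hw']
    simp only [Φ, MonoidHom.mk'_apply]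
    exact Fintype.prod_equiv (MulAction.toPerm g.1.right⁻¹) _ _
      fun x => Subtype.ext (hconj g w x)⟩
  let σ : W' ⧸ N →* G := QuotientGroup.lift N ρ fun w hw => by
    obtain ⟨w, -, rfl⟩ := hw
    exact w.2
  haveI : Finite ((X → D) ⋊[mulAutArrow] G) :=
    Finite.of_injective (fun w => (w.left, w.right)) fun u v e => by
      ext1 <;> simp_all
  haveI : Finite W' := inferInstance
  have hσs : Function.Surjective σ := fun g => ⟨((⟨_, hmemW g⟩ : W') : W' ⧸ N), rfl⟩
  -- the kernel
  have hΦs : Function.Surjective Φ := by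
    intro z
    let f : X → D := fun x => if x = x0 then z.1 else 1
    have hf : (⟨f, 1⟩ : (X → D) ⋊[mulAutArrow] G) ∈ W' := fun x => by
      simp only [f, inv_one, one_smul, mul_one, inv_mul_cancel]
      split
      · exact z.2
      · exact map_one π
    refine ⟨⟨⟨_, hf⟩, rfl⟩, ?_⟩
    simp only [Φ, MonoidHom.mk'_apply]
    rw [Finset.prod_eq_single x0 (fun x _ hx => Subtype.ext (by simp [f, hx]))
      (fun hx => absurd (Finset.mem_univ x0) hx)]
    exact Subtype.ext (by simp [f])
  let θ : ρ.ker →* σ.ker :=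
    ((QuotientGroup.mk' N).comp ρ.ker.subtype).codRestrict σ.ker fun w => w.2
  have hθs : Function.Surjective θ := by
    rintro ⟨u, hu⟩
    induction u using QuotientGroup.induction_on with
    | _ w => exact ⟨⟨w, hu⟩, rfl⟩
  have hθk : θ.ker = Φ.ker := by
    ext w
    constructor
    · intro hw
      have : (w.1 : W' ⧸ N) = 1 := congrArg Subtype.val hw
      obtain ⟨v, hv, e⟩ := (QuotientGroup.eq_one_iff w.1).1 this
      exact (Subtype.ext e : v = w) ▸ hv
    · intro hw
      exact Subtype.ext ((QuotientGroup.eq_one_iff w.1).2 ⟨w, hw, rfl⟩)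
  have hkcard : Nat.card σ.ker = p := by
    rw [← Nat.card_congr (QuotientGroup.quotientKerEquivOfSurjective θ hθs).toEquiv, hθk,
      Nat.card_congr (QuotientGroup.quotientKerEquivOfSurjective Φ hΦs).toEquiv, hcard]
  have hσc : σ.ker ≤ Subgroup.center (W' ⧸ N) := by
    intro u hu
    obtain ⟨w, rfl⟩ : ∃ w : ρ.ker, (θ w).1 = u := ⟨_, congrArg Subtype.val (hθs ⟨u, hu⟩).choose_spec⟩
    refine Subgroup.mem_center_iff.2 fun v => ?_
    induction v using QuotientGroup.induction_on with
    | _ g =>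
      show (g : W' ⧸ N) * (w.1 : W' ⧸ N) = (w.1 : W' ⧸ N) * (g : W' ⧸ N)
      rw [← mul_inv_eq_iff_eq_mul, ← QuotientGroup.mk_mul, ← QuotientGroup.mk_inv,
        ← QuotientGroup.mk_mul, QuotientGroup.eq]
      have hk : g * w.1 * g⁻¹ ∈ ρ.ker := ρ.normal_ker.conj_mem _ w.2 g
      refine ⟨(⟨_, hk⟩ : ρ.ker)⁻¹ * w, ?_, rfl⟩
      have e : Φ ⟨_, hk⟩ = Φ w := by
        simp only [Φ, MonoidHom.mk'_apply]
        exact Fintype.prod_equiv (MulAction.toPerm g.1.right⁻¹) _ _
          fun x => Subtype.ext (hconj g w x)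
      show Φ _ = 1
      rw [map_mul, map_inv, e, inv_mul_cancel]
  -- lifts of the two elements
  let la : X → D := fun x => if x ∈ F then fa x else lift a x
  let lb : X → D := fun x => if x ∈ F then fb x else lift b x
  have hla : (⟨la, a⟩ : (X → D) ⋊[mulAutArrow] G) ∈ W' := fun x => by
    by_cases hx : x ∈ F
    · have e : a⁻¹ • x = x := hfix _ (inv_mem haA) x hx
      simp only [la, if_pos hx, e, s, hfa x hx]
    · simp only [la, if_neg hx, hlift]
  have hlb : (⟨lb, b⟩ : (X → D) ⋊[mulAutArrow] G) ∈ W' := fun x => by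
    by_cases hx : x ∈ F
    · have e : b⁻¹ • x = x := hfix _ (inv_mem hbA) x hx
      simp only [lb, if_pos hx, e, s, hfb x hx]
    · simp only [lb, if_neg hx, hlift]
  let wa : W' := ⟨_, hla⟩
  let wb : W' := ⟨_, hlb⟩
  have hk : (wa * wb) * (wb * wa)⁻¹ ∈ ρ.ker := by
    show ρ _ = 1
    rw [map_mul, map_inv, map_mul, map_mul]
    show a * b * (b * a)⁻¹ = 1
    rw [hab, mul_inv_cancel]
  let w0 : ρ.ker := ⟨_, hk⟩
  set c : X → D := fun x => w0.1.1.left x with hc
  have hceq : ∀ x, c x = la x * lb (a⁻¹ • x) * (lb x * la (b⁻¹ • x))⁻¹ := by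
    intro x
    simp only [hc, w0, Subgroup.coe_mul, Subgroup.coe_inv, SemidirectProduct.mul_left,
      SemidirectProduct.mul_right, SemidirectProduct.inv_left, SemidirectProduct.inv_right, wa, wb,
      Pi.mul_apply, arrow_apply, Pi.inv_apply, inv_inv]
    have e : (b * a) • ((a * b)⁻¹ • x) = x := by rw [← mul_smul, hab, mul_inv_cancel, one_smul]
    rw [e]
  have hcF : ∀ x ∈ F, c x = fa x * fb x * (fa x)⁻¹ * (fb x)⁻¹ := by
    intro x hx
    have h1 : a⁻¹ • x = x := hfix _ (inv_mem haA) x hx
    have h2 : b⁻¹ • x = x := hfix _ (inv_mem hbA) x hx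
    rw [hceq, h1, h2]
    simp only [la, lb, if_pos hx, mul_inv_rev, mul_assoc]
  -- the other orbits give nothing
  have hrc : ∀ g ∈ A, ∀ x, q (g • x) = q x := fun g hg x =>
    Quotient.sound' (MulAction.orbitRel_apply.2 ⟨⟨g, hg⟩, rfl⟩)
  have hFq : ∀ g ∈ A, ∀ x, g • x ∈ F → x ∈ F := by
    intro g hg x hx
    have := hfix _ (inv_mem hg) _ hx
    rw [inv_smul_smul] at this
    exact this ▸ hx
  have horb : ∀ o, ∏ x ∈ (Finset.univ.filter fun x => x ∉ F ∧ q x = o),
      (⟨c x, hρker w0.1 w0.2 x⟩ : π.ker) = 1 := by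
    intro o
    set O := Finset.univ.filter fun x => x ∉ F ∧ q x = o with hO
    rcases O.eq_empty_or_nonempty with h0 | ⟨x1, hx1⟩
    · rw [h0, Finset.prod_empty]
    obtain ⟨hx1F, rfl⟩ := (Finset.mem_filter.1 hx1).2
    set y := r x1 with hy
    have hyF : y ∉ F := fun hy' => hx1F (by
      rw [← hh x1]
      exact (hfix _ (h x1).2 _ hy').symm ▸ hy')
    have hry : ∀ x ∈ O, r x = y := fun x hx => by
      simp only [r, hy, (Finset.mem_filter.1 hx).2.2]
    -- the stabiliser in `A` of the representative is cyclic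
    let B : Subgroup G := A ⊓ MulAction.stabilizer G y
    have hBcyc : IsCyclic B := by
      have hBA : B < A := lt_of_le_of_ne inf_le_left fun e => hyF ((hF y).2
        ⟨(e.ge haA).2, (e.ge hbA).2⟩)
      have hlt : Nat.card B < Nat.card A := by
        refine lt_of_le_of_ne (Subgroup.card_le_of_le hBA.le) fun e => hBA.ne ?_
        exact Subgroup.eq_of_le_of_card_ge hBA.le e.ge
      exact isCyclic_of_lt hA hpA hBA.le hlt
    haveI := hBcyc
    obtain ⟨u, hu⟩ := IsCyclic.exists_generator (α := B)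
    set u' := (t0 y)⁻¹ * (u : G) * t0 y with hu'
    have hcomm : ∀ d1 d2 : D, π d1 ∈ Subgroup.zpowers u' → π d2 ∈ Subgroup.zpowers u' →
        d1 * d2 = d2 * d1 := by
      intro d1 d2 h1 h2
      have hu0 : u' ∈ π.range := by
        rw [hrange, MulAction.mem_stabilizer_iff, hu', mul_smul, mul_smul, ht0,
          MulAction.mem_stabilizer_iff.1 u.2.2, inv_smul_eq_iff, ht0]
      obtain ⟨e, he⟩ := hu0
      have split : ∀ d, π d ∈ Subgroup.zpowers u' → ∃ (i : ℤ) (z : D), z ∈ π.ker ∧ d = e ^ i * z := by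
        intro d hd
        obtain ⟨i, hi⟩ := Subgroup.mem_zpowers_iff.1 hd
        exact ⟨i, (e ^ i)⁻¹ * d, by rw [MonoidHom.mem_ker, map_mul, map_inv, map_zpow, he, hi,
          inv_mul_cancel], (mul_inv_cancel_left _ _).symm⟩
      obtain ⟨i, z1, hz1, rfl⟩ := split d1 h1
      obtain ⟨j, z2, hz2, rfl⟩ := split d2 h2
      have c1 := Subgroup.mem_center_iff.1 (hcen hz1)
      have c2 := Subgroup.mem_center_iff.1 (hcen hz2)
      have k1 : ∀ d, Commute z1 d := fun d => (c1 d).symm
      have k2 : ∀ d, Commute z2 d := fun d => (c2 d).symm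
      exact (Commute.mul_left (((Commute.refl e).zpow_zpow i j).mul_right (k2 _).symm) (k1 _)).eq
    have hval : ∀ g ∈ A, ∀ x ∈ O, π (lift g x) ∈ Subgroup.zpowers u' := by
      intro g hg x hx
      have hx' := (Finset.mem_filter.1 hx).2
      have hgx : g⁻¹ • x ∈ O := Finset.mem_filter.2 ⟨Finset.mem_univ _,
        fun hh' => hx'.1 (hFq _ (inv_mem hg) x hh'), (hrc _ (inv_mem hg) x).trans hx'.2⟩
      have hgx' := (Finset.mem_filter.1 hgx).2
      rw [hlift]
      simp only [s, if_neg hx'.1, if_neg hgx'.1, hry x hx, hry _ hgx]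
      have hB : (h x : G)⁻¹ * g * (h (g⁻¹ • x) : G) ∈ B := by
        refine ⟨A.mul_mem (A.mul_mem (A.inv_mem (h x).2) hg) (h _).2, ?_⟩
        have e1 := hh x
        have e2 := hh (g⁻¹ • x)
        rw [hry x hx] at e1
        rw [hry _ hgx] at e2
        show ((h x : G)⁻¹ * g * (h (g⁻¹ • x) : G)) ∈ MulAction.stabilizer G y
        rw [MulAction.mem_stabilizer_iff, mul_smul, mul_smul, e2, smul_inv_smul,
          inv_smul_eq_iff, e1]
      obtain ⟨i, hi⟩ := Subgroup.mem_zpowers_iff.1 (hu ⟨_, hB⟩)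
      refine Subgroup.mem_zpowers_iff.2 ⟨i, ?_⟩
      have hi' := congrArg Subtype.val hi
      simp only [SubgroupClass.coe_zpow] at hi'
      rw [hu', show ((t0 y)⁻¹ * (u : G) * t0 y) ^ i = (t0 y)⁻¹ * (u : G) ^ i * t0 y by
        conv_lhs => rw [show (t0 y)⁻¹ * (u : G) * t0 y = MulAut.conj (t0 y)⁻¹ (u : G) by simp]
        rw [← map_zpow]; simp, hi', mul_inv_rev]
      group
    -- in an abelian preimage the product telescopes
    let E : Subgroup D := (Subgroup.zpowers u').comap π
    letI : CommGroup E :=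
      { (inferInstance : Group E) with
        mul_comm := fun d e => Subtype.ext (hcomm _ _ d.2 e.2) }
    have hOinv : ∀ g ∈ A, ∀ x, x ∈ O ↔ g • x ∈ O := by
      intro g hg x
      simp only [hO, Finset.mem_filter, Finset.mem_univ, true_and, hrc g hg]
      exact and_congr_left fun _ => ⟨fun hn h' => hn (hFq g hg x h'),
        fun hn h' => hn ((hfix g hg x h').symm ▸ h')⟩
    have hlaE : ∀ x ∈ O, la x ∈ E := fun x hx => by
      simp only [la, if_neg (Finset.mem_filter.1 hx).2.1]; exact hval a haA x hx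
    have hlbE : ∀ x ∈ O, lb x ∈ E := fun x hx => by
      simp only [lb, if_neg (Finset.mem_filter.1 hx).2.1]; exact hval b hbA x hx
    let La : X → E := fun x => if hx : la x ∈ E then ⟨la x, hx⟩ else 1
    let Lb : X → E := fun x => if hx : lb x ∈ E then ⟨lb x, hx⟩ else 1
    have hmove : ∀ (g : G), g ∈ A → ∀ f : X → E, ∏ x ∈ O, f (g⁻¹ • x) = ∏ x ∈ O, f x := fun g hg f =>
      Finset.prod_equiv (MulAction.toPerm g⁻¹) (fun x => hOinv _ (inv_mem hg) x) (fun x _ => rfl)
    have hprod : ∏ x ∈ O, La x * Lb (a⁻¹ • x) * (Lb x * La (b⁻¹ • x))⁻¹ = 1 := by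
      rw [Finset.prod_mul_distrib, Finset.prod_inv_distrib, Finset.prod_mul_distrib,
        Finset.prod_mul_distrib, hmove a haA Lb, hmove b hbA La, mul_comm (∏ x ∈ O, Lb x),
        mul_inv_cancel]
    let ι : π.ker →* E := π.ker.subtype.codRestrict E fun z => by
      show π z.1 ∈ Subgroup.zpowers u'
      rw [z.2]; exact one_mem _
    have hιi : Function.Injective ι := fun u v e => by
      have e' : (ι u).1 = (ι v).1 := congrArg Subtype.val e
      exact Subtype.ext e'
    refine hιi ?_
    rw [map_prod, map_one, ← hprod]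
    refine Finset.prod_congr rfl fun x hx => Subtype.ext ?_
    have hax : a⁻¹ • x ∈ O := (hOinv _ (inv_mem haA) x).1 hx
    have hbx : b⁻¹ • x ∈ O := (hOinv _ (inv_mem hbA) x).1 hx
    show c x = _
    rw [hceq]
    simp only [La, Lb, dif_pos (hlaE x hx), dif_pos (hlbE x hx), dif_pos (hlaE _ hbx),
      dif_pos (hlbE _ hax), Subgroup.coe_mul, Subgroup.coe_inv]
  have hw0 : Φ w0 ≠ 1 := by
    intro h1
    apply hne
    have e : Φ w0 = ∏ x, (⟨c x, hρker w0.1 w0.2 x⟩ : π.ker) := rfl
    rw [h1, ← Finset.prod_filter_mul_prod_filter_not Finset.univ (fun x => x ∈ F)] at e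
    have h0 : ∏ x ∈ (Finset.univ.filter fun x => ¬ x ∈ F),
        (⟨c x, hρker w0.1 w0.2 x⟩ : π.ker) = 1 := by
      rw [← Finset.prod_fiberwise (Finset.univ.filter fun x => ¬ x ∈ F) q]
      refine Finset.prod_eq_one fun o _ => ?_
      rw [Finset.filter_filter]
      exact horb o
    rw [h0, mul_one,
      show (Finset.univ.filter fun x => x ∈ F) = F.toFinset by ext x; simp,
      List.prod_toFinset _ hnd] at e
    have e' := congrArg (π.ker.subtype) e.symm
    rw [map_one, map_list_prod, List.map_map] at e'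
    rw [← e']
    congr 1
    exact List.map_congr_left fun x hx => (hcF x hx).symm
  refine ⟨W' ⧸ N, inferInstance, inferInstance, σ, ⟨hσs, hσc, ?_⟩, hkcard⟩
  -- the commutator of the lifts generates the kernel
  have hz : (w0.1 : W' ⧸ N) ∈ σ.ker ⊓ commutator (W' ⧸ N) := by
    refine ⟨w0.2, ?_⟩
    have e : (w0.1 : W' ⧸ N) = ⁅(wa : W' ⧸ N), (wb : W' ⧸ N)⁆ := by
      show (((wa * wb) * (wb * wa)⁻¹ : W') : W' ⧸ N) = _
      rw [QuotientGroup.mk_mul, QuotientGroup.mk_inv, QuotientGroup.mk_mul, QuotientGroup.mk_mul,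
        commutatorElement_def, mul_inv_rev, mul_assoc, mul_assoc]
      simp [mul_assoc]
    rw [e]
    exact Subgroup.commutator_mem_commutator (Subgroup.mem_top _) (Subgroup.mem_top _)
  have hne1 : (w0.1 : W' ⧸ N) ≠ 1 := fun e => hw0 (by
    have : w0 ∈ θ.ker := Subtype.ext e
    rwa [hθk] at this)
  haveI : Fact (Nat.card σ.ker).Prime := ⟨hkcard ▸ hp⟩
  rcases ((commutator (W' ⧸ N)).subgroupOf σ.ker).eq_bot_or_eq_top_of_prime_card with e | e
  · exfalso
    have : (⟨_, hz.1⟩ : σ.ker) ∈ (commutator (W' ⧸ N)).subgroupOf σ.ker := hz.2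
    rw [e, Subgroup.mem_bot] at this
    exact hne1 (congrArg Subtype.val this)
  · exact Subgroup.subgroupOf_eq_top.1 e

end H97.Transfer
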